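import Cfsg.Agent.SmallGroups.PrimeSylow
import Cfsg.Agent.S0904

/-!
# Simple groups of order `p ^ a * q ^ b * r`: the Sylow `r`-subgroup data
-/

set_option autoImplicit false

namespace Cfsg.Agent.SmallGroups

open Subgroup

/-- In a simple group of order `p ^ a * q ^ b * r` there are `n` Sylow `r`-subgroups, each
self-centralizing, with normalizer of order `r * k`. -/
theorem exists_threePrime_data {G : Type*} [Group G] [Finite G] [IsSimpleGroup G]
    (hG : ¬ IsMulCommutative G) {p q r a b : ℕ} (hp : p.Prime) (hq : q.Prime) [hr : Fact r.Prime]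
    (hpq : p ≠ q) (hpr : p ≠ r) (hqr : q ≠ r) (h : Nat.card G = p ^ a * q ^ b * r) :
    ∃ n k : ℕ, Nat.card (Sylow r G) = n ∧ n % r = 1 ∧ 1 < n ∧ k ∣ r - 1 ∧ 1 < k ∧
      n * k = p ^ a * q ^ b ∧
      (∀ P : Sylow r G, Nat.card ↥(P : Subgroup G) = r) ∧
      (∀ P : Sylow r G, Nat.card ↥(centralizer ((P : Subgroup G) : Set G)) = r) ∧
      ∀ P : Sylow r G, Nat.card ↥(normalizer ((P : Subgroup G) : Set G)) = r * k := by
  have hm : ¬ r ∣ p ^ a * q ^ b := by
    intro hd
    rcases hr.out.dvd_mul.mp hd with h' | h'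
    · exact hpr ((Nat.prime_dvd_prime_iff_eq hr.out hp).mp (hr.out.dvd_of_dvd_pow h')).symm
    · exact hqr ((Nat.prime_dvd_prime_iff_eq hr.out hq).mp (hr.out.dvd_of_dvd_pow h')).symm
  obtain ⟨n, k, c, hn, hn', hk, hnkc, hP, hC, hN⟩ :=
    exists_primeSylow_data hG (h.trans (mul_comm _ r)) hm
  obtain ⟨P⟩ := (inferInstance : Nonempty (Sylow r G))
  have hc : c = 1 := by
    have h1 : Nat.card ↥(centralizer ((P : Subgroup G) : Set G)) = r := by
      have h2 := Cfsg.Agent.S0904.result p q r a b hp hq hpq hpr hqr h P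
      exact (Nat.card_congr (MulEquiv.subgroupCongr h2).toEquiv).trans (hP P)
    rw [hC P] at h1
    exact Nat.eq_of_mul_eq_mul_left hr.out.pos (h1.trans (mul_one r).symm)
  subst hc
  simp only [Finset.mem_filter, Nat.mem_divisors] at hn' hk
  exact ⟨n, k, hn, hn'.2.1, hn'.2.2, hk.1.1, hk.2, by simpa using hnkc, hP,
    fun P => (hC P).trans (mul_one r), fun P => by rw [hN P, mul_one]⟩

end Cfsg.Agent.SmallGroups
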