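import Cfsg.Agent.SmallGroups.Exceptional
import Cfsg.Agent.SmallGroups.ThreePrimes
import Cfsg.Agent.BlocksChar.ClassProd
import Cfsg.Agent.Char.Orthogonality

/-!
# Values of the principal series at involutions

For `P` of odd prime order `p` with `C(P) = P` and an involution `g`,
`|G| * Σ a_χ χ(g) ^ 2 / χ(1)` is `0` or `p * |C(g)| ^ 2`, where `Ind (1 - λ) = Σ a_χ χ`.
-/

set_option autoImplicit false
set_option linter.style.haveILetI false
set_option linter.unusedSectionVars false

noncomputable section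

open scoped ComplexConjugate BigOperators
open Finset Cfsg.Agent.CharInd

namespace Cfsg.Agent.SmallGroups.Exceptional

universe u

variable {G : Type u} [Group G] [Fintype G]

theorem card_conj_fiber (g k₀ : G) [DecidableEq G] :
    (Finset.univ.filter fun k : G => k * g * k⁻¹ = k₀ * g * k₀⁻¹).card =
      Nat.card ↥(Subgroup.centralizer ({g} : Set G)) := by
  rw [← Fintype.card_subtype, ← Nat.card_eq_fintype_card]
  refine Nat.card_congr
    { toFun := fun k => ⟨k₀⁻¹ * k.1, ?_⟩
      invFun := fun c => ⟨k₀ * c, ?_⟩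
      left_inv := fun k => Subtype.ext (by simp)
      right_inv := fun c => Subtype.ext (by simp) }
  · rw [Subgroup.mem_centralizer_singleton_iff]
    calc k₀⁻¹ * k.1 * g = k₀⁻¹ * (k.1 * g * k.1⁻¹) * k.1 := by group
      _ = k₀⁻¹ * (k₀ * g * k₀⁻¹) * k.1 := by rw [k.2]
      _ = g * (k₀⁻¹ * k.1) := by group
  · have hc := Subgroup.mem_centralizer_singleton_iff.mp c.2
    calc k₀ * c * g * (k₀ * c)⁻¹ = k₀ * ((c : G) * g) * (c : G)⁻¹ * k₀⁻¹ := by group
      _ = k₀ * g * k₀⁻¹ := by rw [hc]; group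

theorem card_centralizer_conj (g y : G) :
    Nat.card ↥(Subgroup.centralizer ({y⁻¹ * g * y} : Set G)) =
      Nat.card ↥(Subgroup.centralizer ({g} : Set G)) := by
  refine Nat.card_congr
    { toFun := fun c => ⟨y * c * y⁻¹, ?_⟩
      invFun := fun c => ⟨y⁻¹ * c * y, ?_⟩
      left_inv := fun c => Subtype.ext (by simp [mul_assoc])
      right_inv := fun c => Subtype.ext (by simp [mul_assoc]) }
  · have hc := Subgroup.mem_centralizer_singleton_iff.mp c.2
    rw [Subgroup.mem_centralizer_singleton_iff]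
    calc y * c * y⁻¹ * g = y * ((c : G) * (y⁻¹ * g * y)) * y⁻¹ := by group
      _ = g * (y * c * y⁻¹) := by rw [hc]; group
  · have hc := Subgroup.mem_centralizer_singleton_iff.mp c.2
    rw [Subgroup.mem_centralizer_singleton_iff]
    calc y⁻¹ * c * y * (y⁻¹ * g * y) = y⁻¹ * ((c : G) * g) * y := by group
      _ = y⁻¹ * g * y * (y⁻¹ * c * y) := by rw [hc]; group

/-- The value of a character at an involution is an integer of the parity of the degree. -/
theorem exists_involution_value {χ : G → ℂ} (hχ : Cfsg.IsCharacter G χ) {f : ℕ} (hf : χ 1 = f)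
    {g : G} (hg : orderOf g = 2) : ∃ v : ℤ, χ g = v ∧ ∃ i, i ≤ f ∧ v = 2 * i - f := by
  classical
  obtain ⟨n, ρ, rfl⟩ := hχ
  obtain ⟨η, hη, hpow⟩ := Char.exists_character_eq_sum_roots ρ g
  have hdim : Module.finrank ℂ (Fin n → ℂ) = f := by
    have := ρ.char_one.symm.trans hf
    exact_mod_cast this
  let s := Finset.univ.filter fun i => η i = 1
  refine ⟨2 * (s.card : ℤ) - f, ?_, s.card, ?_, rfl⟩
  · have h1 := hpow 1
    simp only [pow_one] at h1
    have h2 : ∀ i, η i = 2 * (if η i = 1 then (1 : ℂ) else 0) - 1 := by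
      intro i
      rcases eq_or_ne (η i) 1 with h | h
      · rw [if_pos h, h]; ring
      · rw [if_neg h]
        have := hη i
        rw [hg, sq_eq_one_iff] at this
        rw [this.resolve_left h]; ring
    rw [h1, Finset.sum_congr rfl fun i _ => h2 i, Finset.sum_sub_distrib, ← Finset.mul_sum,
      Finset.sum_boole, Finset.sum_const, Finset.card_univ, Fintype.card_fin, nsmul_one]
    simp [s, hdim]
  · calc s.card ≤ (Finset.univ : Finset (Fin _)).card := Finset.card_le_univ _
      _ = f := by rw [Finset.card_univ, Fintype.card_fin, hdim]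

/-- An involution of a non-commutative simple group is not in the kernel of an irreducible
character of degree `> 1`. -/
theorem value_ne_degree [IsSimpleGroup G] {χ : G → ℂ} (hχ : Cfsg.IsIrrCharacter G χ) {f : ℕ}
    (hf : χ 1 = f) (hf1 : 1 < f) {g : G} (hg : orderOf g = 2) : χ g ≠ f := by
  classical
  intro hval
  obtain ⟨n, ρ, hρ, rfl⟩ := hχ
  haveI := hρ
  obtain ⟨b, η, hb, hη⟩ := Char.exists_eigenbasis ρ g
  have hdim : Module.finrank ℂ (Fin n → ℂ) = f := by
    have := ρ.char_one.symm.trans hf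
    exact_mod_cast this
  have hsq : ∀ i, η i = 1 ∨ η i = -1 := fun i => sq_eq_one_iff.mp (hg ▸ hη i)
  have hall : ∀ i, η i = 1 := by
    intro i
    have h1 := Char.character_pow_eq_sum ρ hb 1
    simp only [pow_one] at h1
    rw [hval] at h1
    have h2 := congrArg Complex.re h1
    rw [Complex.re_sum, Complex.natCast_re] at h2
    have h3 : ∑ j, (1 - (η j).re) = 0 := by
      rw [Finset.sum_sub_distrib, ← h2]
      simp [hdim]
    have h4 := (Finset.sum_eq_zero_iff_of_nonneg fun j _ => by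
      rcases hsq j with h | h <;> rw [h] <;> norm_num).mp h3 i (Finset.mem_univ i)
    rcases hsq i with h | h
    · exact h
    · rw [h] at h4; norm_num at h4
  have hρg : ρ g = 1 := b.ext fun i => by rw [hb, hall, one_smul, Module.End.one_apply]
  rcases SmallGroups.injective_or_trivial ρ.toHomUnits with hi | htriv
  · have : g = 1 := hi (Units.ext (by simpa using hρg.trans (map_one ρ).symm))
    rw [this, orderOf_one] at hg
    omega
  · have hconst : ρ.character = fun _ : G => (f : ℂ) := by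
      funext x
      have hx : ρ x = 1 := by
        have := congrArg Units.val (htriv x)
        simpa using this
      rw [Representation.character, hx, LinearMap.trace_one, hdim]
    have h1 := CharInd.classInner_irr_self (Char.isIrrCharacter_character ρ)
    rw [hconst, Cfsg.classInner] at h1
    simp only [map_natCast, Finset.sum_const, Finset.card_univ, nsmul_eq_mul,
      ← Nat.card_eq_fintype_card] at h1
    rw [inv_mul_cancel_left₀ Char.card_ne_zero_complex] at h1
    have h2 : f * f = 1 := by exact_mod_cast h1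
    nlinarith

theorem exists_involution_value_lt [IsSimpleGroup G] {χ : G → ℂ}
    (hχ : Cfsg.IsIrrCharacter G χ) {f : ℕ} (hf : χ 1 = f) {g : G} (hg : orderOf g = 2) :
    ∃ v : ℤ, χ g = v ∧ (∃ i, i ≤ f ∧ v = 2 * i - f) ∧
      (1 < f → ∃ i, i < f ∧ v = 2 * i - f) := by
  obtain ⟨v, hv, i, hi, rfl⟩ := exists_involution_value (Char.isCharacter_of_irr hχ) hf hg
  refine ⟨_, hv, ⟨i, hi, rfl⟩, fun hf1 => ⟨i, lt_of_le_of_ne hi fun h => ?_, rfl⟩⟩
  refine value_ne_degree hχ hf hf1 hg (hv.trans ?_)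
  subst h
  push_cast
  ring

section prime

variable (P : Subgroup G) {p : ℕ} (hp : p.Prime) (hp2 : p ≠ 2) (hP : Nat.card ↥P = p)
  (hC : Nat.card ↥(Subgroup.centralizer (P : Set G)) = p)

include hp hp2 hP

theorem conj_notMem_of_involution {g : G} (hg : orderOf g = 2) (y : G) : y⁻¹ * g * y ∉ P := by
  intro h
  have h1 := Subgroup.orderOf_dvd_natCard P h
  rw [hP, show y⁻¹ * g * y = (MulAut.conj y⁻¹) g by simp,
    (MulAut.conj y⁻¹).orderOf_eq, hg] at h1
  exact hp2 ((Nat.prime_dvd_prime_iff_eq Nat.prime_two hp).mp h1).symm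

include hC

theorem inverts_of_involution {u : G} (hu : orderOf u = 2)
    (huN : u ∈ Subgroup.normalizer (P : Set G)) {x : G} (hx : x ∈ P) : u⁻¹ * x * u = x⁻¹ := by
  haveI := Fact.mk hp
  have hPC : Subgroup.centralizer (P : Set G) = P := by
    have := isMulCommutative_subgroup P hp hP
    exact (Subgroup.eq_of_le_of_card_ge (Subgroup.le_centralizer P) (by rw [hC, hP])).symm
  have huu : u * u = 1 := by rw [← pow_two, ← hu]; exact pow_orderOf_eq_one u
  have hxu : u⁻¹ * x * u ∈ P := (Subgroup.mem_normalizer_iff''.mp huN x).mp hx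
  set z := x * (u⁻¹ * x * u) with hz
  have hzP : z ∈ P := P.mul_mem hx hxu
  have hcomm : x * (u⁻¹ * x * u) = u⁻¹ * x * u * x := by
    have hm : u⁻¹ * x * u ∈ Subgroup.centralizer (P : Set G) := by rw [hPC]; exact hxu
    exact hm x hx
  have hui : u⁻¹ = u := inv_eq_of_mul_eq_one_right huu
  have hzu : Commute z u := by
    show z * u = u * z
    calc z * u = x * (u⁻¹ * x) * (u * u) := by rw [hz]; group
      _ = x * u * x := by rw [huu, hui]; group
      _ = u * (u⁻¹ * x * u * x) := by group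
      _ = u * z := by rw [← hcomm]
  by_contra hne
  have hz1 : z ≠ 1 := fun h => hne ((inv_eq_of_mul_eq_one_right h).symm)
  refine conj_notMem_of_involution P hp hp2 hP hu 1 (by
    rw [inv_one, one_mul, mul_one, ← hPC]
    intro w hw
    obtain ⟨i, hi⟩ := Subgroup.mem_zpowers_iff.mp (mem_zpowers_of_prime_card hP
      (g := (⟨z, hzP⟩ : ↥P)) (g' := ⟨w, hw⟩) fun h => hz1 (congrArg Subtype.val h))
    have hw' : w = z ^ i := by simpa using (congrArg Subtype.val hi).symm
    rw [hw']
    exact (hzu.zpow_left i).eq)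

/-- An element of `P` is a product of an involution of `N(P)` with one of its conjugates. -/
theorem exists_conj_eq_mul {u : G} (hu : orderOf u = 2)
    (huN : u ∈ Subgroup.normalizer (P : Set G)) {x : G} (hx : x ∈ P) :
    ∃ k : G, k * u * k⁻¹ = u * x := by
  have hx1 : x ^ p = 1 := by
    rw [← hP]
    exact orderOf_dvd_iff_pow_eq_one.mp (Subgroup.orderOf_dvd_natCard P hx)
  obtain ⟨m, hm⟩ := hp.odd_of_ne_two hp2
  refine ⟨x ^ m, ?_⟩
  have hinv := inverts_of_involution P hp hp2 hP hC hu huN (P.pow_mem hx m)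
  have hku : x ^ m * u = u * (x ^ m)⁻¹ := by rw [← hinv]; group
  rw [hku, mul_assoc]
  congr 1
  rw [← mul_inv_rev, ← pow_add, inv_eq_iff_mul_eq_one, ← pow_succ, show m + m + 1 = p by omega, hx1]

theorem sum_ext_conj (l : ↥P →* ℂˣ) (hl : l ≠ 1) {u : G} (hu : orderOf u = 2) :
    (u ∉ Subgroup.normalizer (P : Set G) →
      ∑ k : G, Cfsg.extendByZero P (dfun P l) (u * (k * u * k⁻¹)) = 0) ∧
    (u ∈ Subgroup.normalizer (P : Set G) →
      ∑ k : G, Cfsg.extendByZero P (dfun P l) (u * (k * u * k⁻¹)) =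
        (Nat.card ↥(Subgroup.centralizer ({u} : Set G)) : ℂ) * p) := by
  classical
  letI : Fintype ↥P := Fintype.ofFinite _
  have huu : u * u = 1 := by rw [← pow_two, ← hu]; exact pow_orderOf_eq_one u
  have hui : u⁻¹ = u := inv_eq_of_mul_eq_one_right huu
  constructor
  · intro huN
    refine Finset.sum_eq_zero fun k _ => ?_
    by_cases hz : u * (k * u * k⁻¹) ∈ P
    · rw [extendByZero_mem P _ hz]
      by_cases hz1 : u * (k * u * k⁻¹) = 1
      · rw [show (⟨_, hz⟩ : ↥P) = 1 from Subtype.ext hz1, dfun_one]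
      · refine absurd (mem_normalizer_of_conj_mem P hp hP hz hz1 ?_) huN
        have : u⁻¹ * (u * (k * u * k⁻¹)) * u = (u * (k * u * k⁻¹))⁻¹ := by
          simp only [mul_inv_rev, inv_inv, hui, mul_assoc]
          rw [← mul_assoc u u, huu, one_mul]
        rw [this]
        exact P.inv_mem hz
    · exact extendByZero_notMem P _ hz
  · intro huN
    rw [← Finset.sum_fiberwise Finset.univ (fun k : G => u * (k * u * k⁻¹))]
    have hfib : ∀ z : G, ∑ k ∈ Finset.univ.filter (fun k : G => u * (k * u * k⁻¹) = z),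
        Cfsg.extendByZero P (dfun P l) (u * (k * u * k⁻¹)) =
        (Nat.card ↥(Subgroup.centralizer ({u} : Set G)) : ℂ) *
          Cfsg.extendByZero P (dfun P l) z := by
      intro z
      rw [Finset.sum_congr rfl fun k hk => by rw [(Finset.mem_filter.mp hk).2],
        Finset.sum_const, nsmul_eq_mul]
      by_cases hz : z ∈ P
      · obtain ⟨k₀, hk₀⟩ := exists_conj_eq_mul P hp hp2 hP hC hu huN hz
        congr 2
        rw [← card_conj_fiber u k₀]
        congr 1
        ext k
        simp only [Finset.mem_filter, Finset.mem_univ, true_and, hk₀]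
        constructor
        · intro h; rw [← h, ← mul_assoc, huu, one_mul]
        · intro h; rw [h, ← mul_assoc, huu, one_mul]
      · rw [extendByZero_notMem P _ hz, mul_zero, mul_zero]
    rw [Finset.sum_congr rfl fun z _ => hfib z, ← Finset.mul_sum, sum_extendByZero]
    congr 1
    simp only [dfun_apply, Finset.sum_sub_distrib, Char.monoidHom_sum_eq_zero hl, sub_zero,
      Finset.sum_const, Finset.card_univ, ← Nat.card_eq_fintype_card, hP, nsmul_one]

/-- The class product sum of `Ind (1 - λ)` at an involution. -/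
theorem sum_alpha_conj (l : ↥P →* ℂˣ) (hl : l ≠ 1) {g : G} (hg : orderOf g = 2) :
    (∑ h : G, alpha P l (g * (h * g * h⁻¹)) = 0 ∧ g ∉ Subgroup.normalizer (P : Set G)) ∨
      ∑ h : G, alpha P l (g * (h * g * h⁻¹)) =
        (p : ℂ) * (Nat.card ↥(Subgroup.centralizer ({g} : Set G)) : ℂ) ^ 2 := by
  classical
  letI : Fintype ↥P := Fintype.ofFinite _
  have hp0 : (p : ℂ) ≠ 0 := Nat.cast_ne_zero.mpr hp.ne_zero
  have hord : ∀ y : G, orderOf (y⁻¹ * g * y) = 2 := fun y => by
    rw [show y⁻¹ * g * y = (MulAut.conj y⁻¹) g by simp,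
      (MulAut.conj y⁻¹).orderOf_eq, hg]
  have key : ∑ h : G, alpha P l (g * (h * g * h⁻¹)) = (p : ℂ)⁻¹ * ∑ y : G, ∑ k : G,
      Cfsg.extendByZero P (dfun P l) (y⁻¹ * g * y * (k * (y⁻¹ * g * y) * k⁻¹)) := by
    simp only [alpha, indFun_apply, hP, ← Finset.mul_sum]
    rw [Finset.sum_comm]
    congr 1
    refine Finset.sum_congr rfl fun y _ => ?_
    refine Fintype.sum_equiv (MulAut.conj y⁻¹).toEquiv _ _ fun h => ?_
    congr 1
    simp [mul_assoc]
  rw [key]
  let Y := Finset.univ.filter fun y : G => y⁻¹ * g * y ∈ Subgroup.normalizer (P : Set G)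
  set C := Nat.card ↥(Subgroup.centralizer ({g} : Set G)) with hCdef
  have hsum : ∑ y : G, ∑ k : G,
      Cfsg.extendByZero P (dfun P l) (y⁻¹ * g * y * (k * (y⁻¹ * g * y) * k⁻¹)) =
      (Y.card : ℂ) * ((C : ℂ) * p) := by
    rw [← nsmul_eq_mul, ← Finset.sum_const, Finset.sum_filter]
    refine Finset.sum_congr rfl fun y _ => ?_
    split_ifs with h
    · rw [(sum_ext_conj P hp hp2 hP hC l hl (hord y)).2 h, card_centralizer_conj]
    · exact (sum_ext_conj P hp hp2 hP hC l hl (hord y)).1 h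
  rw [hsum]
  rcases Y.eq_empty_or_nonempty with h | ⟨y₀, hy₀⟩
  · refine Or.inl ⟨by simp [h], fun hgN => Finset.notMem_empty (1 : G) (h ▸ ?_)⟩
    simp [Y, hgN]
  right
  have hu₀ : y₀⁻¹ * g * y₀ ∈ Subgroup.normalizer (P : Set G) := (Finset.mem_filter.mp hy₀).2
  set u := y₀⁻¹ * g * y₀ with hu
  have huu : u * u = 1 := by rw [← pow_two, ← hord y₀]; exact pow_orderOf_eq_one u
  have hfib : ∀ x : ↥P, (Finset.univ.filter fun y : G => y⁻¹ * g * y = u * x).card = C := by
    intro x
    obtain ⟨k, hk⟩ := exists_conj_eq_mul P hp hp2 hP hC (hord y₀) hu₀ x.2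
    rw [hCdef, ← card_conj_fiber g (k * y₀⁻¹)]
    refine Finset.card_equiv (Equiv.inv G) fun y => ?_
    simp only [Finset.mem_filter, Finset.mem_univ, true_and, Equiv.inv_apply, inv_inv]
    have : k * y₀⁻¹ * g * (k * y₀⁻¹)⁻¹ = u * (x : G) := by rw [← hk]; group
    rw [this]
  have hYcard : Y.card = p * C := by
    have hY : Y = Finset.univ.biUnion fun x : ↥P =>
        Finset.univ.filter fun y : G => y⁻¹ * g * y = u * x := by
      ext y
      simp only [Y, Finset.mem_filter, Finset.mem_univ, true_and, Finset.mem_biUnion]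
      constructor
      · intro hy
        have hPC : Subgroup.centralizer (P : Set G) = P := by
          have := isMulCommutative_subgroup P hp hP
          exact (Subgroup.eq_of_le_of_card_ge (Subgroup.le_centralizer P) (by rw [hC, hP])).symm
        refine ⟨⟨u * (y⁻¹ * g * y), ?_⟩, by simp only; rw [← mul_assoc, huu, one_mul]⟩
        rw [← hPC]
        intro w hw
        have h1 := inverts_of_involution P hp hp2 hP hC (hord y₀) hu₀ hw
        have h2 := inverts_of_involution P hp hp2 hP hC (hord y) hy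
          ((Subgroup.mem_normalizer_iff''.mp hu₀ w).mp hw)
        rw [h1] at h2
        set v := y⁻¹ * g * y with hv
        have h3 : v⁻¹ * (u⁻¹ * w * u) * v = w := by rw [h1, h2, inv_inv]
        calc w * (u * v) = u * (u⁻¹ * w * u) * v := by group
          _ = u * v * (v⁻¹ * (u⁻¹ * w * u) * v) := by group
          _ = u * v * w := by rw [h3]
      · rintro ⟨x, hx⟩
        rw [hx]
        exact Subgroup.mul_mem _ hu₀ (Subgroup.le_normalizer x.2)
    rw [hY, Finset.card_biUnion fun x _ x' _ hxx' => ?_, Finset.sum_congr rfl fun x _ => hfib x,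
      Finset.sum_const, Finset.card_univ, ← Nat.card_eq_fintype_card, hP, smul_eq_mul]
    rw [Function.onFun, Finset.disjoint_left]
    intro y hy hy'
    exact hxx' (Subtype.ext (mul_left_cancel
      ((Finset.mem_filter.mp hy).2.symm.trans (Finset.mem_filter.mp hy').2)))
  rw [hYcard]
  push_cast
  field_simp

/-- The three identities at an involution for the coefficients of `Ind (1 - λ)`. -/
theorem coeff_involution [Fintype (Cfsg.IrrCharacter G)] {l : ↥P →* ℂˣ} (hl : l ≠ 1)
    {a : Cfsg.IrrCharacter G → ℤ}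
    (ha : alpha P l = ∑ χ : Cfsg.IrrCharacter G, (a χ : ℂ) • (χ : G → ℂ))
    {g : G} (hg : orderOf g = 2) :
    ∑ χ : Cfsg.IrrCharacter G, (a χ : ℂ) * (χ : G → ℂ) g = 0 ∧
    (((Nat.card G : ℂ) * ∑ χ : Cfsg.IrrCharacter G,
        (a χ : ℂ) * ((χ : G → ℂ) g ^ 2 / (χ : G → ℂ) 1) = 0 ∧
      g ∉ Subgroup.normalizer (P : Set G)) ∨
      (Nat.card G : ℂ) * ∑ χ : Cfsg.IrrCharacter G,
        (a χ : ℂ) * ((χ : G → ℂ) g ^ 2 / (χ : G → ℂ) 1) =
        (p : ℂ) * (Nat.card ↥(Subgroup.centralizer ({g} : Set G)) : ℂ) ^ 2) := by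
  have h0 := congrFun ha g
  rw [alpha_eq_zero_of_conj_notMem P l (conj_notMem_of_involution P hp hp2 hP hg),
    Finset.sum_apply] at h0
  refine ⟨by simpa using h0.symm, ?_⟩
  have h := sum_alpha_conj P hp hp2 hP hC l hl hg
  have e1 : ∑ h : G, alpha P l (g * (h * g * h⁻¹)) = (Nat.card G : ℂ) * ∑ χ : Cfsg.IrrCharacter G,
      (a χ : ℂ) * ((χ : G → ℂ) g ^ 2 / (χ : G → ℂ) 1) := by
    simp only [ha, Finset.sum_apply, Pi.smul_apply, smul_eq_mul]
    rw [Finset.sum_comm, Finset.mul_sum]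
    refine Finset.sum_congr rfl fun χ _ => ?_
    rw [← Finset.mul_sum, BlocksChar.sum_conj_mul χ.2 g g]
    ring
  rwa [e1] at h

end prime

/-- The squares of the values at an involution add up to the order of the centralizer. -/
theorem sum_sq_involution [Fintype (Cfsg.IrrCharacter G)] (g : G)
    (w : Cfsg.IrrCharacter G → ℤ) (hw : ∀ χ : Cfsg.IrrCharacter G, (χ : G → ℂ) g = w χ) :
    ∑ χ : Cfsg.IrrCharacter G, (w χ : ℝ) ^ 2 =
      (Nat.card ↥(Subgroup.centralizer ({g} : Set G)) : ℝ) := by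
  classical
  have h := Char.sum_irr_mul_conj g g
  rw [if_pos (IsConj.refl g)] at h
  simp only [hw, map_intCast, ← pow_two] at h
  exact_mod_cast (by convert h using 2; exact Finset.ext fun _ => by simp : (∑ χ : Cfsg.IrrCharacter G, (w χ : ℂ) ^ 2) =
    (Nat.card ↥(Subgroup.centralizer ({g} : Set G)) : ℂ))

theorem centralizer_lt [IsSimpleGroup G] (hG : ¬ IsMulCommutative G) {g : G}
    (hg : orderOf g = 2) : Nat.card ↥(Subgroup.centralizer ({g} : Set G)) < Nat.card G := by
  refine lt_of_le_of_ne (Subgroup.card_le_card_group _) fun h => ?_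
  have htop := Subgroup.eq_top_of_card_eq _ h
  have hmem : g ∈ Subgroup.center G := Subgroup.mem_center_iff.mpr fun y =>
    Subgroup.mem_centralizer_singleton_iff.mp (htop ▸ Subgroup.mem_top y)
  rw [SmallGroups.center_eq_bot hG, Subgroup.mem_bot] at hmem
  rw [hmem, orderOf_one] at hg
  omega

section prime

variable (P : Subgroup G) {p e : ℕ} (hp : p.Prime) (hp2 : p ≠ 2) (hP : Nat.card ↥P = p)
  (hC : Nat.card ↥(Subgroup.centralizer (P : Set G)) = p)
  (hN : Nat.card ↥(Subgroup.normalizer (P : Set G)) = p * e)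

include hp hp2 hP hC hN

/-- Degrees and values at involutions of the principal series. -/
theorem exists_involution_data [IsSimpleGroup G] (hG : ¬ IsMulCommutative G) {t : ℕ} (he : 0 < e)
    (ht : p - 1 = e * t) (ht2 : 2 ≤ t) :
    ∃ (ε b : ℤ) (d : ℕ) (L : List (ℕ × ℤ)), (ε = 1 ∨ ε = -1) ∧
      (1 < d ∧ d ∣ Nat.card G ∧ (p : ℤ) ∣ (d : ℤ) - (b - e * ε)) ∧
      (∀ x ∈ L, 1 < x.1 ∧ x.1 ∣ Nat.card G ∧ (p : ℤ) ∣ (x.1 : ℤ) - x.2 ∧ x.2 ≠ 0) ∧
      (b + ε) ^ 2 + ((t : ℤ) - 1) * b ^ 2 + (L.map fun x => x.2 ^ 2).sum = e ∧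
      1 + (t * b + ε) * d + (L.map fun x => x.2 * (x.1 : ℤ)).sum = 0 ∧
      1 + t * d ^ 2 + (L.map fun x => x.1 ^ 2).sum ≤ Nat.card G ∧
      ∀ g : G, orderOf g = 2 → ∃ (u : ℤ) (V : List (ℕ × ℤ × ℤ)),
        V.map (fun x => (x.1, x.2.1)) = L ∧ (∃ i, i < d ∧ u = 2 * i - d) ∧
        (∀ x ∈ V, ∃ i, i < x.1 ∧ x.2.2 = 2 * i - x.1) ∧
        1 + (t * b + ε) * u + (V.map fun x => x.2.1 * x.2.2).sum = 0 ∧
        1 + t * u ^ 2 + (V.map fun x => x.2.2 ^ 2).sum ≤
          (Nat.card ↥(Subgroup.centralizer ({g} : Set G)) : ℤ) ∧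
        (let S : ℚ := 1 + (t * b + ε : ℤ) * ((u : ℚ) ^ 2 / d) +
          (V.map fun x => (x.2.1 : ℚ) * ((x.2.2 : ℚ) ^ 2 / x.1)).sum
         (Nat.card G : ℚ) * S = 0 ∨ (Nat.card G : ℚ) * S =
          p * (Nat.card ↥(Subgroup.centralizer ({g} : Set G)) : ℚ) ^ 2) := by
  classical
  haveI : Finite (Cfsg.IrrCharacter G) := finite_irrCharacter
  letI : Fintype (Cfsg.IrrCharacter G) := Fintype.ofFinite _
  choose dg hdg0 hdg hdgdvd using fun χ : Cfsg.IrrCharacter G => Char.irr_degree_dvd_card χ.2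
  obtain ⟨l, ε, b, M, i₀, a, L, ⟨hl, hexp⟩, hε, hdM, hd, hL, hvan, hn, hF, hFle⟩ :=
    exists_char_data P hp hP hC hN hG he ht ht2 dg hdg
  have hdgT : dg (Char.trivialIrr G) = 1 := by
    have h := (hdg (Char.trivialIrr G)).symm.trans
      (show ((Char.trivialIrr G : Cfsg.IrrCharacter G) : G → ℂ) 1 = 1 from rfl)
    exact_mod_cast h
  refine ⟨ε, b, dg (M i₀), L.map fun χ => (dg χ, a χ), hε, ⟨hd.1, hdgdvd _, hd.2⟩, ?_, ?_, ?_, ?_,
    ?_⟩
  · intro x hx
    obtain ⟨χ, hχ, rfl⟩ := List.mem_map.mp hx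
    exact ⟨(hL χ hχ).1, hdgdvd χ, (hL χ hχ).2.1, (hL χ hχ).2.2⟩
  · simpa [List.map_map, Function.comp_def] using hn
  · have h := hF (fun χ => ((dg χ : ℤ) : ℂ)) fun i => by rw [hdM i]
    have h0 := congrFun hexp 1
    rw [alpha_one, Finset.sum_apply] at h0
    simp only [Pi.smul_apply, smul_eq_mul, hdg] at h0
    have h1 : (((1 + ((t : ℤ) * b + ε) * dg (M i₀) +
        (L.map fun χ => a χ * (dg χ : ℤ)).sum : ℤ)) : ℂ) = ((0 : ℤ) : ℂ) := by
      push_cast [Int.cast_list_sum, List.map_map, Function.comp_def] at h h0 ⊢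
      rw [h0, h, hdgT]
      push_cast
      ring
    simpa [List.map_map, Function.comp_def] using (Int.cast_inj.mp h1)
  · have htot : ∑ χ : Cfsg.IrrCharacter G, (dg χ : ℝ) ^ 2 = Nat.card G := by
      have h := Char.sum_irr_degree_sq (G := G)
      simp only [hdg] at h
      exact_mod_cast h
    have h := hFle (fun χ => (dg χ : ℝ) ^ 2) fun χ => sq_nonneg _
    simp only [htot, hdM, hdgT, Finset.sum_const, Finset.card_univ, Fintype.card_fin] at h
    have h' : ((1 + t * dg (M i₀) ^ 2 + (L.map fun χ => dg χ ^ 2).sum : ℕ) : ℝ) ≤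
        ((Nat.card G : ℕ) : ℝ) := by
      push_cast [Nat.cast_list_sum, List.map_map, Function.comp_def]
      simpa using h
    simpa [List.map_map, Function.comp_def] using (Nat.cast_le.mp h')
  intro g hg
  choose w hw hwi hwlt using fun χ : Cfsg.IrrCharacter G =>
    exists_involution_value_lt χ.2 (hdg χ) hg
  have hwM : ∀ i, w (M i) = w (M i₀) := by
    intro i
    have h := hvan g (conj_notMem_of_involution P hp hp2 hP hg) i
    rw [hw, hw] at h
    exact_mod_cast h
  have hwT : w (Char.trivialIrr G) = 1 := by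
    have h := (hw (Char.trivialIrr G)).symm.trans
      (show ((Char.trivialIrr G : Cfsg.IrrCharacter G) : G → ℂ) g = 1 from rfl)
    exact_mod_cast h
  obtain ⟨hlin, hquad⟩ := coeff_involution P hp hp2 hP hC hl hexp hg
  refine ⟨w (M i₀), L.map fun χ => (dg χ, a χ, w χ), by simp [List.map_map, Function.comp_def],
    hwlt _ hd.1, ?_, ?_, ?_, ?_⟩
  · intro x hx
    obtain ⟨χ, hχ, rfl⟩ := List.mem_map.mp hx
    exact hwlt χ (hL χ hχ).1
  · have h := hF (fun χ => ((w χ : ℤ) : ℂ)) fun i => by rw [hwM i]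
    simp only [hw] at hlin
    rw [hlin, hwT] at h
    apply Int.cast_injective (α := ℂ)
    push_cast [Int.cast_list_sum, List.map_map, Function.comp_def] at h ⊢
    rw [h]
  · have h := hFle (fun χ => (w χ : ℝ) ^ 2) fun χ => sq_nonneg _
    rw [sum_sq_involution g w hw] at h
    simp only [hwM, hwT, Finset.sum_const, Finset.card_univ, Fintype.card_fin] at h
    have h' : (((1 + t * w (M i₀) ^ 2 + (L.map fun χ => w χ ^ 2).sum : ℤ)) : ℝ) ≤
        (((Nat.card ↥(Subgroup.centralizer ({g} : Set G)) : ℕ) : ℤ) : ℝ) := by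
      push_cast [Int.cast_list_sum, List.map_map, Function.comp_def]
      simpa using h
    simpa [List.map_map, Function.comp_def] using (Int.cast_le.mp h')
  · have h := hF (fun χ => ((((w χ : ℚ) ^ 2 / dg χ : ℚ)) : ℂ)) fun i => by rw [hwM i, hdM i]
    have e1 : (((1 + ((t : ℤ) * b + ε : ℤ) * ((w (M i₀) : ℚ) ^ 2 / dg (M i₀)) +
        ((L.map fun χ => (dg χ, a χ, w χ)).map
          fun x => (x.2.1 : ℚ) * ((x.2.2 : ℚ) ^ 2 / x.1)).sum : ℚ)) : ℂ) =
        ∑ χ : Cfsg.IrrCharacter G, (a χ : ℂ) * ((χ : G → ℂ) g ^ 2 / (χ : G → ℂ) 1) := by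
      simp only [hw, hdg]
      push_cast [hwT, hdgT, Rat.cast_list_sum, List.map_map, Function.comp_def] at h ⊢
      rw [h]
      norm_num
    refine (hquad.imp And.left id).imp (fun hq => ?_) fun hq => ?_ <;>
    · rw [← e1] at hq
      apply Rat.cast_injective (α := ℂ)
      push_cast at hq ⊢
      exact hq

/-- The case of a single exceptional character (`e = p - 1`). -/
theorem exists_involution_data_one [IsSimpleGroup G] (hG : ¬ IsMulCommutative G)
    (he : e = p - 1) :
    ∃ L : List (ℕ × ℤ),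
      (∀ x ∈ L, 1 < x.1 ∧ x.1 ∣ Nat.card G ∧ (p : ℤ) ∣ (x.1 : ℤ) - x.2 ∧ x.2 ≠ 0) ∧
      (L.map fun x => x.2 ^ 2).sum = (e : ℤ) ∧
      1 + (L.map fun x => x.2 * (x.1 : ℤ)).sum = 0 ∧
      1 + (L.map fun x => x.1 ^ 2).sum ≤ Nat.card G ∧
      ∀ g : G, orderOf g = 2 → ∃ V : List (ℕ × ℤ × ℤ),
        V.map (fun x => (x.1, x.2.1)) = L ∧
        (∀ x ∈ V, ∃ i, i < x.1 ∧ x.2.2 = 2 * i - x.1) ∧
        1 + (V.map fun x => x.2.1 * x.2.2).sum = 0 ∧
        1 + (V.map fun x => x.2.2 ^ 2).sum ≤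
          (Nat.card ↥(Subgroup.centralizer ({g} : Set G)) : ℤ) ∧
        (let S : ℚ := 1 + (V.map fun x => (x.2.1 : ℚ) * ((x.2.2 : ℚ) ^ 2 / x.1)).sum
         ((Nat.card G : ℚ) * S = 0 ∧ g ∉ Subgroup.normalizer (P : Set G)) ∨ (Nat.card G : ℚ) * S =
          p * (Nat.card ↥(Subgroup.centralizer ({g} : Set G)) : ℚ) ^ 2) := by
  classical
  haveI : Finite (↥P →* ℂˣ) := Char.monoidHom_complex_finite
  letI : Fintype (↥P →* ℂˣ) := Fintype.ofFinite _
  haveI : Finite (Cfsg.IrrCharacter G) := finite_irrCharacter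
  letI : Fintype (Cfsg.IrrCharacter G) := Fintype.ofFinite _
  choose dg hdg0 hdg hdgdvd using fun χ : Cfsg.IrrCharacter G => Char.irr_degree_dvd_card χ.2
  obtain ⟨r, hr1, -, hrsum⟩ := exists_reps P hp hP hC hN (t := 1)
    (by have := hp.two_le; omega) (by omega)
  obtain ⟨a, ha, hexp, hnorm, hdeg0, hT⟩ := exists_coeff P hp hP hC hN (hr1 0) dg hdg
  let T : Cfsg.IrrCharacter G := Char.trivialIrr G
  let S : Finset (Cfsg.IrrCharacter G) := Finset.univ.filter fun χ => χ ≠ T ∧ a χ ≠ 0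
  have hTS : T ∉ S := by simp [S]
  have hfull : ∀ {R : Type} [AddCommMonoid R] (F : Cfsg.IrrCharacter G → R),
      (∀ χ, a χ = 0 → F χ = 0) → ∑ χ, F χ = F T + (S.toList.map F).sum := by
    intro R _ F hF
    rw [Finset.sum_map_toList, ← Finset.sum_insert hTS]
    refine (Finset.sum_subset (Finset.subset_univ _) fun χ _ hχ => hF χ ?_).symm
    simp only [Finset.mem_insert, S, Finset.mem_filter, Finset.mem_univ, true_and, not_or] at hχ
    by_contra h
    exact hχ.2 ⟨hχ.1, h⟩
  have hle : ∀ F : Cfsg.IrrCharacter G → ℕ, F T + (S.toList.map F).sum ≤ ∑ χ, F χ := by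
    intro F
    rw [Finset.sum_map_toList, ← Finset.sum_insert hTS]
    exact Finset.sum_le_sum_of_subset_of_nonneg (Finset.subset_univ _) fun χ _ _ => Nat.zero_le _
  have hdgT : dg T = 1 := by
    have h := (hdg T).symm.trans (show ((T : G → ℂ)) 1 = 1 from rfl)
    exact_mod_cast h
  refine ⟨S.toList.map fun χ => (dg χ, a χ), ?_, ?_, ?_, ?_, ?_⟩
  · intro x hx
    simp only [List.mem_map, Finset.mem_toList, S, Finset.mem_filter] at hx
    obtain ⟨χ, ⟨-, hχT, hχ0⟩, rfl⟩ := hx
    refine ⟨one_lt_degree hp hG hχT (hdg _), hdgdvd χ, ?_, hχ0⟩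
    obtain ⟨n, hn⟩ := sum_classInner_alpha P hp hP hC hN χ (hdg χ)
    rw [hrsum (fun l => Cfsg.classInner (alpha P l) (χ : G → ℂ))
      (by simp [alpha, dfun, indFun_zero, Char.classInner_zero_left])
      (fun l m h => alpha_inner_eq_of_rel P h (Char.irr_isClassFunction χ.2))] at hn
    simp only [Fin.sum_univ_one, ha] at hn
    have h2 : (e : ℤ) * a χ = (p : ℤ) * n - dg χ := by exact_mod_cast hn
    have hpe : (e : ℤ) = (p : ℤ) - 1 := by
      rw [he, Nat.cast_sub hp.one_le]; simp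
    exact ⟨(n : ℤ) - a χ, by rw [hpe] at h2; linear_combination h2⟩
  · have h := hfull (fun χ => a χ * a χ) fun χ h => by simp [h]
    rw [hnorm, hT] at h
    simp only [List.map_map, Function.comp_def]
    simp only [pow_two]
    linarith
  · have h := hfull (fun χ => a χ * (dg χ : ℤ)) fun χ h => by simp [h]
    rw [hdeg0, hT, hdgT] at h
    simp only [List.map_map, Function.comp_def]
    push_cast at h
    linarith
  · have htot : ∑ χ : Cfsg.IrrCharacter G, dg χ ^ 2 = Nat.card G := by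
      have h := Char.sum_irr_degree_sq (G := G)
      simp only [hdg] at h
      exact_mod_cast h
    have h := hle (fun χ => dg χ ^ 2)
    rw [htot, hdgT] at h
    simpa [List.map_map, Function.comp_def] using h
  intro g hg
  choose w hw hwi hwlt using fun χ : Cfsg.IrrCharacter G =>
    exists_involution_value_lt χ.2 (hdg χ) hg
  have hwT : w T = 1 := by
    have h := (hw T).symm.trans (show ((T : G → ℂ)) g = 1 from rfl)
    exact_mod_cast h
  obtain ⟨hlin, hquad⟩ := coeff_involution P hp hp2 hP hC (hr1 0) hexp hg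
  refine ⟨S.toList.map fun χ => (dg χ, a χ, w χ), by simp [List.map_map, Function.comp_def],
    ?_, ?_, ?_, ?_⟩
  · intro x hx
    simp only [List.mem_map, Finset.mem_toList, S, Finset.mem_filter] at hx
    obtain ⟨χ, ⟨-, hχT, -⟩, rfl⟩ := hx
    exact hwlt χ (one_lt_degree hp hG hχT (hdg _))
  · have h := hfull (fun χ => a χ * w χ) fun χ h => by simp [h]
    simp only [hw] at hlin
    have h0 : ∑ χ, a χ * w χ = 0 := by exact_mod_cast hlin
    rw [h0, hT, hwT] at h
    simp only [List.map_map, Function.comp_def]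
    linarith
  · have h := hle (fun χ => (w χ).natAbs ^ 2)
    have hs := sum_sq_involution g w hw
    have hs' : ∑ χ, (w χ).natAbs ^ 2 = Nat.card ↥(Subgroup.centralizer ({g} : Set G)) := by
      have : ((∑ χ, (w χ).natAbs ^ 2 : ℕ) : ℝ) =
          (Nat.card ↥(Subgroup.centralizer ({g} : Set G)) : ℝ) := by
        rw [← hs]; push_cast [Nat.cast_natAbs, sq_abs]; rfl
      exact_mod_cast this
    rw [hs', hwT] at h
    have h' : ((1 + (S.toList.map fun χ => (w χ).natAbs ^ 2).sum : ℕ) : ℤ) ≤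
        (Nat.card ↥(Subgroup.centralizer ({g} : Set G)) : ℤ) := Int.ofNat_le.mpr (by simpa using h)
    push_cast [Nat.cast_list_sum, List.map_map, Function.comp_def, Nat.cast_natAbs, sq_abs] at h'
    simpa [List.map_map, Function.comp_def] using h'
  · have h := hfull (fun χ => (a χ : ℚ) * ((w χ : ℚ) ^ 2 / dg χ)) fun χ h => by simp [h]
    have e1 : (((1 + ((S.toList.map fun χ => (dg χ, a χ, w χ)).map
          fun x => (x.2.1 : ℚ) * ((x.2.2 : ℚ) ^ 2 / x.1)).sum : ℚ)) : ℂ) =
        ∑ χ : Cfsg.IrrCharacter G, (a χ : ℂ) * ((χ : G → ℂ) g ^ 2 / (χ : G → ℂ) 1) := by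
      simp only [hw, hdg, List.map_map, Function.comp_def]
      rw [show (1 : ℚ) = (a T : ℚ) * ((w T : ℚ) ^ 2 / dg T) by simp [hT, hwT, hdgT, T]]
      rw [← h]
      push_cast
      rfl
    refine hquad.imp (fun hq => ⟨?_, hq.2⟩) fun hq => ?_
    · have hq := hq.1
      rw [← e1] at hq
      apply Rat.cast_injective (α := ℂ)
      push_cast at hq ⊢
      exact hq
    · rw [← e1] at hq
      apply Rat.cast_injective (α := ℂ)
      push_cast at hq ⊢
      exact hq
end prime

end Cfsg.Agent.SmallGroups.Exceptional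

namespace Cfsg.Agent.SmallGroups

/-- Some involution is centralized by a whole Sylow `2`-subgroup. -/
theorem exists_involution_dvd_centralizer {G : Type*} [Group G] [Finite G] {a : ℕ} (ha : 0 < a)
    (h : 2 ^ a ∣ Nat.card G) :
    ∃ g : G, orderOf g = 2 ∧ 2 ^ a ∣ Nat.card ↥(Subgroup.centralizer ({g} : Set G)) := by
  haveI := Fact.mk Nat.prime_two
  obtain ⟨H, hH⟩ := Sylow.exists_subgroup_card_pow_prime 2 h
  have hH' : IsPGroup 2 ↥H := IsPGroup.of_card hH
  haveI : Nontrivial ↥H := by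
    rw [← Finite.one_lt_card_iff_nontrivial, hH]
    exact Nat.one_lt_two_pow ha.ne'
  have hZnt := hH'.center_nontrivial
  obtain ⟨n, hn, hZ⟩ := (hH'.to_subgroup (Subgroup.center ↥H)).nontrivial_iff_card.mp hZnt
  obtain ⟨z, hz⟩ := exists_prime_orderOf_dvd_card' (G := Subgroup.center ↥H) 2
    (hZ ▸ dvd_pow_self 2 hn.ne')
  refine ⟨((z : ↥H) : G), by rw [Subgroup.orderOf_coe, Subgroup.orderOf_coe, hz], ?_⟩
  rw [← hH]
  refine Subgroup.card_dvd_of_le fun y hy => Subgroup.mem_centralizer_singleton_iff.mpr ?_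
  exact congrArg Subtype.val (Subgroup.mem_center_iff.mp z.2 ⟨y, hy⟩)

end Cfsg.Agent.SmallGroups
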