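import Cfsg.Agent.Char.Kernel
import Cfsg.Agent.Char.Linear
import Cfsg.Agent.Char.InvolutionCount
import Cfsg.Agent.SmallGroups.Basic
import Mathlib.LinearAlgebra.Trace
import Mathlib.LinearAlgebra.Determinant

/-!
# Three-dimensional representations of simple groups

An involution of a simple group has trace `-1` in a faithful representation of degree three, and
its centralizer fixes the line fixed by the involution.
-/

set_option autoImplicit false
set_option linter.unusedSectionVars false
set_option linter.style.haveILetI false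

open Cfsg Module Subgroup

namespace Cfsg.Agent.SmallGroups.DegThree

universe u v

variable {G : Type u} [Group G]

theorem hom_eq_one [IsSimpleGroup G] (hG : ¬ IsMulCommutative G) {M : Type*} [CommMonoid M]
    (f : G →* M) (g : G) : f g = 1 := by
  rcases (inferInstance : f.ker.Normal).eq_bot_or_eq_top with h | h
  · exfalso
    refine hG ⟨⟨fun a b => ?_⟩⟩
    have h1 : a * b * (b * a)⁻¹ ∈ f.ker := by
      rw [MonoidHom.mem_ker, map_mul, map_mul, mul_comm (f a), ← map_mul f b a, ← map_mul,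
        mul_inv_cancel, map_one]
    rw [h, Subgroup.mem_bot, mul_inv_eq_one] at h1
    exact h1
  · exact MonoidHom.mem_ker.mp (h ▸ Subgroup.mem_top g)

/-- In a simple group a nontrivial irreducible character is faithful and not linear. -/
theorem faithful [Finite G] [IsSimpleGroup G] (hG : ¬ IsMulCommutative G) {χ : G → ℂ}
    (h : IsIrrCharacter G χ) (h1 : χ ≠ fun _ => 1) :
    (∀ g, χ g = χ 1 → g = 1) ∧ 1 < charDegree χ := by
  haveI := Fintype.ofFinite G
  obtain ⟨K, hK, hmem⟩ := Char.isCharacter_exists_kernel (Char.isCharacter_of_irr h)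
  rcases hK.eq_bot_or_eq_top with e | e
  · refine ⟨fun g hg => Subgroup.mem_bot.mp (e ▸ (hmem g).mpr hg), ?_⟩
    obtain ⟨hpos, hdeg⟩ := Char.irr_charDegree_spec h
    by_contra hc
    have hd : χ 1 = 1 := by rw [hdeg, show charDegree χ = 1 by omega, Nat.cast_one]
    obtain ⟨f, hf'⟩ := Char.exists_monoidHom_of_degree_one (Char.isCharacter_of_irr h) hd
    exact h1 (funext fun g => by rw [hf' g, hom_eq_one hG f g, Units.val_one])
  · exfalso
    have hsum := Char.irr_sum_eq_zero h h1
    rw [Finset.sum_congr rfl fun g _ => (hmem g).mp (e ▸ Subgroup.mem_top g), Finset.sum_const,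
      nsmul_eq_mul] at hsum
    exact mul_ne_zero (Nat.cast_ne_zero.mpr Fintype.card_ne_zero) (Char.irr_one_ne_zero h) hsum

variable {V : Type v} [AddCommGroup V] [Module ℂ V] [FiniteDimensional ℂ V]

theorem det_eq_one [IsSimpleGroup G] (hG : ¬ IsMulCommutative G) (ρ : Representation ℂ G V)
    (g : G) : LinearMap.det (ρ g) = 1 :=
  hom_eq_one hG ((LinearMap.det : (V →ₗ[ℂ] V) →* ℂ).comp ρ) g

variable [Finite G]

/-- An eigenbasis in dimension three. -/
theorem exists_basis_three (ρ : Representation ℂ G V) (hV : finrank ℂ V = 3) (g : G) :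
    ∃ (b : Basis (Fin 3) ℂ V) (ε : Fin 3 → ℂ), (∀ i, ρ g (b i) = ε i • b i) ∧
      (∀ i, ε i ^ orderOf g = 1) ∧ ρ.character g = ε 0 + ε 1 + ε 2 ∧
      LinearMap.det (ρ g) = ε 0 * ε 1 * ε 2 := by
  obtain ⟨b₀, ε₀, hb₀, hε₀⟩ := Char.exists_eigenbasis ρ g
  let e : Fin (finrank ℂ V) ≃ Fin 3 := finCongr hV
  let b := b₀.reindex e
  have hb : ∀ i, ρ g (b i) = ε₀ (e.symm i) • b i := fun i => by
    simp only [b, Basis.reindex_apply]; exact hb₀ _
  have hmat : LinearMap.toMatrix b b (ρ g) = Matrix.diagonal fun i => ε₀ (e.symm i) := by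
    ext i j
    rw [LinearMap.toMatrix_apply, hb j, map_smul, Basis.repr_self]
    rcases eq_or_ne i j with rfl | hij
    · simp
    · simp [hij, Ne.symm hij]
  refine ⟨b, fun i => ε₀ (e.symm i), hb, fun i => hε₀ _, ?_, ?_⟩
  · rw [Representation.character, LinearMap.trace_eq_matrix_trace ℂ b, hmat, Matrix.trace_diagonal,
      Fin.sum_univ_three]
  · rw [← LinearMap.det_toMatrix b, hmat, Matrix.det_diagonal, Fin.prod_univ_three]

/-- An involution has eigenvalues `1, -1, -1`. -/
theorem character_involution [IsSimpleGroup G] (hG : ¬ IsMulCommutative G)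
    (ρ : Representation ℂ G V) (hV : finrank ℂ V = 3)
    (hf : ∀ g, ρ.character g = 3 → g = 1) {t : G} (ht : orderOf t = 2) :
    ρ.character t = -1 := by
  obtain ⟨b, ε, -, hε, htr, hdet⟩ := exists_basis_three ρ hV t
  have hne : ρ.character t ≠ 3 := fun h => by
    rw [hf t h, orderOf_one] at ht; omega
  rw [det_eq_one hG ρ t] at hdet
  have hpm : ∀ i, ε i = 1 ∨ ε i = -1 := fun i => sq_eq_one_iff.mp (by have := hε i; rwa [ht] at this)
  rcases hpm 0 with a | a <;> rcases hpm 1 with b | b <;> rcases hpm 2 with c | c <;>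
    rw [a, b, c] at htr hdet <;> norm_num at htr hdet <;>
    first
      | exact htr
      | exact absurd htr hne

/-- The fixed line of an involution of trace `-1`. -/
theorem exists_line (ρ : Representation ℂ G V) (hV : finrank ℂ V = 3) {J : G} (hJ : J * J = 1)
    (htr : ρ.character J = -1) :
    ∃ u : V, u ≠ 0 ∧ (∀ w, ∃ c : ℂ, w + ρ J w = c • u) ∧
      ∀ h : G, h * J = J * h →
        ∃ l : ℂ, ρ h u = l • u ∧ ρ.character h + ρ.character (J * h) = 2 * l := by
  let f : V →ₗ[ℂ] V := (2 : ℂ)⁻¹ • (1 + ρ J)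
  have hfapp : ∀ w, f w = (2 : ℂ)⁻¹ • (w + ρ J w) := fun w => rfl
  have hJJ : ∀ w, ρ J (ρ J w) = w := fun w => by
    rw [← Module.End.mul_apply, ← map_mul, hJ, map_one, Module.End.one_apply]
  have hproj : LinearMap.IsProj (LinearMap.range f) f := by
    refine ⟨fun w => LinearMap.mem_range_self f w, ?_⟩
    rintro _ ⟨w, rfl⟩
    simp only [hfapp, map_smul, map_add, hJJ]
    module
  have h1 : finrank ℂ (LinearMap.range f) = 1 := by
    have h := hproj.trace
    have h2 : LinearMap.trace ℂ V f = 1 := by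
      simp only [f, map_smul, map_add, LinearMap.trace_one, hV, smul_eq_mul]
      rw [show LinearMap.trace ℂ V (ρ J) = ρ.character J from rfl, htr]
      norm_num
    rw [h2] at h
    exact_mod_cast h.symm
  obtain ⟨⟨u, hu⟩, hu0, hspan⟩ := finrank_eq_one_iff'.mp h1
  have hspan' : ∀ w, ∃ c : ℂ, f w = c • u := fun w => by
    obtain ⟨c, hc⟩ := hspan ⟨f w, LinearMap.mem_range_self f w⟩
    exact ⟨c, (congrArg Subtype.val hc).symm⟩
  refine ⟨u, fun h => hu0 (Subtype.ext h), fun w => ?_, fun h hh => ?_⟩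
  · obtain ⟨c, hc⟩ := hspan' w
    exact ⟨2 * c, by rw [mul_smul, ← hc, hfapp, smul_smul]; norm_num⟩
  have hcomm : ∀ w, ρ h (f w) = f (ρ h w) := fun w => by
    simp only [hfapp, map_smul, map_add]
    rw [← Module.End.mul_apply, ← map_mul, hh, map_mul, Module.End.mul_apply]
  obtain ⟨u₀, hu₀⟩ := LinearMap.mem_range.mp hu
  obtain ⟨l, hl⟩ := hspan' (ρ h u₀)
  rw [← hcomm, hu₀] at hl
  refine ⟨l, hl, ?_⟩
  have heq : ρ h * f = l • f := LinearMap.ext fun w => by
    obtain ⟨c, hc⟩ := hspan' w
    change ρ h (f w) = l • f w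
    rw [hc, map_smul, hl, smul_comm]
  have ht := congrArg (LinearMap.trace ℂ V) heq
  rw [map_smul, hproj.trace, h1] at ht
  simp only [f, mul_smul_comm, mul_add, mul_one, map_smul, map_add, ← map_mul, hh,
    smul_eq_mul] at ht
  change (2 : ℂ)⁻¹ * ρ.character h + (2 : ℂ)⁻¹ * ρ.character (J * h) = l * ((1 : ℕ) : ℂ) at ht
  push_cast at ht
  linear_combination 2 * ht

end Cfsg.Agent.SmallGroups.DegThree
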