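import Cfsg.Agent.SmallGroups.OrderPBlock
import Cfsg.Agent.SmallGroups.Involution
import Cfsg.Agent.BlocksChar.ClassProd
import Cfsg.Agent.BlkChar.PModular

/-!
# Section sums and the involution identity for a Sylow subgroup of prime order

`sectionSet P x` is `x * (p-regular elements of C(P))`. Only characters of the principal block have non-zero
sum over it, which gives the class multiplication identity at an involution with an arbitrary centralizer
`C(P)`.
-/

set_option linter.style.haveILetI false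
set_option linter.unusedSectionVars false

noncomputable section

namespace Cfsg.Agent.SmallGroups.OrderP

open scoped Classical ComplexConjugate
open Cfsg Finset

universe u

variable {G : Type u} [Group G] [Fintype G] {p : ℕ} [hp : Fact p.Prime]

/-- The elements `x * v` with `v` a `p`-regular element of `C(P)`. -/
def sectionSet (P : Sylow p G) (x : G) : Finset G :=
  (Finset.univ.filter fun v : G =>
    v ∈ Subgroup.centralizer ((P : Subgroup G) : Set G) ∧ ¬ p ∣ orderOf v).image (x * ·)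

variable (P : Sylow p G) (hP : Nat.card P = p) {x : G} (hx : x ∈ (P : Subgroup G)) (hx1 : x ≠ 1)
  {c : ℕ} (hC : Nat.card ↥(Subgroup.centralizer ((P : Subgroup G) : Set G)) = p * c)

include hP hx hx1 hC

theorem orderOf_eq : orderOf x = p := by
  have := hP ▸ Subgroup.orderOf_dvd_natCard _ hx
  exact ((Nat.dvd_prime hp.out).1 this).resolve_left (by simpa using hx1)

theorem centralizer_singleton_eq :
    Subgroup.centralizer ({x} : Set G) = Subgroup.centralizer ((P : Subgroup G) : Set G) :=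
  Brauer.OrderP.centralizer_eq P hP hx hx1

theorem not_dvd_c : ¬ p ∣ c := by
  intro h
  obtain ⟨q, rfl⟩ := h
  have h2 : p * p ∣ Nat.card G :=
    (Dvd.intro q (by rw [hC]; ring)).trans (Subgroup.card_subgroup_dvd_card
      (Subgroup.centralizer ((P : Subgroup G) : Set G)))
  have := P.not_dvd_index
  rw [← (P : Subgroup G).card_mul_index, hP] at h2
  exact this (Nat.dvd_of_mul_dvd_mul_left hp.out.pos h2)

theorem exists_regular_subgroup :
    ∃ V : Subgroup G, Nat.card ↥V = c ∧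
      ∀ v, v ∈ V ↔ v ∈ Subgroup.centralizer ((P : Subgroup G) : Set G) ∧ ¬ p ∣ orderOf v := by
  have ho := orderOf_eq P hP hx hx1 hC
  obtain ⟨V, hVn, hVp, hVi⟩ := Brauer.OrderP.exists_complement_centralizer P hP ho hx
  rw [pow_one] at hVi
  have hcc := centralizer_singleton_eq P hP hx hx1 hC
  refine ⟨V.map (Subgroup.subtype _), ?_, fun v => ⟨?_, ?_⟩⟩
  · rw [Subgroup.card_map_of_injective (Subgroup.subtype_injective _)]
    have h := V.card_mul_index
    rw [hVi] at h
    rw [show Nat.card ↥(Subgroup.centralizer ({x} : Set G)) = p * c by rw [hcc]; exact hC, mul_comm] at h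
    exact Nat.eq_of_mul_eq_mul_left hp.out.pos h
  · rintro ⟨w, hw, rfl⟩
    refine ⟨hcc ▸ w.2, fun h => hVp ?_⟩
    have hd := Subgroup.orderOf_dvd_natCard V hw
    rw [← Subgroup.orderOf_coe] at hd
    exact h.trans hd
  · rintro ⟨hv, hvp⟩
    have hv' : v ∈ Subgroup.centralizer ({x} : Set G) := hcc ▸ hv
    refine ⟨⟨v, hv'⟩, ?_, rfl⟩
    haveI := hVn
    have h1 := V.pow_index_mem ⟨v, hv'⟩
    rw [hVi] at h1
    have hcop : (orderOf (⟨v, hv'⟩ : Subgroup.centralizer ({x} : Set G))).Coprime p := by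
      rw [← Subgroup.orderOf_coe, Nat.coprime_comm, hp.out.coprime_iff_not_dvd]; exact hvp
    obtain ⟨m, hm⟩ := exists_pow_eq_self_of_coprime hcop.symm
    show (⟨v, hv'⟩ : Subgroup.centralizer ({x} : Set G)) ∈ V
    rw [← hm]
    exact pow_mem h1 m

theorem card_sectionSet : (sectionSet P x).card = c := by
  obtain ⟨V, hV, hmem⟩ := exists_regular_subgroup P hP hx hx1 hC
  rw [sectionSet, Finset.card_image_of_injective _ (mul_right_injective x), ← Fintype.card_subtype,
    ← Nat.card_eq_fintype_card, ← hV]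
  exact Nat.card_congr (Equiv.subtypeEquivRight fun v => (hmem v).symm)

theorem pow_c {z : G} (hz : z ∈ sectionSet P x) : z ^ c = x ^ c := by
  obtain ⟨V, hV, hmem⟩ := exists_regular_subgroup P hP hx hx1 hC
  obtain ⟨v, hv, rfl⟩ := Finset.mem_image.1 hz
  simp only [Finset.mem_filter, Finset.mem_univ, true_and] at hv
  have hc : Commute x v := Subgroup.mem_centralizer_iff.1 hv.1 x hx
  have hd := Subgroup.orderOf_dvd_natCard V ((hmem v).2 hv)
  rw [hc.mul_pow, show v ^ c = 1 from orderOf_dvd_iff_pow_eq_one.1 (hV ▸ hd), mul_one]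

theorem mem_centralizer_of_conj_mem {a z : G} (hz : z ∈ sectionSet P x)
    (ha : a * z * a⁻¹ ∈ sectionSet P x) : a ∈ Subgroup.centralizer ((P : Subgroup G) : Set G) := by
  rw [← centralizer_singleton_eq P hP hx hx1 hC, Subgroup.mem_centralizer_singleton_iff]
  have h1 : a * x ^ c * a⁻¹ = x ^ c := by
    rw [← pow_c P hP hx hx1 hC hz, ← conj_pow, pow_c P hP hx hx1 hC ha, pow_c P hP hx hx1 hC hz]
  have hcop : (orderOf x).Coprime c := by
    rw [orderOf_eq P hP hx hx1 hC, hp.out.coprime_iff_not_dvd]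
    exact not_dvd_c P hP hx hx1 hC
  obtain ⟨m, hm⟩ := exists_pow_eq_self_of_coprime hcop.symm
  have h2 : a * x * a⁻¹ = x := by
    conv_lhs => rw [← hm]
    conv_rhs => rw [← hm]
    rw [← conj_pow, h1]
  exact mul_inv_eq_iff_eq_mul.1 h2

theorem conj_mem_sectionSet {a z : G} (ha : a ∈ Subgroup.centralizer ((P : Subgroup G) : Set G))
    (hz : z ∈ sectionSet P x) : a * z * a⁻¹ ∈ sectionSet P x := by
  obtain ⟨v, hv, rfl⟩ := Finset.mem_image.1 hz
  simp only [Finset.mem_filter, Finset.mem_univ, true_and] at hv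
  refine Finset.mem_image.2 ⟨a * v * a⁻¹, ?_, ?_⟩
  · simp only [Finset.mem_filter, Finset.mem_univ, true_and]
    refine ⟨mul_mem (mul_mem ha hv.1) (inv_mem ha), fun h => hv.2 ?_⟩
    rwa [show a * v * a⁻¹ = MulAut.conj a v from rfl, MulEquiv.orderOf_eq] at h
  · have hax : a * x = x * a := (Subgroup.mem_centralizer_iff.1 ha x hx).symm
    calc x * (a * v * a⁻¹) = (x * a) * v * a⁻¹ := by group
      _ = a * (x * v) * a⁻¹ := by rw [← hax]; group

/-- The class function counting the conjugators into the section. -/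
def secCount (P : Sylow p G) (x h : G) : ℕ :=
  (Finset.univ.filter fun g : G => g⁻¹ * h * g ∈ sectionSet P x).card

theorem secCount_eq (h : G) :
    secCount P x h = if ∃ g : G, g⁻¹ * h * g ∈ sectionSet P x then p * c else 0 := by
  split_ifs with he
  · obtain ⟨g₀, hg₀⟩ := he
    rw [secCount, ← hC, ← Fintype.card_subtype, ← Nat.card_eq_fintype_card]
    refine Nat.card_congr
      { toFun := fun g => ⟨g₀⁻¹ * g.1, ?_⟩
        invFun := fun a => ⟨g₀ * a, ?_⟩
        left_inv := fun g => Subtype.ext (by simp)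
        right_inv := fun a => Subtype.ext (by simp) }
    · refine mem_centralizer_of_conj_mem P hP hx hx1 hC g.2 ?_
      convert hg₀ using 1
      group
    · have := conj_mem_sectionSet P hP hx hx1 hC (inv_mem a.2) hg₀
      convert this using 1
      group
  · rw [secCount, Finset.card_eq_zero, Finset.filter_eq_empty_iff]
    exact fun g _ hg => he ⟨g, hg⟩

theorem secCount_isClassFunction : Cfsg.IsClassFunction G fun h => (secCount P x h : ℂ) := by
  intro h a
  simp only [secCount]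
  congr 1
  refine Finset.card_equiv (Equiv.mulLeft a⁻¹) fun g => ?_
  simp only [Finset.mem_filter, Finset.mem_univ, true_and, Equiv.coe_mulLeft]
  rw [show (a⁻¹ * g)⁻¹ * h * (a⁻¹ * g) = g⁻¹ * (a * h * a⁻¹) * g by group]

theorem sum_secCount_mul (F : G → ℂ) (hF : ∀ h a : G, F (a * h * a⁻¹) = F h) :
    ∑ h : G, (secCount P x h : ℂ) * F h = (Nat.card G : ℂ) * ∑ z ∈ sectionSet P x, F z := by
  have h1 : ∀ h : G, (secCount P x h : ℂ) * F h =
      ∑ g : G, if g⁻¹ * h * g ∈ sectionSet P x then F h else 0 := by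
    intro h
    rw [← Finset.sum_filter, Finset.sum_const, nsmul_eq_mul, secCount]
  simp only [h1]
  rw [Finset.sum_comm]
  have h2 : ∀ g : G, ∑ h : G, (if g⁻¹ * h * g ∈ sectionSet P x then F h else 0) =
      ∑ z ∈ sectionSet P x, F z := by
    intro g
    rw [← Finset.sum_filter]
    refine Finset.sum_bij' (fun h _ => g⁻¹ * h * g) (fun z _ => g * z * g⁻¹) ?_ ?_ ?_ ?_ ?_
    · intro h hh; exact (Finset.mem_filter.1 hh).2
    · intro z hz
      refine Finset.mem_filter.2 ⟨Finset.mem_univ _, ?_⟩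
      convert hz using 1
      group
    · intro h _; group
    · intro z _; group
    · intro h _
      have := hF h g⁻¹
      rw [inv_inv] at this
      exact this.symm
  rw [Finset.sum_congr rfl fun g _ => h2 g, Finset.sum_const, Finset.card_univ, nsmul_eq_mul,
    Nat.card_eq_fintype_card]

variable {M : Ideal Cfsg.AlgInt} (hM : Cfsg.IsPModular p M)

include hM

theorem sum_section_principal {χ : IrrCharacter G} (hχ : χ ∈ Cfsg.principalBlock M G) :
    ∑ z ∈ sectionSet P x, (χ : G → ℂ) z = (c : ℂ) * (χ : G → ℂ) x := by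
  have hval : ∀ z ∈ sectionSet P x, (χ : G → ℂ) z = (χ : G → ℂ) x := by
    intro z hz
    obtain ⟨v, hv, rfl⟩ := Finset.mem_image.1 hz
    simp only [Finset.mem_filter, Finset.mem_univ, true_and] at hv
    exact apply_mul_regular hM P hP hχ hx hx1 hv.1 hv.2
  rw [Finset.sum_congr rfl hval, Finset.sum_const, card_sectionSet P hP hx hx1 hC, nsmul_eq_mul]

/-- Outside the principal block the section sums vanish. -/
theorem sum_section_eq_zero {χ : IrrCharacter G} (hχ : χ ∉ Cfsg.principalBlock M G) :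
    ∑ z ∈ sectionSet P x, (χ : G → ℂ) z = 0 := by
  haveI : M.IsPrime := hM.2.1.isPrime
  set f : G → ℂ := fun h => (secCount P x h : ℂ) with hf
  have hfc : Cfsg.IsClassFunction G f := secCount_isClassFunction P hP hx hx1 hC
  have hG0 : (Nat.card G : ℂ) ≠ 0 := Char.card_ne_zero_complex
  have hinner : ∀ φ : IrrCharacter G,
      Cfsg.classInner (φ : G → ℂ) f = ∑ z ∈ sectionSet P x, (φ : G → ℂ) z := by
    intro φ
    have h := sum_secCount_mul P hP hx hx1 hC (φ : G → ℂ) (Char.irr_isClassFunction φ.2)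
    rw [Cfsg.classInner, inv_mul_eq_iff_eq_mul₀ hG0, ← h]
    exact Finset.sum_congr rfl fun h _ => by simp only [hf, map_natCast]; ring
  -- Parseval
  have hff : Cfsg.classInner f f = ((p * c * c : ℕ) : ℂ) := by
    have h1 := sum_secCount_mul P hP hx hx1 hC (fun _ => (1 : ℂ)) fun _ _ => rfl
    simp only [mul_one, Finset.sum_const, nsmul_one, card_sectionSet P hP hx hx1 hC] at h1
    rw [Cfsg.classInner, inv_mul_eq_iff_eq_mul₀ hG0]
    have h2 : ∀ h : G, f h * conj (f h) = ((p * c : ℕ) : ℂ) * f h := by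
      intro h
      simp only [hf, map_natCast, secCount_eq P hP hx hx1 hC h]
      split_ifs <;> simp
    rw [Finset.sum_congr rfl fun h _ => h2 h, ← Finset.mul_sum, show ∑ h : G, f h = _ from h1]
    push_cast
    ring
  rw [Char.classInner_eq_sum_mul_conj hfc] at hff
  obtain ⟨u, ho, hu⟩ := Brauer.OrderP.exists_gen P hP
  obtain ⟨θ, hθ, -⟩ := Brauer.OrderP.exists_action P ho hu
  obtain ⟨i, hi⟩ : ∃ i : (ZMod p)ˣ, Brauer.OrderP.gpow u (i : ZMod p) = x := by
    have hx' := hx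
    rw [hu, ← mem_powers_iff_mem_zpowers, Submonoid.mem_powers_iff] at hx'
    obtain ⟨k, hk⟩ := hx'
    refine ⟨Units.mk0 (k : ZMod p) fun h => hx1 ?_, ?_⟩
    · rw [← hk, ← Brauer.OrderP.gpow_natCast (p := p) ho k, h, Brauer.OrderP.gpow_zero]
    · rw [Units.val_mk0, Brauer.OrderP.gpow_natCast ho k, hk]
  have hB : ∑ φ : IrrCharacter G with φ ∈ Cfsg.principalBlock M G,
      (φ : G → ℂ) x * conj ((φ : G → ℂ) x) = (p : ℂ) := by
    have h := Brauer.OrderP.column_inner hM P hP ho hu hθ i i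
    rw [hi, inv_mul_cancel, if_pos (one_mem _)] at h
    exact h
  have hterm : ∀ φ : IrrCharacter G, Cfsg.classInner f (φ : G → ℂ) * conj (Cfsg.classInner f φ) =
      ((Complex.normSq (∑ z ∈ sectionSet P x, (φ : G → ℂ) z) : ℝ) : ℂ) := fun φ => by
    rw [← Char.classInner_conj (φ : G → ℂ) f, hinner, Complex.conj_conj, mul_comm, Complex.mul_conj]
  rw [← Finset.sum_filter_add_sum_filter_not Finset.univ
    (fun φ : IrrCharacter G => φ ∈ Cfsg.principalBlock M G)] at hff
  have hin : ∑ φ : IrrCharacter G with φ ∈ Cfsg.principalBlock M G,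
      Cfsg.classInner f (φ : G → ℂ) * conj (Cfsg.classInner f φ) = ((p * c * c : ℕ) : ℂ) := by
    refine (Finset.sum_congr rfl fun (φ : IrrCharacter G) hφ => (?_ :
      Cfsg.classInner f (φ : G → ℂ) * conj (Cfsg.classInner f φ) =
      ((c : ℂ) * c) * ((φ : G → ℂ) x * conj ((φ : G → ℂ) x)))).trans ?_
    rotate_left
    · rw [← Finset.mul_sum, hB]
      push_cast; ring
    · rw [← Char.classInner_conj (φ : G → ℂ) f, hinner, Complex.conj_conj,
        sum_section_principal P hP hx hx1 hC hM (Finset.mem_filter.1 hφ).2, map_mul, map_natCast]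
      ring
  rw [hin, add_eq_left, Finset.sum_congr rfl fun φ _ => hterm φ, ← Complex.ofReal_sum,
    Complex.ofReal_eq_zero, Finset.sum_eq_zero_iff_of_nonneg fun φ _ => Complex.normSq_nonneg _] at hff
  exact Complex.normSq_eq_zero.1 (hff χ (Finset.mem_filter.2 ⟨Finset.mem_univ _, hχ⟩))

/-- The conjugates of `g` inverting `x`. -/
def inverting (g x : G) : Finset G :=
  Finset.univ.filter fun u => IsConj g u ∧ u * x * u⁻¹ = x⁻¹

theorem sum_secCount_involution {g : G} (hg : orderOf g = 2) :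
    ∃ m : ℕ, m ≤ (inverting g x).card * c ∧
      ∑ h : G, secCount P x (g * (h * g * h⁻¹)) =
        Nat.card ↥(Subgroup.centralizer ({g} : Set G)) ^ 2 * m := by
  set T := (inverting g x ×ˢ sectionSet P x).filter fun q => IsConj g (q.1 * q.2) with hT
  refine ⟨T.card, ?_, ?_⟩
  · refine (Finset.card_filter_le _ _).trans (le_of_eq ?_)
    rw [Finset.card_product, card_sectionSet P hP hx hx1 hC]
  let A := (Finset.univ : Finset (G × G)).filter
    fun q => q.2⁻¹ * (g * (q.1 * g * q.1⁻¹)) * q.2 ∈ sectionSet P x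
  have hA : ∑ h : G, secCount P x (g * (h * g * h⁻¹)) = A.card := by
    simp only [secCount, A, Finset.card_filter, Fintype.sum_prod_type]
  rw [hA]
  let F : G × G → G × G := fun q => (q.2⁻¹ * g * q.2, q.2⁻¹ * (g * (q.1 * g * q.1⁻¹)) * q.2)
  have hgg : g * g = 1 := by rw [← pow_two, ← hg]; exact pow_orderOf_eq_one g
  have hgi : g⁻¹ = g := inv_eq_of_mul_eq_one_right hgg
  have hmaps : ∀ q ∈ A, F q ∈ T := by
    rintro ⟨h, a⟩ hq
    have hz : a⁻¹ * (g * (h * g * h⁻¹)) * a ∈ sectionSet P x := (Finset.mem_filter.1 hq).2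
    set z := a⁻¹ * (g * (h * g * h⁻¹)) * a with hzdef
    set u := a⁻¹ * g * a with hudef
    have huz : u * z = a⁻¹ * h * g * (a⁻¹ * h)⁻¹ := by
      calc u * z = a⁻¹ * (g * g) * (h * g * h⁻¹) * a := by rw [hudef, hzdef]; group
        _ = a⁻¹ * h * g * (a⁻¹ * h)⁻¹ := by rw [hgg]; group
    refine Finset.mem_filter.2 ⟨Finset.mem_product.2 ⟨Finset.mem_filter.2
      ⟨Finset.mem_univ _, isConj_iff.2 ⟨a⁻¹, by rw [inv_inv]⟩, ?_⟩, hz⟩,
      isConj_iff.2 ⟨a⁻¹ * h, huz.symm⟩⟩
    show u * x * u⁻¹ = x⁻¹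
    have huu : u * u = 1 := by
      calc u * u = a⁻¹ * (g * g) * a := by rw [hudef]; group
        _ = 1 := by rw [hgg]; group
    have hinv : u * z * u⁻¹ = z⁻¹ := by
      have h1 : (u * z) * (u * z) = 1 := by
        rw [huz]
        calc a⁻¹ * h * g * (a⁻¹ * h)⁻¹ * (a⁻¹ * h * g * (a⁻¹ * h)⁻¹)
            = a⁻¹ * h * (g * g) * (a⁻¹ * h)⁻¹ := by group
          _ = 1 := by rw [hgg]; group
      rw [inv_eq_of_mul_eq_one_right huu]
      calc u * z * u = (u * z) * (u * z) * z⁻¹ := by group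
        _ = z⁻¹ := by rw [h1, one_mul]
    have h2 : u * x ^ c * u⁻¹ = (x ^ c)⁻¹ := by
      rw [← pow_c P hP hx hx1 hC hz, ← conj_pow, hinv, inv_pow]
    have hcop : (orderOf x).Coprime c := by
      rw [orderOf_eq P hP hx hx1 hC, hp.out.coprime_iff_not_dvd]
      exact not_dvd_c P hP hx hx1 hC
    obtain ⟨m, hm⟩ := exists_pow_eq_self_of_coprime hcop.symm
    conv_lhs => rw [← hm]
    conv_rhs => rw [← hm]
    rw [← conj_pow, h2, inv_pow]
  have hfib : ∀ q ∈ T, (A.filter fun w => F w = q).card =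
      Nat.card ↥(Subgroup.centralizer ({g} : Set G)) ^ 2 := by
    rintro ⟨u, z⟩ hq
    obtain ⟨huz, hconj⟩ := Finset.mem_filter.1 hq
    obtain ⟨hu, hz⟩ := Finset.mem_product.1 huz
    obtain ⟨a₀, ha₀⟩ := isConj_iff.1 (Finset.mem_filter.1 hu).2.1
    obtain ⟨k₀, hk₀⟩ := isConj_iff.1 hconj
    simp only at ha₀ hk₀ hz
    rw [pow_two, ← Nat.card_prod, ← Fintype.card_coe, ← Nat.card_eq_fintype_card]
    have key : ∀ (b c : G) (w : G), b * g * b⁻¹ = w → c * g * c⁻¹ = w →
        b⁻¹ * c ∈ Subgroup.centralizer ({g} : Set G) := by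
      intro b c w h1 h2
      rw [Subgroup.mem_centralizer_singleton_iff]
      calc b⁻¹ * c * g = b⁻¹ * (c * g * c⁻¹) * c := by group
        _ = b⁻¹ * (b * g * b⁻¹) * c := by rw [h2, h1]
        _ = g * (b⁻¹ * c) := by group
    have hback : ∀ (b : G), b ∈ Subgroup.centralizer ({g} : Set G) → b * g * b⁻¹ = g := fun b hb => by
      rw [Subgroup.mem_centralizer_singleton_iff.1 hb, mul_inv_cancel_right]
    refine Nat.card_congr
      { toFun := fun w => (⟨a₀⁻¹ * w.1.2⁻¹, ?_⟩, ⟨k₀⁻¹ * (w.1.2⁻¹ * w.1.1), ?_⟩)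
        invFun := fun w => ⟨((a₀ * (w.1 : G))⁻¹ * (k₀ * (w.2 : G)), (a₀ * (w.1 : G))⁻¹), ?_⟩
        left_inv := fun w => Subtype.ext (Prod.ext (by simp) (by simp))
        right_inv := fun w => Prod.ext (Subtype.ext (by simp)) (Subtype.ext (by simp [mul_assoc])) }
    · obtain ⟨hwA, hwF⟩ := Finset.mem_filter.1 w.2
      have e1 : w.1.2⁻¹ * g * w.1.2 = u := congrArg Prod.fst hwF
      exact key a₀ w.1.2⁻¹ u ha₀ (by rw [inv_inv, e1])
    · obtain ⟨hwA, hwF⟩ := Finset.mem_filter.1 w.2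
      have e1 : w.1.2⁻¹ * g * w.1.2 = u := congrArg Prod.fst hwF
      have e2 : w.1.2⁻¹ * (g * (w.1.1 * g * w.1.1⁻¹)) * w.1.2 = z := congrArg Prod.snd hwF
      refine key k₀ _ (u * z) hk₀ ?_
      calc w.1.2⁻¹ * w.1.1 * g * (w.1.2⁻¹ * w.1.1)⁻¹
          = w.1.2⁻¹ * (g * g) * (w.1.1 * g * w.1.1⁻¹) * w.1.2 := by rw [hgg]; group
        _ = w.1.2⁻¹ * g * w.1.2 * (w.1.2⁻¹ * (g * (w.1.1 * g * w.1.1⁻¹)) * w.1.2) := by group
        _ = u * z := congrArg₂ (· * ·) e1 e2
    · have e1 : (a₀ * (w.1 : G)) * g * (a₀ * (w.1 : G))⁻¹ = u := by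
        calc _ = a₀ * ((w.1 : G) * g * (w.1 : G)⁻¹) * a₀⁻¹ := by group
          _ = u := by rw [hback _ w.1.2, ha₀]
      have e2 : (k₀ * (w.2 : G)) * g * (k₀ * (w.2 : G))⁻¹ = u * z := by
        calc _ = k₀ * ((w.2 : G) * g * (w.2 : G)⁻¹) * k₀⁻¹ := by group
          _ = u * z := by rw [hback _ w.2.2, hk₀]
      set b := a₀ * (w.1 : G)
      set k := k₀ * (w.2 : G)
      have e3 : b * (g * (b⁻¹ * k * g * (b⁻¹ * k)⁻¹)) * b⁻¹ = z := by
        calc _ = (b * g * b⁻¹) * (k * g * k⁻¹) := by group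
          _ = z := by
              rw [e1, e2, ← mul_assoc]
              have : u * u = 1 := by
                rw [← e1]
                calc b * g * b⁻¹ * (b * g * b⁻¹) = b * (g * g) * b⁻¹ := by group
                  _ = 1 := by rw [hgg]; group
              rw [this, one_mul]
      simp only [Finset.mem_filter, Finset.mem_univ, true_and, A, F]
      refine ⟨?_, Prod.ext ?_ ?_⟩
      · rw [inv_inv]; exact e3 ▸ hz
      · show b⁻¹⁻¹ * g * b⁻¹ = u
        rw [inv_inv]; exact e1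
      · show b⁻¹⁻¹ * _ * b⁻¹ = z
        rw [inv_inv]; exact e3
  rw [Finset.card_eq_sum_card_fiberwise hmaps, Finset.sum_congr rfl hfib, Finset.sum_const,
    smul_eq_mul, mul_comm]

omit hM in
/-- Degrees in the principal block and the values at involutions. -/
theorem exists_orderP_data [IsSimpleGroup G] (hG : ¬ IsMulCommutative G) {e : ℕ}
    (he : (Subgroup.centralizer ((P : Subgroup G) : Set G)).relIndex
      (Subgroup.normalizer ((P : Subgroup G) : Set G)) = e) :
    ∃ (ε : ℤ) (d : ℕ) (L : List (ℕ × ℤ)), (ε = 1 ∨ ε = -1) ∧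
      (1 < d ∧ d ∣ Nat.card G ∧ (p : ℤ) ∣ (d : ℤ) - ε * e) ∧
      (∀ z ∈ L, 1 < z.1 ∧ z.1 ∣ Nat.card G ∧ (p : ℤ) ∣ (z.1 : ℤ) - z.2 ∧ (z.2 = 1 ∨ z.2 = -1)) ∧
      L.length + 1 = e ∧
      1 + (L.map fun z => z.2 * (z.1 : ℤ)).sum = ε * d ∧
      1 + (p - 1) / e * d ^ 2 + (L.map fun z => z.1 ^ 2).sum ≤ Nat.card G ∧
      ∀ g : G, orderOf g = 2 → ∃ (w : ℤ) (V : List (ℕ × ℤ × ℤ)),
        V.map (fun z => (z.1, z.2.1)) = L ∧ (∃ i, i < d ∧ w = 2 * i - d) ∧
        (∀ z ∈ V, ∃ i, i < z.1 ∧ z.2.2 = 2 * i - z.1) ∧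
        1 + (V.map fun z => z.2.1 * z.2.2).sum = ε * w ∧
        1 + ((p - 1) / e : ℕ) * w ^ 2 + (V.map fun z => z.2.2 ^ 2).sum ≤
          (Nat.card ↥(Subgroup.centralizer ({g} : Set G)) : ℤ) ∧
        ∃ m : ℕ, m ≤ (inverting g x).card * c ∧
          (Nat.card G : ℚ) * c * (1 + (V.map fun z => (z.2.1 : ℚ) * ((z.2.2 : ℚ) ^ 2 / z.1)).sum -
            ε * ((w : ℚ) ^ 2 / d)) =
          (Nat.card ↥(Subgroup.centralizer ({g} : Set G)) : ℚ) ^ 2 * m := by
  obtain ⟨M, hM⟩ := BlkChar.exists_isPModular p hp.out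
  obtain ⟨X, Y, sgn, ε, hdisj, hB, hXc, hYc, hTX, hTs, hε, hXd, hYd, hYsum, hrel⟩ :=
    exists_block_data hM P hP e he
  obtain ⟨t, ht⟩ : ∃ t, (p - 1) / e = t := ⟨_, rfl⟩
  rw [ht] at hYc ⊢
  choose dg hdg0 hdg hdgdvd using fun χ : Cfsg.IrrCharacter G => Char.irr_degree_dvd_card χ.2
  have hcd : ∀ χ : IrrCharacter G, Cfsg.charDegree (χ : G → ℂ) = dg χ :=
    fun χ => Char.charDegree_of_eq (hdg χ)
  have he0 : e ≠ 0 := by rw [← hXc]; exact Finset.card_ne_zero_of_mem hTX
  obtain ⟨θ, hθ⟩ : Y.Nonempty := by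
    by_contra h
    rw [Finset.not_nonempty_iff_eq_empty] at h
    have := hYsum x hx hx1
    rw [h, Finset.sum_empty] at this
    rcases hε with rfl | rfl <;> norm_num at this
  have hθT : θ ≠ Char.trivialIrr G := fun h => Finset.disjoint_left.1 hdisj hTX (h ▸ hθ)
  set L := (X.erase (Char.trivialIrr G)).toList
  have hone : ¬ p ∣ orderOf (1 : G) := by rw [orderOf_one]; exact hp.out.not_dvd_one
  -- a sum over `X` split at the trivial character
  have hsplit : ∀ {R : Type} [AddCommMonoid R] (F : IrrCharacter G → R),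
      ∑ χ ∈ X, F χ = F (Char.trivialIrr G) + (L.map F).sum := by
    intro R _ F
    rw [← Finset.add_sum_erase _ _ hTX]
    congr 1
    rw [Finset.sum_map_toList]
  have hdgT : dg (Char.trivialIrr G) = 1 := by
    have h := (hdg (Char.trivialIrr G)).symm.trans
      (show ((Char.trivialIrr G : Cfsg.IrrCharacter G) : G → ℂ) 1 = 1 from rfl)
    exact_mod_cast h
  have hYeq : ∀ θ' ∈ Y, ∀ g : G, ¬ p ∣ orderOf g → (θ' : G → ℂ) g = (θ : G → ℂ) g := by
    intro θ' hθ' g hg
    have h := (hrel θ' hθ' g hg).trans (hrel θ hθ g hg).symm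
    rcases hε with rfl | rfl <;> simpa using h
  have hYdg : ∀ θ' ∈ Y, dg θ' = dg θ := fun θ' h => by
    have := hYeq θ' h 1 hone
    rw [hdg, hdg] at this
    exact_mod_cast this
  refine ⟨ε, dg θ, L.map fun χ => (dg χ, sgn χ), hε,
    ⟨Exceptional.one_lt_degree hp.out hG hθT (hdg θ), hdgdvd θ, hcd θ ▸ hYd θ hθ⟩, ?_, ?_, ?_, ?_, ?_⟩
  · intro z hz
    obtain ⟨χ, hχ, rfl⟩ := List.mem_map.1 hz
    rw [Finset.mem_toList, Finset.mem_erase] at hχ
    exact ⟨Exceptional.one_lt_degree hp.out hG hχ.1 (hdg χ), hdgdvd χ, hcd χ ▸ (hXd χ hχ.2).2.1,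
      (hXd χ hχ.2).1⟩
  · rw [List.length_map, Finset.length_toList, Finset.card_erase_of_mem hTX, hXc]
    omega
  · have h := hrel θ hθ 1 hone
    simp only [hdg] at h
    have h' : (((1 + (L.map fun χ => sgn χ * (dg χ : ℤ)).sum : ℤ)) : ℂ) = ((ε * dg θ : ℤ) : ℂ) := by
      push_cast [Int.cast_list_sum, List.map_map, Function.comp_def]
      rw [h, hsplit, hTs, hdgT]
      simp
    simpa [List.map_map, Function.comp_def] using (Int.cast_inj.1 h')
  · have htot : ∑ χ : Cfsg.IrrCharacter G, (dg χ : ℝ) ^ 2 = Nat.card G := by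
      have h := Char.sum_irr_degree_sq (G := G)
      simp only [hdg] at h
      exact_mod_cast h
    have hle : ∑ χ ∈ X ∪ Y, (dg χ : ℝ) ^ 2 ≤ Nat.card G :=
      htot ▸ Finset.sum_le_sum_of_subset_of_nonneg (Finset.subset_univ _) fun χ _ _ => sq_nonneg _
    rw [Finset.sum_union hdisj, hsplit, hdgT,
      Finset.sum_congr rfl (fun θ' h => by rw [hYdg θ' h] : ∀ θ' ∈ Y, (dg θ' : ℝ) ^ 2 = (dg θ : ℝ) ^ 2),
      Finset.sum_const, hYc, nsmul_eq_mul] at hle
    have h' : ((1 + t * dg θ ^ 2 + (L.map fun χ => dg χ ^ 2).sum : ℕ) : ℝ) ≤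
        ((Nat.card G : ℕ) : ℝ) := by
      push_cast [Nat.cast_list_sum, List.map_map, Function.comp_def] at hle ⊢
      linarith
    simpa [List.map_map, Function.comp_def] using (Nat.cast_le.1 h')
  intro g hg
  choose w hw hwi hwlt using fun χ : Cfsg.IrrCharacter G =>
    Exceptional.exists_involution_value_lt χ.2 (hdg χ) hg
  have hgreg : ¬ p ∣ orderOf g := by
    rw [hg]
    intro h
    have hp2 : p = 2 := (Nat.prime_dvd_prime_iff_eq hp.out Nat.prime_two).1 h
    -- the Sylow `2`-subgroups of a simple group are not cyclic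
    subst hp2
    exact SmallGroups.not_isCyclic_sylow_two hG (hg ▸ orderOf_dvd_natCard g) P
      (isCyclic_of_prime_card hP)
  have hwY : ∀ θ' ∈ Y, w θ' = w θ := fun θ' h => by
    have := hYeq θ' h g hgreg
    rw [hw, hw] at this
    exact_mod_cast this
  have hwT : w (Char.trivialIrr G) = 1 := by
    have h := (hw (Char.trivialIrr G)).symm.trans
      (show ((Char.trivialIrr G : Cfsg.IrrCharacter G) : G → ℂ) g = 1 from rfl)
    exact_mod_cast h
  refine ⟨w θ, L.map fun χ => (dg χ, sgn χ, w χ), by simp [List.map_map, Function.comp_def],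
    hwlt _ (Exceptional.one_lt_degree hp.out hG hθT (hdg θ)), ?_, ?_, ?_, ?_⟩
  · intro z hz
    obtain ⟨χ, hχ, rfl⟩ := List.mem_map.1 hz
    rw [Finset.mem_toList, Finset.mem_erase] at hχ
    exact hwlt χ (Exceptional.one_lt_degree hp.out hG hχ.1 (hdg χ))
  · have h := hrel θ hθ g hgreg
    simp only [hw] at h
    apply Int.cast_injective (α := ℂ)
    push_cast [Int.cast_list_sum, List.map_map, Function.comp_def]
    rw [h, hsplit, hTs, hwT]
    simp
  · have hle : ∑ χ ∈ X ∪ Y, (w χ : ℝ) ^ 2 ≤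
        (Nat.card ↥(Subgroup.centralizer ({g} : Set G)) : ℝ) :=
      Exceptional.sum_sq_involution g w hw ▸
        Finset.sum_le_sum_of_subset_of_nonneg (Finset.subset_univ _) fun χ _ _ => sq_nonneg _
    rw [Finset.sum_union hdisj, hsplit, hwT,
      Finset.sum_congr rfl (fun θ' h => by rw [hwY θ' h] : ∀ θ' ∈ Y, (w θ' : ℝ) ^ 2 = (w θ : ℝ) ^ 2),
      Finset.sum_const, hYc, nsmul_eq_mul] at hle
    have h' : (((1 + (t : ℤ) * w θ ^ 2 + (L.map fun χ => w χ ^ 2).sum : ℤ)) : ℝ) ≤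
        (((Nat.card ↥(Subgroup.centralizer ({g} : Set G)) : ℕ) : ℤ) : ℝ) := by
      push_cast [Int.cast_list_sum, List.map_map, Function.comp_def] at hle ⊢
      linarith
    simpa [List.map_map, Function.comp_def] using (Int.cast_le.1 h')
  · obtain ⟨m, hm, hsum⟩ := sum_secCount_involution P hP hx hx1 hC hM hg
    refine ⟨m, hm, ?_⟩
    -- expand the class function in irreducible characters
    set f : G → ℂ := fun h => (secCount P x h : ℂ) with hf
    have hfc : Cfsg.IsClassFunction G f := secCount_isClassFunction P hP hx hx1 hC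
    have hcoef : ∀ χ : IrrCharacter G, Cfsg.classInner f (χ : G → ℂ) =
        conj (∑ z ∈ sectionSet P x, (χ : G → ℂ) z) := by
      intro χ
      have h := sum_secCount_mul P hP hx hx1 hC (χ : G → ℂ) (Char.irr_isClassFunction χ.2)
      rw [← Char.classInner_conj (χ : G → ℂ) f]
      congr 1
      rw [Cfsg.classInner, inv_mul_eq_iff_eq_mul₀ Char.card_ne_zero_complex, ← h]
      exact Finset.sum_congr rfl fun h _ => by simp only [hf, map_natCast]; ring
    have hlhs : ∑ h : G, f (g * (h * g * h⁻¹)) = ∑ χ : IrrCharacter G,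
        Cfsg.classInner f (χ : G → ℂ) * ((Nat.card G : ℂ) * ((w χ : ℂ) ^ 2 / (dg χ : ℂ))) := by
      conv_lhs => rw [Char.eq_sum_classInner_smul hfc]
      simp only [Finset.sum_apply, Pi.smul_apply, smul_eq_mul]
      rw [Finset.sum_comm]
      refine Finset.sum_congr rfl fun χ _ => ?_
      rw [← Finset.mul_sum, BlocksChar.sum_conj_mul χ.2 g g, hw, hdg]
      ring
    rw [← Finset.sum_subset (Finset.subset_univ (X ∪ Y)) (fun χ _ hχ => by
      rw [hcoef, sum_section_eq_zero P hP hx hx1 hC hM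
        (fun h => hχ (Finset.mem_union.2 ((hB χ).1 h))), map_zero, zero_mul]),
      Finset.sum_union hdisj] at hlhs
    have hX' : ∀ χ ∈ X, Cfsg.classInner f (χ : G → ℂ) = (c : ℂ) * (sgn χ : ℂ) := fun χ hχ => by
      rw [hcoef, sum_section_principal P hP hx hx1 hC hM ((hB χ).2 (.inl hχ)),
        (hXd χ hχ).2.2 x hx hx1]
      simp
    rw [Finset.sum_congr rfl (fun χ hχ => by rw [hX' χ hχ] : ∀ χ ∈ X,
        Cfsg.classInner f (χ : G → ℂ) * ((Nat.card G : ℂ) * ((w χ : ℂ) ^ 2 / (dg χ : ℂ))) =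
        (c : ℂ) * (sgn χ : ℂ) * ((Nat.card G : ℂ) * ((w χ : ℂ) ^ 2 / (dg χ : ℂ))))] at hlhs
    have hY' : ∑ χ ∈ Y, Cfsg.classInner f (χ : G → ℂ) *
        ((Nat.card G : ℂ) * ((w χ : ℂ) ^ 2 / (dg χ : ℂ))) =
        -((c : ℂ) * ε * ((Nat.card G : ℂ) * ((w θ : ℂ) ^ 2 / (dg θ : ℂ)))) := by
      rw [Finset.sum_congr rfl (g := fun χ : IrrCharacter G => conj ((c : ℂ) * (χ : G → ℂ) x) *
        ((Nat.card G : ℂ) * ((w θ : ℂ) ^ 2 / (dg θ : ℂ)))) (fun χ hχ => by
          rw [hcoef, sum_section_principal P hP hx hx1 hC hM ((hB χ).2 (.inr hχ)), hwY χ hχ,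
            hYdg χ hχ]), ← Finset.sum_mul, ← map_sum, ← Finset.mul_sum, hYsum x hx hx1]
      simp
    rw [hY'] at hlhs
    have hsum' : ∑ h : G, f (g * (h * g * h⁻¹)) =
        ((Nat.card ↥(Subgroup.centralizer ({g} : Set G)) ^ 2 * m : ℕ) : ℂ) := by
      rw [← hsum]; push_cast; rfl
    rw [hsum', hsplit, hTs, hwT, hdgT] at hlhs
    have hl2 : (L.map fun χ => (c : ℂ) * (sgn χ : ℂ) * ((Nat.card G : ℂ) * ((w χ : ℂ) ^ 2 / (dg χ : ℂ)))).sum =
        (c : ℂ) * (Nat.card G : ℂ) *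
          (L.map fun χ => (sgn χ : ℂ) * ((w χ : ℂ) ^ 2 / (dg χ : ℂ))).sum := by
      rw [← List.sum_map_mul_left]
      exact congrArg List.sum (List.map_congr_left fun χ _ => by ring)
    rw [hl2] at hlhs
    apply Rat.cast_injective (α := ℂ)
    push_cast [Rat.cast_list_sum, List.map_map, Function.comp_def] at hlhs ⊢
    linear_combination -hlhs

end Cfsg.Agent.SmallGroups.OrderP
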