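import Cfsg.Agent.SmallGroups.ThreePrimes
import Cfsg.Agent.LeastOrder.Bound
import Cfsg.Agent.Char.Burnside
import Cfsg.Agent.S0073

/-!
# Tools excluding orders of simple groups up to 1092
-/

set_option autoImplicit false
set_option linter.style.haveILetI false
set_option linter.unusedSectionVars false

namespace Cfsg.Agent.SmallGroups.BelowThousand

open Subgroup

/-- Divisibility of a factorial, in a form suitable for evaluation. -/
def factOk (n s : ℕ) : Bool := s.factorial % (2 * n) == 0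

/-- Candidates for the orders. -/
def chk (n : ℕ) : Bool :=
  let ps := [2, 3, 5, 7, 11, 13].filter fun q => n % q == 0
  30030 ^ 10 % n == 0 && decide (3 ≤ ps.length) &&
    ps.all (fun q => decide (q * (q * q - 1) / 2 ≤ n)) &&
    ps.any (fun p => ps.all (fun q => decide (p ≤ q)) && (n % p ^ 3 == 0 || n % 12 == 0))

/-- The orders passing `chk`. -/
def orders : List ℕ :=
  [60, 120, 168, 180, 240, 252, 280, 300, 336, 360, 420, 480, 504, 540, 560, 588, 600, 660, 672,
    720, 756, 792, 840, 880, 900, 924, 945, 960, 1008, 1056, 1080, 1092]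

theorem chk_orders : ∀ n < 1093, chk n = true → n ∈ orders := by decide +kernel

variable {G : Type} [Group G] [Finite G] [IsSimpleGroup G]

theorem chk_card (hG : ¬ IsMulCommutative G) (hle : Nat.card G ≤ 1092) :
    chk (Nat.card G) = true := by
  have hpos : 0 < Nat.card G := Nat.card_pos
  have hprime : ∀ q : ℕ, q.Prime → q ∣ Nat.card G →
      q ∈ [2, 3, 5, 7, 11, 13] ∧ q * (q * q - 1) / 2 ≤ Nat.card G := by
    intro q hq hd
    have := Fact.mk hq
    have hb := LeastOrder.bound_of_simple (p := q) hG hd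
    rw [pow_two] at hb
    refine ⟨?_, hb⟩
    have h13 : q ≤ 13 := by
      by_contra h
      have h17 : 17 ≤ q := by
        by_contra h'
        interval_cases q <;> first | norm_num at hq | omega
      have h1 : 17 * (17 * 17 - 1) / 2 ≤ q * (q * q - 1) / 2 :=
        Nat.div_le_div_right (Nat.mul_le_mul h17 (Nat.sub_le_sub_right (Nat.mul_le_mul h17 h17) 1))
      omega
    interval_cases q <;> first | decide | norm_num at hq
  have hps : ∀ q, q ∈ [2, 3, 5, 7, 11, 13].filter (fun q => Nat.card G % q == 0) ↔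
      q.Prime ∧ q ∣ Nat.card G := by
    intro q
    rw [List.mem_filter, beq_iff_eq]
    constructor
    · rintro ⟨h1, h2⟩
      refine ⟨?_, Nat.dvd_of_mod_eq_zero h2⟩
      simp only [List.mem_cons, List.not_mem_nil, or_false] at h1
      rcases h1 with rfl | rfl | rfl | rfl | rfl | rfl <;> norm_num
    · exact fun ⟨h1, h2⟩ => ⟨(hprime q h1 h2).1, Nat.mod_eq_zero_of_dvd h2⟩
  have hlen : 3 ≤ ([2, 3, 5, 7, 11, 13].filter fun q => Nat.card G % q == 0).length := by
    by_contra hlt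
    obtain ⟨p, q, hp, hq, hpq⟩ : ∃ p q : ℕ, p.Prime ∧ q.Prime ∧
        ∀ r, r ∈ [2, 3, 5, 7, 11, 13].filter (fun q => Nat.card G % q == 0) → r = p ∨ r = q := by
      rcases hl : [2, 3, 5, 7, 11, 13].filter (fun q => Nat.card G % q == 0) with
        _ | ⟨p, _ | ⟨q, _ | ⟨r, M⟩⟩⟩
      · exact ⟨2, 2, Nat.prime_two, Nat.prime_two, by simp⟩
      · have := ((hps p).1 (by rw [hl]; simp)).1
        exact ⟨p, p, this, this, by simp⟩
      · exact ⟨p, q, ((hps p).1 (by rw [hl]; simp)).1, ((hps q).1 (by rw [hl]; simp)).1, by simp⟩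
      · rw [hl] at hlt; simp at hlt
    haveI := Char.solvable_of_card_eq_pow_mul_pow p q hp hq (Nat.card G) rfl
      fun r hr hd => hpq r ((hps r).2 ⟨hr, hd⟩)
    exact hG ⟨⟨IsSimpleGroup.comm_iff_isSolvable.2 inferInstance⟩⟩
  obtain ⟨p, hp⟩ : ∃ p, p = (Nat.card G).minFac := ⟨_, rfl⟩
  have hn1 : Nat.card G ≠ 1 := fun h => by
    have := (Nat.card_eq_one_iff_unique.mp h).1
    exact hG ⟨⟨fun a b => Subsingleton.elim _ _⟩⟩
  have hp3 : p ^ 3 ∣ Nat.card G ∨ 12 ∣ Nat.card G := by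
    rw [hp]
    refine Cfsg.Agent.S0073.result ?_
    by_contra h
    push Not at h
    exact hG ⟨⟨h⟩⟩
  simp only [chk, Bool.and_eq_true, Bool.or_eq_true, decide_eq_true_eq, beq_iff_eq, List.all_eq_true,
    List.any_eq_true]
  refine ⟨⟨⟨?_, hlen⟩, fun q hq => (hprime q ((hps q).1 hq).1 ((hps q).1 hq).2).2⟩,
    p, (hps p).2 ⟨hp ▸ Nat.minFac_prime hn1, hp ▸ Nat.minFac_dvd _⟩,
    fun q hq => hp ▸ Nat.minFac_le_of_dvd ((hps q).1 hq).1.two_le ((hps q).1 hq).2,
    hp3.imp Nat.mod_eq_zero_of_dvd Nat.mod_eq_zero_of_dvd⟩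
  refine Nat.mod_eq_zero_of_dvd ((Nat.dvd_iff_prime_pow_dvd_dvd _ _).2 fun q k hq hd => ?_)
  rcases Nat.eq_zero_or_pos k with rfl | hk
  · simp
  have h1 := (hprime q hq ((dvd_pow_self q hk.ne').trans hd)).1
  have hk10 : k ≤ 10 := by
    by_contra h
    have h2 : 2 ^ 11 ≤ q ^ k :=
      (Nat.pow_le_pow_left hq.two_le 11).trans (Nat.pow_le_pow_right hq.pos (by omega))
    have := Nat.le_of_dvd hpos hd
    norm_num at h2
    omega
  refine (pow_dvd_pow q hk10).trans (pow_dvd_pow_of_dvd ?_ 10)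
  simp only [List.mem_cons, List.not_mem_nil, or_false] at h1
  rcases h1 with rfl | rfl | rfl | rfl | rfl | rfl <;> norm_num

variable (hG : ¬ IsMulCommutative G)
include hG

theorem factOk_card_sylow {p : ℕ} [Fact p.Prime] (hd : p ∣ Nat.card G) :
    factOk (Nat.card G) (Nat.card (Sylow p G)) = true := by
  rw [factOk, beq_iff_eq]
  exact Nat.mod_eq_zero_of_dvd (two_mul_card_dvd_factorial_card_sylow hG hd)

theorem factOk_index {H : Subgroup G} (hH : H ≠ ⊤) : factOk (Nat.card G) H.index = true := by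
  rw [factOk, beq_iff_eq]
  exact Nat.mod_eq_zero_of_dvd (two_mul_card_dvd_factorial hG H hH)

/-- The possible Sylow numbers. -/
theorem kill_sylow (r a m N : ℕ) [Fact r.Prime] (hN : Nat.card G = N) (hm : N = r ^ (a + 1) * m)
    (hm0 : m ≠ 0)
    (h : ∀ s ∈ m.divisors, s % r = 1 → 1 < s → factOk N s = false) : False := by
  have h1 := card_sylow_mem hG (p := r) (hN.trans hm) hm0
  rw [Finset.mem_filter] at h1
  have h2 := factOk_card_sylow hG (p := r)
    (dvd_trans (dvd_mul_of_dvd_left (dvd_pow_self r a.succ_ne_zero) m) (dvd_of_eq (hN.trans hm).symm))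
  rw [hN, h _ h1.1 h1.2.1 h1.2.2] at h2
  exact absurd h2 (by simp)

/-- The data of a Sylow subgroup of prime order. -/
theorem prime_data (r m N : ℕ) [Fact r.Prime] (hN : Nat.card G = N) (hm : N = r * m)
    (hr : ¬ r ∣ m) :
    ∃ n k c : ℕ, Nat.card (Sylow r G) = n ∧ n ∈ m.divisors ∧ n % r = 1 ∧ 1 < n ∧
      k ∈ (r - 1).divisors ∧ 1 < k ∧ n * (k * c) = m ∧ factOk N n = true ∧
      (∀ P : Sylow r G, Nat.card ↥(P : Subgroup G) = r) ∧
      (∀ P : Sylow r G, Nat.card ↥(centralizer ((P : Subgroup G) : Set G)) = r * c) ∧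
      ∀ P : Sylow r G, Nat.card ↥(normalizer ((P : Subgroup G) : Set G)) = r * (k * c) := by
  obtain ⟨n, k, c, hn, hn', hk, hnk, hP, hC, hNP⟩ := exists_primeSylow_data hG (hN.trans hm) hr
  rw [Finset.mem_filter] at hn' hk
  refine ⟨n, k, c, hn, hn'.1, hn'.2.1, hn'.2.2, hk.1, hk.2, hnk, ?_, hP, hC, hNP⟩
  rw [← hn, ← hN]
  exact factOk_card_sylow hG (hN.trans hm ▸ dvd_mul_right r m)

/-- A Sylow subgroup of prime order without admissible data. -/
theorem kill_prime (r m N : ℕ) [Fact r.Prime] (hN : Nat.card G = N) (hm : N = r * m)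
    (hr : ¬ r ∣ m)
    (h : ∀ n ∈ m.divisors, n % r = 1 → 1 < n →
      factOk N n = false ∨ ∀ k ∈ (r - 1).divisors, 1 < k → m % (n * k) ≠ 0) : False := by
  obtain ⟨n, k, c, -, h1, h2, h3, h4, h5, h6, h7, -⟩ := prime_data hG r m N hN hm hr
  rcases h n h1 h2 h3 with h' | h'
  · rw [h'] at h7; exact absurd h7 (by simp)
  · exact h' k h4 h5 (Nat.mod_eq_zero_of_dvd ⟨c, by rw [← h6]; ring⟩)

/-- Three prime divisors, one of them to the first power. -/
theorem kill_three (p q r a b N : ℕ) [hr : Fact r.Prime] (hp : p.Prime) (hq : q.Prime)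
    (hd : p ≠ q ∧ p ≠ r ∧ q ≠ r) (hN : Nat.card G = N) (hm : N = p ^ a * q ^ b * r)
    (h : ∀ n ∈ (p ^ a * q ^ b).divisors, n % r = 1 → 1 < n →
      factOk N n = false ∨ (r - 1) % (p ^ a * q ^ b / n) ≠ 0 ∨ p ^ a * q ^ b / n = 1) : False := by
  obtain ⟨n, k, hn, h1, h2, hk, hk1, hnk, -⟩ :=
    exists_threePrime_data hG hp hq hd.1 hd.2.1 hd.2.2 (hN.trans hm)
  have hm0 : p ^ a * q ^ b ≠ 0 := mul_ne_zero (pow_ne_zero a hp.ne_zero) (pow_ne_zero b hq.ne_zero)
  rcases h n (Nat.mem_divisors.2 ⟨⟨k, hnk.symm⟩, hm0⟩) h1 h2 with h' | h'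
  · have := factOk_card_sylow hG (p := r) (hN.trans hm ▸ dvd_mul_left r _)
    rw [hN, hn, h'] at this
    exact absurd this (by simp)
  · rcases h' with h' | h'
    · refine h' (Nat.mod_eq_zero_of_dvd ?_)
      rwa [← hnk, Nat.mul_div_cancel_left _ (by omega)]
    · rw [← hnk, Nat.mul_div_cancel_left _ (by omega)] at h'
      omega

/-- Sylow numbers not congruent to one modulo `p ^ 2`. -/
theorem kill_inter (p a m N : ℕ) [hp : Fact p.Prime] (hN : Nat.card G = N)
    (hm : N = p ^ (a + 1) * m) (ha : 1 ≤ a) (hpm : ¬ p ∣ m) (hm0 : m ≠ 0)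
    (h1 : ∀ s ∈ m.divisors, s % p = 1 → 1 < s → factOk N s = true → s % (p ^ 2) ≠ 1)
    (h2 : ∀ s ∈ m.divisors, s * (p + 1) ≤ m → factOk N s = false) : False := by
  classical
  have hc : Nat.card G = p ^ (a + 1) * m := hN.trans hm
  have hP : ∀ P : Sylow p G, Nat.card ↥(P : Subgroup G) = p ^ (a + 1) :=
    fun P => card_sylow_subgroup hc hpm P
  have hmem := card_sylow_mem hG (p := p) hc hm0
  rw [Finset.mem_filter] at hmem
  have hne : Nat.card (Sylow p G) % p ^ 2 ≠ 1 := h1 _ hmem.1 hmem.2.1 hmem.2.2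
    (hN ▸ factOk_card_sylow hG (dvd_trans (dvd_mul_of_dvd_left (dvd_pow_self p a.succ_ne_zero) m)
      (dvd_of_eq hc.symm)))
  obtain ⟨P⟩ := (inferInstance : Nonempty (Sylow p G))
  -- a Sylow subgroup meeting `P` in a subgroup of index `p`
  obtain ⟨Q, hQ, hPQ⟩ : ∃ Q : Sylow p G, Q ≠ P ∧
      Nat.card ↥((P : Subgroup G) ⊓ (Q : Subgroup G)) = p ^ a := by
    by_contra hcon
    push Not at hcon
    refine hne ?_
    letI : Fintype (Sylow p G) := Fintype.ofFinite _
    letI : Fintype (MulAction.orbitRel.Quotient (P : Subgroup G) (Sylow p G)) := Fintype.ofFinite _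
    let ω₀ : MulAction.orbitRel.Quotient (P : Subgroup G) (Sylow p G) := Quotient.mk'' P
    have horb : ∀ Q : Sylow p G, Nat.card (MulAction.orbit (P : Subgroup G) Q) *
        Nat.card ↥((P : Subgroup G) ⊓ (Q : Subgroup G)) = p ^ (a + 1) := by
      intro Q
      have e : MulAction.stabilizer (P : Subgroup G) Q =
          ((P : Subgroup G) ⊓ (Q : Subgroup G)).subgroupOf (P : Subgroup G) := by
        rw [Subgroup.inf_subgroupOf_left]
        ext x
        rw [MulAction.mem_stabilizer_iff, Subgroup.mem_subgroupOf]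
        refine Sylow.smul_eq_iff_mem_normalizer.trans ⟨fun hx => ?_, fun hx => le_normalizer hx⟩
        exact (le_of_eq (IsPGroup.inf_normalizer_sylow P.2 Q) ⟨x.2, hx⟩).2
      rw [← hP P, ← Subgroup.card_mul_index (MulAction.stabilizer (P : Subgroup G) Q), mul_comm,
        MulAction.index_stabilizer, Nat.card_coe_set_eq, e,
        Nat.card_congr (Subgroup.subgroupOfEquivOfLe inf_le_left).toEquiv]
    rw [← Nat.card_congr (MulAction.selfEquivSigmaOrbits (P : Subgroup G) (Sylow p G)).symm,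
      Nat.card_sigma, ← Finset.add_sum_erase _ _ (Finset.mem_univ ω₀)]
    have h0 : Nat.card (MulAction.orbit (P : Subgroup G) (Quotient.out ω₀)) = 1 := by
      have e : MulAction.orbit (P : Subgroup G) (Quotient.out ω₀) =
          MulAction.orbit (P : Subgroup G) P :=
        MulAction.orbit_eq_iff.2 (MulAction.orbitRel_apply.1 (Quotient.exact' (Quotient.out_eq' ω₀)))
      rw [e]
      have := horb P
      rw [inf_idem, hP P] at this
      exact (mul_eq_right₀ (pow_ne_zero _ hp.out.ne_zero)).1 this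
    have h' : ∀ ω ∈ Finset.univ.erase ω₀,
        p ^ 2 ∣ Nat.card (MulAction.orbit (P : Subgroup G) (Quotient.out ω)) := by
      intro ω hω
      have hQP : Quotient.out ω ≠ P := fun h => (Finset.mem_erase.1 hω).1 (by
        rw [← Quotient.out_eq' ω, h])
      obtain ⟨i, hi, hi'⟩ := (Nat.dvd_prime_pow hp.out).1 (hP P ▸
        Subgroup.card_dvd_of_le (inf_le_left :
          (P : Subgroup G) ⊓ (Quotient.out ω : Sylow p G) ≤ P))
      have hia : i ≠ a := fun h => hcon _ hQP (h ▸ hi')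
      have hia1 : i ≠ a + 1 := fun h => hQP (Sylow.ext (Subgroup.eq_of_le_of_card_ge (fun x hx => by
        have h' := Subgroup.eq_of_le_of_card_ge (inf_le_left :
          (P : Subgroup G) ⊓ (Quotient.out ω : Sylow p G) ≤ P) (by rw [hP, hi', h])
        exact (h'.ge hx).2) (by rw [hP, hP])).symm)
      have := horb (Quotient.out ω)
      rw [hi', show a + 1 = (a + 1 - i) + i by omega, pow_add] at this
      rw [Nat.eq_of_mul_eq_mul_right (pow_pos hp.out.pos i) this]
      exact pow_dvd_pow p (by omega)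
    obtain ⟨t, ht⟩ := Finset.dvd_sum h'
    rw [h0, ht, Nat.add_mul_mod_self_left]
    exact Nat.mod_eq_of_lt (Nat.one_lt_pow two_ne_zero hp.out.one_lt)
  set D := (P : Subgroup G) ⊓ (Q : Subgroup G) with hD
  set H := normalizer (D : Set G)
  have hle : ∀ R : Sylow p G, D ≤ R → (R : Subgroup G) ≤ H := by
    intro R hR
    have hidx : (D.subgroupOf (R : Subgroup G)).index = p := by
      refine Nat.eq_of_mul_eq_mul_left (pow_pos hp.out.pos a) ?_
      have := (D.subgroupOf (R : Subgroup G)).card_mul_index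
      rw [Nat.card_congr (Subgroup.subgroupOfEquivOfLe hR).toEquiv, hPQ, hP R] at this
      rw [this, pow_succ]
    haveI : (D.subgroupOf (R : Subgroup G)).Normal := by
      refine Subgroup.normal_of_index_eq_minFac_card ?_
      rw [hidx, hP R, Nat.pow_minFac a.succ_ne_zero, hp.out.minFac_eq]
    exact le_normalizer_of_normal_subgroupOf hR
  have hPH := hle P inf_le_left
  have hQH := hle Q inf_le_right
  have hH : H ≠ ⊤ := fun hT => by
    have hn : D.Normal := Subgroup.normalizer_eq_top_iff.1 hT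
    rcases hn.eq_bot_or_eq_top with h | h
    · rw [h, Subgroup.card_bot] at hPQ
      exact (Nat.one_lt_pow (by omega) hp.out.one_lt).ne hPQ
    · have h2 := Subgroup.card_le_of_le (h ▸ inf_le_left : (⊤ : Subgroup G) ≤ (P : Subgroup G))
      rw [hP, Subgroup.card_top] at h2
      rw [h, Subgroup.card_top] at hPQ
      rw [hc] at h2 hPQ
      have : p ^ a < p ^ (a + 1) := Nat.pow_lt_pow_right hp.out.one_lt (by omega)
      have : p ^ (a + 1) ≤ p ^ (a + 1) * m := Nat.le_mul_of_pos_right _ (Nat.pos_of_ne_zero hm0)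
      omega
  have h3 : p + 1 ≤ Nat.card (Sylow p ↥H) := by
    have h1 : 1 < Nat.card (Sylow p ↥H) := by
      refine Finite.one_lt_card_iff_nontrivial.2 ⟨P.subtype hPH, Q.subtype hQH, fun h => hQ ?_⟩
      exact (Sylow.subtype_injective h).symm
    have := card_sylow_modEq_one p ↥H
    rw [Nat.ModEq, Nat.mod_eq_of_lt hp.out.one_lt] at this
    by_contra hlt
    rcases (show Nat.card (Sylow p ↥H) = p ∨ Nat.card (Sylow p ↥H) < p by omega) with h | h
    · rw [h, Nat.mod_self] at this; omega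
    · rw [Nat.mod_eq_of_lt h] at this; omega
  obtain ⟨j, hj⟩ := hP P ▸ Subgroup.card_dvd_of_le hPH
  have h4 : Nat.card (Sylow p ↥H) ≤ j := by
    have hj0 : 0 < j := Nat.pos_of_ne_zero fun h => by
      rw [h, mul_zero] at hj; exact Nat.card_pos.ne' hj
    exact Nat.le_of_dvd hj0 (card_sylow_dvd hj)
  have h5 : H.index * j = m := by
    have := H.card_mul_index
    rw [hj, hc, mul_assoc] at this
    rw [mul_comm]
    exact Nat.eq_of_mul_eq_mul_left (pow_pos hp.out.pos _) this
  have h6 := factOk_index hG hH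
  rw [hN, h2 H.index (Nat.mem_divisors.2 ⟨⟨j, h5.symm⟩, hm0⟩)
    (le_trans (Nat.mul_le_mul_left _ (h3.trans h4)) h5.le)] at h6
  exact absurd h6 (by simp)

/-- A Sylow `2`-subgroup of the normalizer of a subgroup of order five. -/
theorem kill_cyclic_quotient (P : Subgroup G) (c a : ℕ) (hP : Nat.card ↥P = 5)
    (hC : Nat.card ↥(centralizer (P : Set G)) = 5 * c)
    (hN : Nat.card ↥(normalizer (P : Set G)) = 5 * (4 * c)) (hc : c = 1 ∨ c = 2)
    (ha : 4 * c = 2 ^ a) (hG2 : ∀ T : Sylow 2 G, Nat.card ↥(T : Subgroup G) = 4 * c) : False := by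
  classical
  haveI := Fact.mk Nat.prime_two
  haveI : Fact (Nat.Prime 5) := ⟨by norm_num⟩
  obtain ⟨T₀, hT₀⟩ := Sylow.exists_subgroup_card_pow_prime 2 (G := ↥(normalizer (P : Set G)))
    (n := a) (by rw [hN, ← ha]; exact dvd_mul_left _ _)
  set T := T₀.map (normalizer (P : Set G)).subtype with hT
  have hTc : Nat.card ↥T = 2 ^ a := by
    rw [hT, Subgroup.card_map_of_injective (Subgroup.subtype_injective _), hT₀]
  obtain ⟨S, hTS⟩ := (IsPGroup.of_card hTc).exists_le_sylow
  have hST : (S : Subgroup G) = T :=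
    (Subgroup.eq_of_le_of_card_ge hTS (by rw [hG2 S, hTc, ha])).symm
  have hSN : (S : Subgroup G) ≤ normalizer (P : Set G) := hST ▸ Subgroup.map_subtype_le _
  haveI : IsCyclic ↥P := isCyclic_of_prime_card hP
  haveI : IsCyclic (MulAut ↥P) := by
    haveI : Fact (Nat.card ↥P).Prime := ⟨by rw [hP]; norm_num⟩
    exact isCyclic_of_injective (IsCyclic.mulAutMulEquiv ↥P).toMonoidHom
      (IsCyclic.mulAutMulEquiv ↥P).injective
  let φ : ↥(S : Subgroup G) →* MulAut ↥P := P.normalizerMonoidHom.comp (Subgroup.inclusion hSN)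
  have hker : Nat.card φ.ker ∣ c := by
    have h1 : Nat.card φ.ker ∣ 5 * c := by
      rw [← hC, show Nat.card φ.ker = Nat.card ↥(φ.ker.map (S : Subgroup G).subtype) from
        (Subgroup.card_map_of_injective (S : Subgroup G).subtype_injective).symm]
      refine Subgroup.card_dvd_of_le ?_
      rintro _ ⟨x, hx, rfl⟩
      have h := (P.normalizerMonoidHom_ker ▸ MonoidHom.mem_ker.2 (MonoidHom.mem_ker.1 hx) :
        Subgroup.inclusion hSN x ∈ (centralizer (P : Set G)).subgroupOf (normalizer (P : Set G)))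
      exact h
    have h2 : Nat.card φ.ker ∣ 2 ^ a := by
      rw [← ha, ← hG2 S]; exact Subgroup.card_subgroup_dvd_card _
    exact ((Nat.Coprime.pow_left a (by norm_num : Nat.Coprime 2 5)).coprime_dvd_left h2).dvd_of_dvd_mul_left h1
  have hrange : Nat.card φ.range = 4 ∧ Nat.card φ.ker = c := by
    have h1 : Nat.card φ.range * Nat.card φ.ker = 4 * c := by
      rw [← Subgroup.index_ker, Subgroup.index_mul_card, hG2 S]
    have h2 : Nat.card φ.range ∣ 4 := by
      have := Subgroup.card_subgroup_dvd_card φ.range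
      rwa [IsCyclic.card_mulAut, hP, Nat.totient_prime (by norm_num : Nat.Prime 5)] at this
    have h3 := Nat.le_of_dvd (by norm_num) h2
    have h4 := Nat.le_of_dvd (by rcases hc with rfl | rfl <;> norm_num) hker
    have h5 : 0 < Nat.card φ.range := Nat.card_pos
    have h6 : 0 < Nat.card φ.ker := Nat.card_pos
    constructor <;> nlinarith
  have h2G : 2 ∣ Nat.card G :=
    (Dvd.intro (2 * c) (by ring : 2 * (2 * c) = 4 * c)).trans (hG2 S ▸ Subgroup.card_subgroup_dvd_card _)
  have hncyc := not_isCyclic_sylow_two hG h2G S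
  have hkc : φ.ker ≤ center ↥(S : Subgroup G) := by
    intro x hx
    rw [Subgroup.mem_center_iff]
    intro g
    by_cases hx1 : x = 1
    · simp [hx1]
    have hgx : g * x * g⁻¹ ∈ φ.ker := (MonoidHom.normal_ker φ).conj_mem x hx g
    have hne : g * x * g⁻¹ ≠ 1 := fun h => hx1 (conj_eq_one_iff.1 h)
    have hcard : Nat.card φ.ker ≤ 2 := hrange.2 ▸ (by rcases hc with rfl | rfl <;> norm_num)
    have heq : (⟨g * x * g⁻¹, hgx⟩ : φ.ker) = ⟨x, hx⟩ := by
      by_contra hne'
      have := Fintype.ofFinite φ.ker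
      have h3 : ({1, ⟨g * x * g⁻¹, hgx⟩, ⟨x, hx⟩} : Finset φ.ker).card = 3 :=
        Finset.card_eq_three.2 ⟨_, _, _, fun h => hne (congrArg Subtype.val h).symm,
          fun h => hx1 (congrArg Subtype.val h).symm, hne', rfl⟩
      have h4 := Finset.card_le_univ ({1, ⟨g * x * g⁻¹, hgx⟩, ⟨x, hx⟩} : Finset φ.ker)
      rw [h3, ← Nat.card_eq_fintype_card] at h4
      omega
    exact mul_inv_eq_iff_eq_mul.1 (congrArg Subtype.val heq)
  haveI : IsCyclic φ.range := inferInstance
  have hcomm : IsMulCommutative ↥(S : Subgroup G) :=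
    ⟨⟨commutative_of_cyclic_center_quotient φ.rangeRestrict (by rw [φ.ker_rangeRestrict]; exact hkc)⟩⟩
  obtain ⟨⟨y, hy⟩, hy4⟩ := IsCyclic.exists_ofOrder_eq_natCard (α := φ.range)
  obtain ⟨x, hx⟩ := hy
  rw [hrange.1, ← Subgroup.orderOf_coe] at hy4
  simp only [← hx] at hy4
  have hx2 : x ^ 2 ≠ 1 := fun h => by
    have h' : φ x ^ 2 = 1 := by rw [← map_pow, h, map_one]
    have := Nat.le_of_dvd (by norm_num) (orderOf_dvd_of_pow_eq_one h')
    omega
  rcases hc with rfl | rfl
  · refine hncyc (isCyclic_of_injective φ.rangeRestrict ((MonoidHom.ker_eq_bot_iff _).1 ?_))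
    rw [φ.ker_rangeRestrict]
    exact Subgroup.card_eq_one.1 hrange.2
  -- `x ^ 2` is the only nontrivial square
  open scoped IsMulCommutative in
  have hsq : ∀ u : ↥(S : Subgroup G), u ^ 2 ≠ 1 → u ^ 2 = x ^ 2 := by
    let sq : ↥(S : Subgroup G) →* ↥(S : Subgroup G) := powMonoidHom 2
    obtain ⟨⟨w, hw⟩, hw1⟩ := exists_prime_orderOf_dvd_card' (G := φ.ker) 2 (by rw [hrange.2])
    have hww : w ^ 2 = 1 := by
      rw [Subgroup.orderOf_mk] at hw1
      exact orderOf_dvd_iff_pow_eq_one.1 (dvd_of_eq hw1)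
    have hwne : w ≠ 1 := fun h => by rw [Subgroup.orderOf_mk, h, orderOf_one] at hw1; omega
    have h8 : (x ^ 2) ^ 2 = 1 := by
      by_contra h8
      refine hncyc (isCyclic_of_orderOf_eq_card x ?_)
      obtain ⟨i, hi, hi'⟩ := (Nat.dvd_prime_pow Nat.prime_two).1
        ((orderOf_dvd_natCard x).trans (dvd_of_eq (hG2 S |>.trans ha)))
      rw [hG2 S, hi']
      have ha3 : a = 3 := Nat.pow_right_injective le_rfl (ha.symm.trans (by norm_num))
      subst ha3
      interval_cases i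
      · exact absurd (orderOf_eq_one_iff.1 (hi'.trans (pow_zero 2))) fun h => hx2 (by rw [h, one_pow])
      · exact absurd (orderOf_dvd_iff_pow_eq_one.1 (dvd_of_eq (hi'.trans (pow_one _)))) hx2
      · exact absurd (by rw [← pow_mul, show 2 * 2 = 2 ^ 2 by norm_num, ← hi', pow_orderOf_eq_one]) h8
      · rfl
    have hxw : x ^ 2 ≠ w := fun h => by
      have h' := MonoidHom.mem_ker.1 hw
      rw [← h, map_pow] at h'
      have := Nat.le_of_dvd (by norm_num) (orderOf_dvd_of_pow_eq_one h')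
      omega
    have hk4 : 4 ≤ Nat.card sq.ker := by
      have := Fintype.ofFinite sq.ker
      have h3 : ({⟨1, one_mem _⟩, ⟨x ^ 2, h8⟩, ⟨w, hww⟩} : Finset sq.ker).card = 3 :=
        Finset.card_eq_three.2 ⟨_, _, _, fun h => hx2 (congrArg Subtype.val h).symm,
          fun h => hwne (congrArg Subtype.val h).symm, fun h => hxw (congrArg Subtype.val h), rfl⟩
      have h4 := Finset.card_le_univ
        ({⟨1, one_mem _⟩, ⟨x ^ 2, h8⟩, ⟨w, hww⟩} : Finset sq.ker)
      rw [h3, ← Nat.card_eq_fintype_card] at h4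
      have h5 : Nat.card sq.ker ∣ 8 := by
        have := Subgroup.card_subgroup_dvd_card sq.ker
        rwa [hG2 S] at this
      by_contra hlt
      interval_cases hh : Nat.card sq.ker
      norm_num at h5
    have hr2 : Nat.card sq.range ≤ 2 := by
      have h1 : Nat.card sq.range * Nat.card sq.ker = 8 := by
        rw [← Subgroup.index_ker, Subgroup.index_mul_card, hG2 S]
      nlinarith [Nat.card_pos (α := sq.range)]
    intro u hu
    by_contra hne
    have := Fintype.ofFinite sq.range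
    have h3 : ({1, ⟨u ^ 2, u, rfl⟩, ⟨x ^ 2, x, rfl⟩} : Finset sq.range).card = 3 :=
      Finset.card_eq_three.2 ⟨_, _, _, fun h => hu (congrArg Subtype.val h).symm,
        fun h => hx2 (congrArg Subtype.val h).symm, fun h => hne (congrArg Subtype.val h), rfl⟩
    have h4 := Finset.card_le_univ
      ({1, ⟨u ^ 2, u, rfl⟩, ⟨x ^ 2, x, rfl⟩} : Finset sq.range)
    rw [h3, ← Nat.card_eq_fintype_card] at h4
    omega
  refine hx2 (Subtype.ext (eq_one_of_central_in_normalizer hG S (x ^ 2).2 fun n hn => ?_))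
  have hmem : n * (x : G) * n⁻¹ ∈ (S : Subgroup G) := (Subgroup.mem_normalizer_iff.1 hn _).1 x.2
  have hv : ((⟨_, hmem⟩ : ↥(S : Subgroup G)) : G) ^ 2 = n * (x : G) ^ 2 * n⁻¹ := conj_pow
  have := hsq ⟨_, hmem⟩ fun h => hx2 (Subtype.ext (by
    have h' := hv.symm.trans (congrArg Subtype.val h)
    rw [SubmonoidClass.coe_pow]
    exact conj_eq_one_iff.1 h'))
  have := hv.symm.trans (congrArg Subtype.val this)
  rw [SubmonoidClass.coe_pow] at this ⊢
  exact mul_inv_eq_iff_eq_mul.1 this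

/-- A subgroup of small index against a Sylow subgroup of prime order. -/
theorem kill_index (p N i nP : ℕ) [Fact p.Prime] (hp : p ≠ 2) (H : Subgroup G) (hi : H.index = i)
    (P : Subgroup G) (hP : Nat.card ↥P = p) (hPn : Nat.card ↥(normalizer (P : Set G)) = nP)
    (hbound : 1 < i ∧ i < 2 * p) (hdvd : ¬ 2 * nP ∣ p * (p - 1) * (i - p).factorial)
    (_hN : Nat.card G = N) : False := by
  refine hdvd (hi ▸ hPn ▸ two_mul_card_normalizer_dvd_of_index hG hp H (fun h => ?_)
    (by omega) P hP)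
  rw [h, Subgroup.index_top] at hi
  omega

/-- Elements of order divisible by two of the three primes do not exist, and counting. -/
theorem kill_count (r₁ r₂ r₃ c₁ c₂ c₃ : ℕ) [Fact r₁.Prime] [Fact r₂.Prime] [Fact r₃.Prime]
    (hP₁ : ∀ P : Sylow r₁ G, Nat.card ↥(P : Subgroup G) = r₁)
    (hC₁ : ∀ P : Sylow r₁ G, Nat.card ↥(centralizer ((P : Subgroup G) : Set G)) = r₁ * c₁)
    (hP₂ : ∀ P : Sylow r₂ G, Nat.card ↥(P : Subgroup G) = r₂)
    (hC₂ : ∀ P : Sylow r₂ G, Nat.card ↥(centralizer ((P : Subgroup G) : Set G)) = r₂ * c₂)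
    (hP₃ : ∀ P : Sylow r₃ G, Nat.card ↥(P : Subgroup G) = r₃)
    (hC₃ : ∀ P : Sylow r₃ G, Nat.card ↥(centralizer ((P : Subgroup G) : Set G)) = r₃ * c₃)
    (h12 : ¬ r₂ ∣ r₁ * c₁) (h13 : ¬ r₃ ∣ r₁ * c₁) (h23 : ¬ r₃ ∣ r₂ * c₂)
    (h : Nat.card G < Nat.card (Sylow r₁ G) * ((r₁ - 1) * c₁) +
      Nat.card (Sylow r₂ G) * ((r₂ - 1) * c₂) + Nat.card (Sylow r₃ G) * ((r₃ - 1) * c₃) + 1) :
    False := by
  have hdis : ∀ (r s c : ℕ) [Fact r.Prime] [Fact s.Prime],
      (∀ P : Sylow r G, Nat.card ↥(P : Subgroup G) = r) →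
      (∀ P : Sylow r G, Nat.card ↥(centralizer ((P : Subgroup G) : Set G)) = r * c) →
      ¬ s ∣ r * c → Disjoint {g : G | r ∣ orderOf g} {g : G | s ∣ orderOf g} := by
    intro r s c _ _ hP hC hs
    refine Set.disjoint_left.2 fun g h1 h2 => hs ?_
    exact dvd_of_commute_prime hP hC (x := g ^ (orderOf g / r)) (y := g ^ (orderOf g / s))
      (orderOf_pow_orderOf_div (orderOf_pos g).ne' h1) (orderOf_pow_orderOf_div (orderOf_pos g).ne' h2)
      ((Commute.refl g).pow_pow _ _)
  have hone : ∀ r : ℕ, r.Prime → (1 : G) ∉ {g : G | r ∣ orderOf g} := fun r hr hm => by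
    simp only [Set.mem_setOf_eq, orderOf_one, Nat.dvd_one] at hm
    exact hr.ne_one hm
  have h1 := ncard_three_add_one_le (hdis r₁ r₂ c₁ hP₁ hC₁ h12) (hdis r₁ r₃ c₁ hP₁ hC₁ h13)
    (hdis r₂ r₃ c₂ hP₂ hC₂ h23) (hone _ Fact.out) (hone _ Fact.out) (hone _ Fact.out)
  have := card_dvd_orderOf_ge hP₁ hC₁
  have := card_dvd_orderOf_ge hP₂ hC₂
  have := card_dvd_orderOf_ge hP₃ hC₃
  omega

/-- Two commuting elements of prime order. -/
theorem kill_centralizer (r s c d : ℕ) [Fact r.Prime] [hs : Fact s.Prime]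
    (hCr : ∀ P : Sylow r G, Nat.card ↥(centralizer ((P : Subgroup G) : Set G)) = r * c)
    (hPr : ∀ P : Sylow r G, Nat.card ↥(P : Subgroup G) = r)
    (hPs : ∀ P : Sylow s G, Nat.card ↥(P : Subgroup G) = s)
    (hCs : ∀ P : Sylow s G, Nat.card ↥(centralizer ((P : Subgroup G) : Set G)) = s * d)
    (h1 : s ∣ r * c) (h2 : ¬ r ∣ s * d) : False := by
  obtain ⟨P⟩ := (inferInstance : Nonempty (Sylow r G))
  haveI : Nontrivial ↥(P : Subgroup G) :=
    Finite.one_lt_card_iff_nontrivial.1 (by rw [hPr P]; exact (Fact.out : r.Prime).one_lt)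
  obtain ⟨x, hx⟩ := exists_ne (1 : ↥(P : Subgroup G))
  have hxo : orderOf (x : G) = r := by
    have h := orderOf_dvd_natCard x
    rw [hPr P] at h
    rw [Subgroup.orderOf_coe]
    exact ((Nat.dvd_prime (Fact.out : r.Prime)).1 h).resolve_left (by simpa using hx)
  obtain ⟨y, hy⟩ := exists_prime_orderOf_dvd_card'
    (G := ↥(centralizer ((P : Subgroup G) : Set G))) s (hCr P ▸ h1)
  exact h2 (dvd_of_commute_prime hPs hCs (x := (y : G)) (y := (x : G))
    (by rw [Subgroup.orderOf_coe, hy]) hxo (show Commute (y : G) x from (y.2 x x.2).symm))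

end Cfsg.Agent.SmallGroups.BelowThousand
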