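import Cfsg.Agent.SmallGroups.ThreePrimes
import Cfsg.Agent.SmallGroups.Involution

/-!
# No simple group of order 756
-/

set_option autoImplicit false

namespace Cfsg.Agent.SmallGroups.Order756

/-- Possible degrees. -/
def degs : List ℕ := [2, 3, 4, 6, 7, 9, 12, 14, 18, 21, 27]

theorem mem_degs : ∀ d < 28, 1 < d → d ∣ 756 → d ∈ degs := by decide +kernel

/-- The check on degrees. -/
def ok (ε b : ℤ) (d : ℕ) (x y : ℕ × ℤ) : Bool :=
  ((d : ℤ) - (b - 3 * ε)) % 7 != 0 || (1 + (2 * b + ε) * d + (x.2 * x.1 + y.2 * y.1) != 0) ||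
    decide (756 < 1 + 2 * d ^ 2 + (x.1 ^ 2 + y.1 ^ 2))

theorem all_ok : ∀ c ∈ [((1 : ℤ), (0 : ℤ)), (1, -1), (-1, 0), (-1, 1)], ∀ d ∈ degs,
    ∀ f ∈ degs, ∀ a ∈ [(1 : ℤ), -1], ((f : ℤ) - a) % 7 = 0 →
      ∀ g ∈ degs, ∀ a' ∈ [(1 : ℤ), -1], ((g : ℤ) - a') % 7 = 0 →
        ok c.1 c.2 d (f, a) (g, a') = true := by
  decide +kernel

/-- No finite simple group has order 756 = 2^2 * 3^3 * 7. -/
theorem not_simple_756 {G : Type*} [Group G] [Finite G] [IsSimpleGroup G] : Nat.card G ≠ 756 := by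
  intro hc
  let := Fintype.ofFinite G
  have := Fact.mk (by norm_num : Nat.Prime 7)
  have hG : ¬ IsMulCommutative G := SmallGroups.not_isMulCommutative (by rw [hc]; norm_num)
  obtain ⟨n, k, hn, hn1, hn2, hk, hk1, hnk, hP, hC, hN⟩ := SmallGroups.exists_threePrime_data
    hG Nat.prime_two Nat.prime_three (r := 7) (a := 2) (b := 3)
    (by norm_num) (by norm_num) (by norm_num) (by rw [hc]; norm_num)
  obtain rfl : k = 3 := by
    have hk6 : k ≤ 6 := Nat.le_of_dvd (by norm_num) hk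
    interval_cases k <;> omega
  obtain ⟨P⟩ := (inferInstance : Nonempty (Sylow 7 G))
  obtain ⟨ε, b, d, L, hε, ⟨hd1, hd2, hd3⟩, hL, hnm, hs, hsq, -⟩ :=
    SmallGroups.Exceptional.exists_involution_data (P : Subgroup G) (p := 7) (e := 3)
      (by norm_num) (by norm_num) (hP P) (hC P) (hN P) hG (t := 2) (by norm_num) (by norm_num) le_rfl
  rw [hc] at hd2 hsq
  simp only [hc] at hL
  push_cast at hd3 hL hnm hs
  have hnn : 0 ≤ (L.map fun x => x.2 ^ 2).sum := List.sum_nonneg fun x hx => by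
    obtain ⟨y, -, rfl⟩ := List.mem_map.mp hx
    exact sq_nonneg _
  have hb : b = -1 ∨ b = 0 ∨ b = 1 := by
    have : b ^ 2 ≤ 3 := by nlinarith [sq_nonneg (b + ε)]
    have h1 : b ≤ 1 := by nlinarith
    have h2 : -1 ≤ b := by nlinarith
    omega
  have hcase : (ε, b) ∈ [((1 : ℤ), (0 : ℤ)), (1, -1), (-1, 0), (-1, 1)] ∧
      (L.map fun x => x.2 ^ 2).sum = 2 := by
    rcases hε with rfl | rfl <;> rcases hb with rfl | rfl | rfl <;> norm_num at hnm ⊢ <;> omega
  obtain ⟨hcε, hsum⟩ := hcase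
  have hpos : ∀ x ∈ L, 1 ≤ x.2 ^ 2 := fun x hx => by
    have h0 := (hL x hx).2.2.2
    rcases (show 1 ≤ x.2 ∨ x.2 ≤ -1 by omega) with h | h <;> nlinarith
  obtain ⟨x, y, rfl, hx2, hy2⟩ : ∃ x y, L = [x, y] ∧ x.2 ^ 2 = 1 ∧ y.2 ^ 2 = 1 := by
    rcases L with _ | ⟨x, _ | ⟨y, _ | ⟨z, M⟩⟩⟩
    · simp at hsum
    · simp only [List.map_cons, List.map_nil, List.sum_cons, List.sum_nil, add_zero] at hsum
      exfalso
      have h1 : x.2 ≤ 1 := by nlinarith
      have h2 : -1 ≤ x.2 := by nlinarith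
      interval_cases h : x.2 <;> norm_num at hsum
    · have h1 := hpos x (by simp)
      have h2 := hpos y (by simp)
      simp only [List.map_cons, List.map_nil, List.sum_cons, List.sum_nil, add_zero] at hsum
      exact ⟨x, y, rfl, by omega, by omega⟩
    · have h1 := hpos x (by simp)
      have h2 := hpos y (by simp)
      have h3 := hpos z (by simp)
      simp only [List.map_cons, List.sum_cons] at hsum
      have : 0 ≤ (M.map fun x => x.2 ^ 2).sum := List.sum_nonneg fun x hx => by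
        obtain ⟨y, -, rfl⟩ := List.mem_map.mp hx
        exact sq_nonneg _
      omega
  simp only [List.map_cons, List.map_nil, List.sum_cons, List.sum_nil, add_zero] at hs hsq
  have hdm : d ∈ degs := mem_degs d (by nlinarith) hd1 hd2
  obtain ⟨hx1, hxd, hxm, -⟩ := hL x (by simp)
  obtain ⟨hy1, hyd, hym, -⟩ := hL y (by simp)
  have hsgn : ∀ a : ℤ, a ^ 2 = 1 → a ∈ [(1 : ℤ), -1] := fun a ha => by
    rcases sq_eq_one_iff.mp ha with h | h <;> simp [h]
  have h := all_ok (ε, b) hcε d hdm x.1 (mem_degs _ (by nlinarith) hx1 hxd) x.2 (hsgn _ hx2)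
    (Int.emod_eq_zero_of_dvd hxm) y.1 (mem_degs _ (by nlinarith) hy1 hyd) y.2 (hsgn _ hy2)
    (Int.emod_eq_zero_of_dvd hym)
  simp only [ok, Bool.or_eq_true, bne_iff_ne, ne_eq, decide_eq_true_eq] at h
  rcases h with (h | h) | h
  · exact h (Int.emod_eq_zero_of_dvd hd3)
  · exact h (by linarith)
  · omega

end Cfsg.Agent.SmallGroups.Order756
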