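import Cfsg.Agent.SmallGroups.OrderPSection
import Cfsg.Agent.Char.Kernel

/-!
# Degrees in the principal block when the Sylow subgroup of prime order has a larger centralizer

If `C(P) ≠ P` for a Sylow subgroup `P` of prime order `p` of a non-commutative simple group, then the
non-trivial characters of the principal `p`-block have degree at least `2 * p`.
-/

set_option autoImplicit false
set_option linter.style.haveILetI false
set_option linter.unusedSectionVars false

noncomputable section

namespace Cfsg.Agent.SmallGroups.OrderP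

open scoped Classical
open Cfsg Module

universe u

variable {G : Type u} [Group G] [Fintype G] {p : ℕ} [hp : Fact p.Prime]
  {M : Ideal Cfsg.AlgInt} (hM : Cfsg.IsPModular p M) (P : Sylow p G) (hP : Nat.card P = p)
  {χ : IrrCharacter G} (hχ : χ ∈ Cfsg.principalBlock M G)

include hM hP hχ

/-- At a regular element of the centralizer the value is congruent to the degree. -/
theorem exists_integral_sub_value {w : G}
    (hw : w ∈ Subgroup.centralizer ((P : Subgroup G) : Set G)) (hwp : ¬ p ∣ orderOf w) :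
    ∃ t : ℂ, IsIntegral ℤ t ∧ (χ : G → ℂ) 1 - (χ : G → ℂ) w = (p : ℂ) * t := by
  obtain ⟨t, ht, hsum⟩ := Block.exists_isIntegral_sum_mul (Char.isCharacter_of_irr χ.2)
    (P : Subgroup G) (g := 1) (Subgroup.one_mem _)
  obtain ⟨t', ht', hsum'⟩ := Block.exists_isIntegral_sum_mul (Char.isCharacter_of_irr χ.2)
    (P : Subgroup G) (g := w) hw
  refine ⟨t - t', ht.sub ht', ?_⟩
  rw [← Finset.add_sum_erase _ _ (Finset.mem_univ (1 : (P : Subgroup G))), hP] at hsum hsum'
  have heq : ∑ u ∈ (Finset.univ : Finset (P : Subgroup G)).erase 1, (χ : G → ℂ) ((u : G) * w) =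
      ∑ u ∈ (Finset.univ : Finset (P : Subgroup G)).erase 1, (χ : G → ℂ) ((u : G) * 1) :=
    Finset.sum_congr rfl fun u hu => by
      rw [mul_one, apply_mul_regular hM P hP hχ u.2
        (fun h => (Finset.mem_erase.1 hu).1 (Subtype.ext h)) hw hwp]
  simp only [OneMemClass.coe_one, one_mul] at hsum hsum'
  rw [heq] at hsum'
  linear_combination hsum - hsum'

/-- At an involution of the centralizer where the character vanishes the degree is divisible by `p`. -/
theorem dvd_degree_of_value_eq_zero {d : ℕ} (hd : (χ : G → ℂ) 1 = d) {w : G}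
    (hw : w ∈ Subgroup.centralizer ((P : Subgroup G) : Set G)) (hwp : ¬ p ∣ orderOf w)
    (h0 : (χ : G → ℂ) w = 0) : p ∣ d := by
  obtain ⟨t, ht, he⟩ := exists_integral_sub_value hM P hP hχ hw hwp
  refine Char.dvd_of_isIntegral_div hp.out.ne_zero ?_
  rw [← hd, show (χ : G → ℂ) 1 = (p : ℂ) * t by rw [← he, h0, sub_zero],
    mul_div_cancel_left₀ _ (Nat.cast_ne_zero.2 hp.out.ne_zero)]
  exact ht

/-- A nontrivial character of the principal block has degree at least `2 * p` when `C(P) ≠ P`. -/
theorem two_mul_le_degree [IsSimpleGroup G] (hG : ¬ IsMulCommutative G) {v : G} {q : ℕ}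
    (hq : q.Prime) (hqp : q ≠ p) (hv : orderOf v = q)
    (hvC : v ∈ Subgroup.centralizer ((P : Subgroup G) : Set G))
    (hne : (χ : G → ℂ) ≠ fun _ => 1) {d : ℕ} (hd : (χ : G → ℂ) 1 = d) : 2 * p ≤ d := by
  have hvp : ∀ j : ℕ, ¬ p ∣ orderOf (v ^ j) := fun j h => by
    have h1 := h.trans (orderOf_pow_dvd j)
    rw [hv, Nat.prime_dvd_prime_iff_eq hp.out hq] at h1
    exact hqp h1.symm
  obtain ⟨n, ρ, hρ, hρχ⟩ := id χ.2
  obtain ⟨b, ε, hb, hroot⟩ := Char.exists_eigenbasis ρ v
  rw [hv] at hroot
  have hpow : ∀ j : ℕ, (χ : G → ℂ) (v ^ j) = ∑ i, ε i ^ j := fun j => by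
    rw [← hρχ]; exact Char.character_pow_eq_sum ρ hb j
  have hdim : finrank ℂ (Fin n → ℂ) = d := by
    have := hρχ ▸ hd
    rw [ρ.char_one] at this
    exact_mod_cast this
  have hone : (χ : G → ℂ) 1 = ∑ _i : Fin (finrank ℂ (Fin n → ℂ)), (1 : ℂ) := by
    rw [hd, Finset.sum_const, Finset.card_univ, Fintype.card_fin, hdim, nsmul_one]
  -- eigenvalues other than one have multiplicity divisible by `p`
  have hmult : ∀ ζ : ℂ, ζ ^ q = 1 → ζ ≠ 1 → p ∣ (Finset.univ.filter fun i => ε i = ζ).card := by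
    intro ζ hζ hζ1
    have hζ0 : ζ ≠ 0 := fun h => by rw [h, zero_pow hq.ne_zero] at hζ; exact zero_ne_one hζ
    choose t ht he using fun j : ℕ =>
      exists_integral_sub_value hM P hP hχ (Subgroup.pow_mem _ hvC j) (hvp j)
    have hgeom : ∀ z : ℂ, z ^ q = 1 → z ≠ 1 → ∑ j ∈ Finset.range q, z ^ j = 0 := fun z hz hz1 => by
      rw [geom_sum_eq hz1, hz, sub_self, zero_div]
    have hkey : ((q * (Finset.univ.filter fun i => ε i = ζ).card : ℕ) : ℂ) =
        (p : ℂ) * -∑ j ∈ Finset.range q, (ζ⁻¹) ^ j * t j := by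
      rw [mul_neg, Finset.mul_sum, ← Finset.sum_neg_distrib]
      trans ∑ j ∈ Finset.range q, ∑ i, ((ε i * ζ⁻¹) ^ j - (ζ⁻¹) ^ j)
      · rw [Finset.sum_comm, Nat.cast_mul, mul_comm (q : ℂ), ← nsmul_eq_mul, ← Finset.sum_const,
          Finset.sum_filter]
        refine Finset.sum_congr rfl fun i _ => ?_
        rw [Finset.sum_sub_distrib, hgeom ζ⁻¹ (by rw [inv_pow, hζ, inv_one])
          (by rwa [ne_eq, inv_eq_one]), sub_zero]
        split_ifs with h
        · simp [h, mul_inv_cancel₀ hζ0]
        · rw [hgeom]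
          · rw [mul_pow, hroot i, inv_pow, hζ, inv_one, one_mul]
          · rwa [ne_eq, mul_inv_eq_one₀ hζ0]
      · refine Finset.sum_congr rfl fun j _ => ?_
        rw [show -((p : ℂ) * (ζ⁻¹ ^ j * t j)) = -(ζ⁻¹ ^ j * ((p : ℂ) * t j)) by ring, ← he j,
          hpow j, hone, mul_sub, Finset.mul_sum, Finset.mul_sum, neg_sub, ← Finset.sum_sub_distrib]
        exact Finset.sum_congr rfl fun i _ => by rw [mul_pow]; ring
    refine (hp.out.dvd_mul.1 (Char.dvd_of_isIntegral_div hp.out.ne_zero ?_)).resolve_left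
      fun h => hqp ((Nat.prime_dvd_prime_iff_eq hp.out hq).1 h).symm
    rw [hkey, mul_div_cancel_left₀ _ (Nat.cast_ne_zero.2 hp.out.ne_zero)]
    refine (IsIntegral.sum _ fun j _ => IsIntegral.mul ?_ (ht j)).neg
    refine IsIntegral.of_pow hq.pos ?_
    rw [← pow_mul, mul_comm, pow_mul, inv_pow, hζ, inv_one, one_pow]
    exact isIntegral_one
  -- some eigenvalue is not one
  obtain ⟨i₀, hi₀⟩ : ∃ i, ε i ≠ 1 := by
    by_contra h
    push Not at h
    obtain ⟨K, hKn, hK⟩ := Char.isCharacter_exists_kernel (Char.isCharacter_of_irr χ.2)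
    have hvK : v ∈ K := by
      rw [hK, ← pow_one v, hpow, hone]
      exact Finset.sum_congr rfl fun i _ => by rw [h i, pow_one]
    rcases hKn.eq_bot_or_eq_top with h' | h'
    · rw [h', Subgroup.mem_bot] at hvK
      rw [hvK, orderOf_one] at hv
      exact hq.ne_one hv.symm
    · have hs := Char.irr_sum_eq_zero χ.2 hne
      rw [Finset.sum_congr rfl fun g _ => (hK g).1 (h' ▸ Subgroup.mem_top g), Finset.sum_const,
        smul_eq_zero] at hs
      exact hs.elim (fun h => Fintype.card_ne_zero h) (Char.irr_one_ne_zero χ.2)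
  obtain ⟨S, hS⟩ : ∃ S, S = Finset.univ.filter fun i => ε i = ε i₀ := ⟨_, rfl⟩
  have hSp : p ∣ S.card := hS ▸ hmult _ (hroot i₀) hi₀
  have hScard : p ≤ S.card :=
    Nat.le_of_dvd (Finset.card_pos.2 ⟨i₀, by simp [hS]⟩) hSp
  by_contra hlt
  have hle : ∀ T : Finset (Fin (finrank ℂ (Fin n → ℂ))), T.card ≤ d := fun T =>
    (Finset.card_le_univ T).trans (by rw [Fintype.card_fin, hdim])
  -- all the others are one
  have hrest : ∀ i, i ∉ S → ε i = 1 := by
    intro i hi
    by_contra h
    have h1 := Nat.le_of_dvd (Finset.card_pos.2 ⟨i, by simp⟩) (hmult _ (hroot i) h)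
    have h2 : Disjoint S (Finset.univ.filter fun k => ε k = ε i) := by
      rw [hS, Finset.disjoint_filter]
      intro k _ hk hk'
      exact hi (by rw [hS]; simp [← hk', hk])
    have h3 := hle (S ∪ Finset.univ.filter fun k => ε k = ε i)
    rw [Finset.card_union_of_disjoint h2] at h3
    omega
  have hSeq : S.card = p := by
    obtain ⟨k, hk⟩ := hSp
    have := hle S
    have hk1 : k = 1 := by
      rcases Nat.lt_or_ge k 2 with hk2 | hk2
      · rcases Nat.eq_zero_or_pos k with hk0 | hk0
        · rw [hk0, mul_zero] at hk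
          have := hp.out.pos
          omega
        · omega
      · have := Nat.mul_le_mul_left p hk2
        omega
    rw [hk, hk1, mul_one]
  -- the determinant is trivial
  have hdet : LinearMap.det (ρ v) = 1 := by
    rcases SmallGroups.injective_or_trivial
      ((LinearMap.det.comp ρ : G →* ℂ).toHomUnits) with hi | ht'
    · exact absurd ⟨⟨fun x y => hi (by rw [map_mul, map_mul, mul_comm])⟩⟩ hG
    · exact congrArg Units.val (ht' v)
  have hprod : LinearMap.det (ρ v) = ∏ i, ε i := by
    rw [← LinearMap.det_toMatrix b, ← Matrix.det_diagonal]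
    congr 1
    ext i j
    rw [LinearMap.toMatrix_apply, hb j, map_smul, Basis.repr_self]
    by_cases hij : i = j
    · subst hij; simp
    · simp [hij, Ne.symm hij]
  rw [hprod, ← Finset.prod_subset (Finset.subset_univ S) (fun i _ hi => hrest i hi),
    Finset.prod_congr rfl (g := fun _ => ε i₀) (fun i hi => by
      rw [hS] at hi; exact (Finset.mem_filter.1 hi).2),
    Finset.prod_const, hSeq] at hdet
  refine hi₀ (orderOf_eq_one_iff.1 ?_)
  exact Nat.eq_one_of_dvd_coprimes ((Nat.coprime_primes hq hp.out).2 hqp)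
    (orderOf_dvd_of_pow_eq_one (hroot i₀)) (orderOf_dvd_of_pow_eq_one hdet)

end Cfsg.Agent.SmallGroups.OrderP
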