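import Cfsg.Agent.SmallGroups.Counting
import Cfsg.Agent.SmallGroups.PermNormalizer

/-!
# Normalizer and centralizer data of Sylow subgroups of prime order
-/

set_option autoImplicit false
set_option linter.unusedSectionVars false

namespace Cfsg.Agent.SmallGroups

open Subgroup

variable {G : Type*} [Group G] [Finite G]

/-- Sylow data `|G| = n * k * (r * c)` for a prime `r` dividing `|G|` once: `n` Sylow subgroups,
`|C(P)| = r * c` and `|N(P) : C(P)| = k`. -/
theorem exists_primeSylow_data [IsSimpleGroup G] (hG : ¬ IsMulCommutative G) {r m : ℕ}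
    [hr : Fact r.Prime] (h : Nat.card G = r * m) (hm : ¬ r ∣ m) :
    ∃ n k c : ℕ, Nat.card (Sylow r G) = n ∧
      n ∈ m.divisors.filter (fun a => a % r = 1 ∧ 1 < a) ∧
      k ∈ (r - 1).divisors.filter (fun a => 1 < a) ∧
      n * (k * c) = m ∧
      (∀ P : Sylow r G, Nat.card ↥(P : Subgroup G) = r) ∧
      (∀ P : Sylow r G, Nat.card ↥(centralizer ((P : Subgroup G) : Set G)) = r * c) ∧
      ∀ P : Sylow r G, Nat.card ↥(normalizer ((P : Subgroup G) : Set G)) = r * (k * c) := by
  have hrp : r.Prime := hr.out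
  have hP : ∀ P : Sylow r G, Nat.card ↥(P : Subgroup G) = r := fun P =>
    (card_sylow_subgroup (a := 1) (by rw [h, pow_one]) hm P).trans (pow_one r)
  have hm0 : m ≠ 0 := fun h0 => hm (h0 ▸ dvd_zero r)
  have hN : ∀ P : Sylow r G, Nat.card ↥(normalizer ((P : Subgroup G) : Set G)) =
      Nat.card G / Nat.card (Sylow r G) := fun P =>
    (Nat.div_eq_of_eq_mul_left Nat.card_pos
      (by rw [mul_comm]; exact (card_sylow_mul_card_normalizer P).symm)).symm
  obtain ⟨P₀⟩ := (inferInstance : Nonempty (Sylow r G))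
  obtain ⟨hk, hk1⟩ := relIndex_centralizer_prime hG P₀ (hP P₀)
  set k := (centralizer ((P₀ : Subgroup G) : Set G)).relIndex
    (normalizer ((P₀ : Subgroup G) : Set G)) with hkdef
  have := isMulCommutative_of_prime_card (G := ↥(P₀ : Subgroup G)) (by rw [hP P₀]; exact hrp)
  obtain ⟨c, hc⟩ := (hP P₀).symm.dvd.trans (Subgroup.card_dvd_of_le (P₀ : Subgroup G).le_centralizer)
  have hCeq : ∀ P : Sylow r G, Nat.card ↥(centralizer ((P : Subgroup G) : Set G)) = r * c := by
    intro P
    obtain ⟨g, hg⟩ := MulAction.exists_smul_eq G P₀ P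
    rw [← hg, ← hc]
    have hmap : (centralizer ((P₀ : Subgroup G) : Set G)).map (MulAut.conj g).toMonoidHom =
        centralizer (((g • P₀ : Sylow r G) : Subgroup G) : Set G) := by
      ext x
      constructor
      · rintro ⟨y, hy, rfl⟩ _ ⟨z, hz, rfl⟩
        exact ((Commute.map (show Commute z y from hy z hz) (MulAut.conj g).toMonoidHom)).eq
      · intro hx
        refine ⟨(MulAut.conj g).symm x, fun z hz => ?_, (MulAut.conj g).apply_symm_apply x⟩
        have h1 := Commute.map (show Commute (MulAut.conj g z) x from hx _ ⟨z, hz, rfl⟩)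
          (MulAut.conj g).symm.toMonoidHom
        simp only [MulEquiv.coe_toMonoidHom, MulEquiv.symm_apply_apply] at h1
        exact h1.eq
    rw [← hmap, ← Nat.card_congr
      ((centralizer ((P₀ : Subgroup G) : Set G)).equivMapOfInjective _ (MulAut.conj g).injective).toEquiv]
  have hmul := Subgroup.relIndex_mul_relIndex (⊥ : Subgroup G) _ _ bot_le
    (Subgroup.centralizer_le_normalizer ((P₀ : Subgroup G) : Set G))
  rw [relIndex_bot_left, relIndex_bot_left, hc, ← hkdef] at hmul
  have hNP : ∀ P : Sylow r G, Nat.card ↥(normalizer ((P : Subgroup G) : Set G)) = r * (k * c) := by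
    intro P
    rw [hN P, ← hN P₀, ← hmul]; ring
  refine ⟨_, k, c, rfl, ?_, ?_, ?_, hP, hCeq, hNP⟩
  · exact card_sylow_mem hG (a := 0) (by rw [h, zero_add, pow_one]) hm0
  · rw [Finset.mem_filter, Nat.mem_divisors]
    have h0 : r - 1 ≠ 0 := by have := hrp.two_le; omega
    refine ⟨⟨hk, h0⟩, ?_⟩
    have := Nat.pos_of_dvd_of_pos hk (Nat.pos_of_ne_zero h0)
    omega
  · have := card_sylow_mul_card_normalizer P₀
    rw [hNP P₀, h] at this
    exact Nat.eq_of_mul_eq_mul_left hrp.pos (by linarith)

/-- An element commuting with an element of prime order `r` lies in the centralizer of the Sylow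
subgroup containing the latter. -/
theorem dvd_of_commute_prime {r s c : ℕ} [hr : Fact r.Prime]
    (hP : ∀ P : Sylow r G, Nat.card ↥(P : Subgroup G) = r)
    (hC : ∀ P : Sylow r G, Nat.card ↥(centralizer ((P : Subgroup G) : Set G)) = r * c)
    {x y : G} (hx : orderOf x = r) (hy : orderOf y = s) (hc : Commute x y) : s ∣ r * c := by
  obtain ⟨P, hP'⟩ := (IsPGroup.of_card (p := r) (n := 1) (by rw [Nat.card_zpowers, hx, pow_one]) :
    IsPGroup r ↥(zpowers x)).exists_le_sylow
  have hPx : zpowers x = (P : Subgroup G) :=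
    Subgroup.eq_of_le_of_card_ge hP' (by rw [hP P, Nat.card_zpowers, hx])
  rw [← hy, ← hC P]
  refine Subgroup.orderOf_dvd_natCard _ fun z hz => ?_
  have hz' : z ∈ zpowers x := hPx ▸ hz
  obtain ⟨i, rfl⟩ := Subgroup.mem_zpowers_iff.mp hz'
  exact (hc.zpow_left i).eq

end Cfsg.Agent.SmallGroups
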