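import Cfsg.Agent.SmallGroups.FixedDim
import Cfsg.Agent.SmallGroups.OrderPDegree

/-!
# Character data of simple groups of order 2520

The Sylow subgroups of order five and seven are self-centralizing, and there is a real irreducible
character of degree six; its restriction to a Frobenius group `P : ⟨u⟩` with `u` of order four is
determined.
-/

set_option autoImplicit false
set_option linter.style.haveILetI false
set_option linter.unusedSectionVars false

noncomputable section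

namespace Cfsg.Agent.SmallGroups.O2520

open Cfsg Module
open scoped Classical ComplexConjugate

universe u

/-- All sums of `n` members of a list. -/
def sumsOf (l : List ℤ) : ℕ → List ℤ
  | 0 => [0]
  | n + 1 => l.flatMap fun a => (sumsOf l n).map (a + ·)

theorem sum_mem_sumsOf {ι : Type*} (l : List ℤ) (f : ι → ℤ) :
    ∀ S : Finset ι, (∀ i ∈ S, f i ∈ l) → ∑ i ∈ S, f i ∈ sumsOf l S.card := by
  intro S
  induction S using Finset.induction_on with
  | empty => intro _; simp [sumsOf]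
  | insert a S ha ih =>
    intro h
    rw [Finset.sum_insert ha, Finset.card_insert_of_notMem ha, sumsOf]
    exact List.mem_flatMap.2 ⟨f a, h a (Finset.mem_insert_self _ _), List.mem_map.2
      ⟨_, ih fun i hi => h i (Finset.mem_insert_of_mem hi), rfl⟩⟩

/-- Signed degrees at least ten for `p = 5`. -/
def bigFive : List ℤ := [-14, 21, -24, 36]

/-- Signed degrees at least fourteen for `p = 7`. -/
def bigSeven : List ℤ := [15, -20, 36]

theorem mem_bigFive : ∀ f : ℕ, f < 51 → 10 ≤ f → f ∣ 2520 → ∀ a ∈ ([1, -1] : List ℤ),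
    (5 : ℤ) ∣ (f : ℤ) - a → a * f ∈ bigFive := by decide +kernel

theorem mem_bigSeven : ∀ f : ℕ, f < 51 → 14 ≤ f → f ∣ 2520 → ∀ a ∈ ([1, -1] : List ℤ),
    (7 : ℤ) ∣ (f : ℤ) - a → a * f ∈ bigSeven := by decide +kernel

theorem five_bad : ∀ e ∈ ([2, 4] : List ℕ), ∀ s ∈ sumsOf bigFive (e - 1),
    ¬ ((1 + s).natAbs ∣ 2520 ∧ (1 + s).natAbs < 51 ∧ 10 ≤ (1 + s).natAbs) := by decide +kernel

theorem seven_bad : ∀ e ∈ ([2, 3, 6] : List ℕ), ∀ s ∈ sumsOf bigSeven (e - 1),
    ¬ ((1 + s).natAbs ∣ 2520 ∧ (1 + s).natAbs < 51 ∧ 14 ≤ (1 + s).natAbs) := by decide +kernel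

/-- Signed degrees for `p = 7`. -/
def allSeven : List ℤ := [-6, 8, 15, -20, 36]

theorem mem_allSeven : ∀ f : ℕ, f < 51 → 1 < f → f ∣ 2520 → ∀ a ∈ ([1, -1] : List ℤ),
    (7 : ℤ) ∣ (f : ℤ) - a → a * f ∈ allSeven := by decide +kernel

theorem seven_three : ∀ a ∈ allSeven, ∀ b ∈ allSeven, a ≠ 8 → b ≠ 8 →
    (1 + (a + b)).natAbs ∣ 2520 → (1 + (a + b)).natAbs < 51 →
    (1 + (a + b)).natAbs = 4 ∧ a ≠ -6 ∧ b ≠ -6 ∧ a.natAbs ≠ 4 ∧ b.natAbs ≠ 4 ∨
      a = -6 ∧ b.natAbs ≠ 6 ∧ (1 + (a + b)).natAbs ≠ 6 ∨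
      b = -6 ∧ a.natAbs ≠ 6 ∧ (1 + (a + b)).natAbs ≠ 6 := by decide +kernel

variable {G : Type u} [Group G] [Fintype G] [IsSimpleGroup G]

theorem degree_lt (h : Nat.card G = 2520) {χ : IrrCharacter G} (hne : χ ≠ Char.trivialIrr G)
    {d : ℕ} (hd : (χ : G → ℂ) 1 = d) : d < 51 := by
  choose dg hdg0 hdg hdgdvd using fun χ : Cfsg.IrrCharacter G => Char.irr_degree_dvd_card χ.2
  have htot : ∑ ψ : Cfsg.IrrCharacter G, (dg ψ : ℝ) ^ 2 = Nat.card G := by
    have h1 := Char.sum_irr_degree_sq (G := G)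
    simp only [hdg] at h1
    exact_mod_cast h1
  have hle : ∑ ψ ∈ {χ, Char.trivialIrr G}, (dg ψ : ℝ) ^ 2 ≤ Nat.card G :=
    htot ▸ Finset.sum_le_sum_of_subset_of_nonneg (Finset.subset_univ _) fun _ _ _ => sq_nonneg _
  rw [Finset.sum_pair hne, h] at hle
  have hle' : ((dg χ ^ 2 + dg (Char.trivialIrr G) ^ 2 : ℕ) : ℝ) ≤ ((2520 : ℕ) : ℝ) := by
    push_cast at hle ⊢; exact hle
  have h2 := Nat.cast_le.1 hle'
  have hdd : dg χ = d := by exact_mod_cast (hdg χ).symm.trans hd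
  rw [hdd] at h2
  by_contra h3
  push Not at h3
  nlinarith

theorem trivialIrr_one :
    ((Char.trivialIrr G : Cfsg.IrrCharacter G) : G → ℂ) 1 = 1 := rfl

theorem degree_pos {χ : IrrCharacter G} (hG : ¬ IsMulCommutative G) {d : ℕ}
    (hd : (χ : G → ℂ) 1 = d) (h1 : 1 < d) : χ ≠ Char.trivialIrr G := fun e => by
  rw [e, trivialIrr_one] at hd
  have : (1 : ℕ) = d := by exact_mod_cast hd
  omega

/-- The centralizers of the Sylow subgroups of order five and seven are trivial extensions. -/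
theorem centralizer_eq (h : Nat.card G = 2520) {p : ℕ} [Fact p.Prime] (P : Sylow p G)
    (hP : Nat.card P = p) {c e : ℕ}
    (hC : Nat.card ↥(Subgroup.centralizer ((P : Subgroup G) : Set G)) = p * c)
    (hpc : ¬ p ∣ c)
    (he : (Subgroup.centralizer ((P : Subgroup G) : Set G)).relIndex
      (Subgroup.normalizer ((P : Subgroup G) : Set G)) = e)
    (hcase : p = 5 ∧ e ∈ ([2, 4] : List ℕ) ∨ p = 7 ∧ e ∈ ([2, 3, 6] : List ℕ)) : c = 1 := by
  by_contra hc
  have hp : p.Prime := Fact.out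
  have hG : ¬ IsMulCommutative G := SmallGroups.not_isMulCommutative (by rw [h]; norm_num)
  obtain ⟨M, hM⟩ := BlkChar.exists_isPModular p hp
  obtain ⟨X, Y, sgn, ε, hdisj, hB, hXc, hYc, hTX, hTs, hε, hXd, -, -, hrel⟩ :=
    SmallGroups.OrderP.exists_block_data hM P hP e he
  choose dg hdg0 hdg hdgdvd using fun χ : Cfsg.IrrCharacter G => Char.irr_degree_dvd_card χ.2
  have hcd : ∀ χ : IrrCharacter G, Cfsg.charDegree (χ : G → ℂ) = dg χ :=
    fun χ => Char.charDegree_of_eq (hdg χ)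
  obtain ⟨q, hq, hqc⟩ := Nat.exists_prime_and_dvd hc
  haveI := Fact.mk hq
  have hqp : q ≠ p := fun e => hpc (e ▸ hqc)
  obtain ⟨v, hv⟩ := exists_prime_orderOf_dvd_card'
    (G := ↥(Subgroup.centralizer ((P : Subgroup G) : Set G))) q (hC ▸ Dvd.dvd.mul_left hqc p)
  have hv' : orderOf (v : G) = q := by rw [Subgroup.orderOf_coe, hv]
  have hbig : ∀ χ ∈ Cfsg.principalBlock M G, χ ≠ Char.trivialIrr G →
      2 * p ≤ dg χ ∧ dg χ ∣ 2520 ∧ dg χ < 51 := fun χ hχ hne =>
    ⟨SmallGroups.OrderP.two_mul_le_degree hM P hP hχ hG hq hqp hv' v.2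
      (fun e => hne (Subtype.ext e)) (hdg χ), h ▸ hdgdvd χ, degree_lt h hne (hdg χ)⟩
  obtain ⟨θ, hθ⟩ : Y.Nonempty := Finset.card_pos.1 (by
    rw [hYc]
    rcases hcase with ⟨rfl, he'⟩ | ⟨rfl, he'⟩ <;> fin_cases he' <;> norm_num)
  have hθT : θ ≠ Char.trivialIrr G := fun e => Finset.disjoint_left.1 hdisj hTX (e ▸ hθ)
  obtain ⟨hθ1, hθ2, hθ3⟩ := hbig θ ((hB θ).2 (.inr hθ)) hθT
  have hsum : (ε * dg θ : ℤ) = 1 + ∑ χ ∈ X.erase (Char.trivialIrr G), sgn χ * dg χ := by
    have h1 := hrel θ hθ 1 (by rw [orderOf_one]; exact hp.not_dvd_one)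
    rw [← Finset.add_sum_erase _ _ hTX, hTs, trivialIrr_one] at h1
    simp only [hdg, Int.cast_one, one_mul] at h1
    apply Int.cast_injective (α := ℂ)
    push_cast
    exact h1
  have habs : (1 + ∑ χ ∈ X.erase (Char.trivialIrr G), sgn χ * dg χ).natAbs = dg θ := by
    rw [← hsum, Int.natAbs_mul, Int.natAbs_natCast]
    rcases hε with rfl | rfl <;> simp
  have hmem : ∀ χ ∈ X.erase (Char.trivialIrr G), (p : ℤ) ∣ (dg χ : ℤ) - sgn χ ∧
      sgn χ ∈ ([1, -1] : List ℤ) ∧ 2 * p ≤ dg χ ∧ dg χ ∣ 2520 ∧ dg χ < 51 := by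
    intro χ hχ
    obtain ⟨hne, hX⟩ := Finset.mem_erase.1 hχ
    obtain ⟨h1, h2, -⟩ := hXd χ hX
    exact ⟨hcd χ ▸ h2, by simpa using h1, hbig χ ((hB χ).2 (.inl hX)) hne⟩
  have hcard := Finset.card_erase_of_mem hTX
  rw [hXc] at hcard
  rcases hcase with ⟨rfl, he'⟩ | ⟨rfl, he'⟩
  · refine five_bad e he' _ (hcard ▸ sum_mem_sumsOf bigFive _ _ fun χ hχ => ?_)
      ⟨habs ▸ hθ2, habs ▸ hθ3, habs ▸ hθ1⟩
    obtain ⟨h1, h2, h3, h4, h5⟩ := hmem χ hχ
    exact mem_bigFive _ h5 h3 h4 _ h2 h1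
  · refine seven_bad e he' _ (hcard ▸ sum_mem_sumsOf bigSeven _ _ fun χ hχ => ?_)
      ⟨habs ▸ hθ2, habs ▸ hθ3, habs ▸ hθ1⟩
    obtain ⟨h1, h2, h3, h4, h5⟩ := hmem χ hχ
    exact mem_bigSeven _ h5 h3 h4 _ h2 h1

/-- A character of degree prime to `p` is in the principal block when `C(P) = P`. -/
theorem mem_principalBlock {p : ℕ} [Fact p.Prime] {M : Ideal Cfsg.AlgInt}
    (hM : Cfsg.IsPModular p M) (P : Sylow p G) (hP : Nat.card P = p)
    (hC : Nat.card ↥(Subgroup.centralizer ((P : Subgroup G) : Set G)) = p)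
    (χ : IrrCharacter G) {d : ℕ} (hd : (χ : G → ℂ) 1 = d) (hpd : ¬ p ∣ d) :
    χ ∈ Cfsg.principalBlock M G := by
  by_contra hχ
  have hp : p.Prime := Fact.out
  have hC' : Nat.card ↥(Subgroup.centralizer ((P : Subgroup G) : Set G)) = p * 1 := by
    rw [hC, mul_one]
  have hzero : ∀ x ∈ (P : Subgroup G), x ≠ 1 → (χ : G → ℂ) x = 0 := by
    intro x hx hx1
    have hs := SmallGroups.OrderP.sum_section_eq_zero P hP hx hx1 hC' hM hχ
    obtain ⟨z, hz⟩ := Finset.card_eq_one.1 (SmallGroups.OrderP.card_sectionSet P hP hx hx1 hC')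
    have hxm : x ∈ SmallGroups.OrderP.sectionSet P x := by
      refine Finset.mem_image.2 ⟨1, Finset.mem_filter.2 ⟨Finset.mem_univ _, Subgroup.one_mem _, ?_⟩,
        mul_one x⟩
      rw [orderOf_one]; exact hp.not_dvd_one
    rw [hz, Finset.mem_singleton] at hxm
    rw [hz, Finset.sum_singleton, ← hxm] at hs
    exact hs
  obtain ⟨t, ht, hsum⟩ := Block.exists_isIntegral_sum_mul (Char.isCharacter_of_irr χ.2)
    (P : Subgroup G) (g := 1) (Subgroup.one_mem _)
  rw [Finset.sum_eq_single (1 : (P : Subgroup G))] at hsum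
  · simp only [OneMemClass.coe_one, one_mul, hd, hP] at hsum
    refine hpd (Char.dvd_of_isIntegral_div hp.ne_zero ?_)
    rw [hsum, mul_div_cancel_left₀ _ (Nat.cast_ne_zero.2 hp.ne_zero)]
    exact ht
  · intro y _ hy
    rw [mul_one]
    exact hzero y y.2 fun e => hy (Subtype.ext e)
  · simp

/-- There is no irreducible character of degree eight. -/
theorem degree_ne_eight (h : Nat.card G = 2520) (R : Sylow 5 G) (hR : Nat.card R = 5)
    [Fact (Nat.Prime 5)]
    (hC : Nat.card ↥(Subgroup.centralizer ((R : Subgroup G) : Set G)) = 5)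
    (he : (Subgroup.centralizer ((R : Subgroup G) : Set G)).relIndex
      (Subgroup.normalizer ((R : Subgroup G) : Set G)) = 4)
    (χ : IrrCharacter G) : (χ : G → ℂ) 1 ≠ ((8 : ℕ) : ℂ) := by
  intro hd
  obtain ⟨M, hM⟩ := BlkChar.exists_isPModular 5 (Fact.out)
  obtain ⟨X, Y, sgn, ε, -, hB, -, -, -, -, hε, hXd, hYd, -, -⟩ :=
    SmallGroups.OrderP.exists_block_data hM R hR 4 he
  have hcd : Cfsg.charDegree (χ : G → ℂ) = 8 := Char.charDegree_of_eq hd
  rcases (hB χ).1 (mem_principalBlock hM R hR hC χ hd (by norm_num)) with hX | hY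
  · obtain ⟨h1, h2, -⟩ := hXd χ hX
    rw [hcd] at h2
    rcases h1 with h1 | h1 <;> rw [h1] at h2 <;> norm_num at h2
  · have h2 := hYd χ hY
    rw [hcd] at h2
    rcases hε with h1 | h1 <;> rw [h1] at h2 <;> norm_num at h2

/-- A real irreducible character of degree four or six exists. -/
theorem exists_real_char (h : Nat.card G = 2520) (R : Sylow 5 G) (hR : Nat.card R = 5)
    [Fact (Nat.Prime 5)] [Fact (Nat.Prime 7)]
    (hC5 : Nat.card ↥(Subgroup.centralizer ((R : Subgroup G) : Set G)) = 5)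
    (he5 : (Subgroup.centralizer ((R : Subgroup G) : Set G)).relIndex
      (Subgroup.normalizer ((R : Subgroup G) : Set G)) = 4)
    (P : Sylow 7 G) (hP : Nat.card P = 7)
    (hC : Nat.card ↥(Subgroup.centralizer ((P : Subgroup G) : Set G)) = 7)
    (he : (Subgroup.centralizer ((P : Subgroup G) : Set G)).relIndex
      (Subgroup.normalizer ((P : Subgroup G) : Set G)) = 3) :
    ∃ (χ : IrrCharacter G) (d : ℕ), (d = 4 ∨ d = 6) ∧ (χ : G → ℂ) 1 = d ∧
      ∀ g : G, ¬ 7 ∣ orderOf g → conj ((χ : G → ℂ) g) = (χ : G → ℂ) g := by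
  have hG : ¬ IsMulCommutative G := SmallGroups.not_isMulCommutative (by rw [h]; norm_num)
  obtain ⟨M, hM⟩ := BlkChar.exists_isPModular 7 (Fact.out)
  obtain ⟨X, Y, sgn, ε, hdisj, hB, hXc, hYc, hTX, hTs, hε, hXd, -, -, hrel⟩ :=
    SmallGroups.OrderP.exists_block_data hM P hP 3 he
  choose dg hdg0 hdg hdgdvd using fun χ : Cfsg.IrrCharacter G => Char.irr_degree_dvd_card χ.2
  have hcd : ∀ χ : IrrCharacter G, Cfsg.charDegree (χ : G → ℂ) = dg χ :=
    fun χ => Char.charDegree_of_eq (hdg χ)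
  obtain ⟨θ, hθ⟩ : Y.Nonempty := Finset.card_pos.1 (by rw [hYc]; norm_num)
  have hθT : θ ≠ Char.trivialIrr G := fun e => Finset.disjoint_left.1 hdisj hTX (e ▸ hθ)
  have hcard := Finset.card_erase_of_mem hTX
  rw [hXc] at hcard
  obtain ⟨a, b, hab, hX⟩ := Finset.card_eq_two.1 hcard
  have hXsplit : ∀ χ ∈ X, χ = Char.trivialIrr G ∨ χ = a ∨ χ = b := by
    intro χ hχ
    by_cases e : χ = Char.trivialIrr G
    · exact Or.inl e
    · have : χ ∈ X.erase (Char.trivialIrr G) := Finset.mem_erase.2 ⟨e, hχ⟩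
      rw [hX] at this
      exact Or.inr (by simpa using this)
  have hYdg : ∀ θ' ∈ Y, dg θ' = dg θ ∧ ∀ g : G, ¬ 7 ∣ orderOf g →
      (θ' : G → ℂ) g = (θ : G → ℂ) g := by
    intro θ' hθ'
    have hv : ∀ g : G, ¬ 7 ∣ orderOf g → (θ' : G → ℂ) g = (θ : G → ℂ) g := by
      intro g hg
      have h1 := (hrel θ' hθ' g hg).trans (hrel θ hθ g hg).symm
      rcases hε with rfl | rfl <;> simpa using h1
    refine ⟨?_, hv⟩
    have := hv 1 (by rw [orderOf_one]; norm_num)
    rw [hdg, hdg] at this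
    exact_mod_cast this
  have hsum : (ε * dg θ : ℤ) = 1 + (sgn a * dg a + sgn b * dg b) := by
    have h1 := hrel θ hθ 1 (by rw [orderOf_one]; norm_num)
    rw [← Finset.add_sum_erase _ _ hTX, hTs, trivialIrr_one, hX, Finset.sum_pair hab] at h1
    simp only [hdg, Int.cast_one, one_mul] at h1
    apply Int.cast_injective (α := ℂ)
    push_cast
    exact h1
  have habs : (1 + (sgn a * dg a + sgn b * dg b)).natAbs = dg θ := by
    rw [← hsum, Int.natAbs_mul, Int.natAbs_natCast]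
    rcases hε with rfl | rfl <;> simp
  have hmem : ∀ χ ∈ X.erase (Char.trivialIrr G),
      sgn χ * dg χ ∈ allSeven ∧ sgn χ * dg χ ≠ 8 ∧ (sgn χ * dg χ).natAbs = dg χ := by
    intro χ hχ
    obtain ⟨hne, hX'⟩ := Finset.mem_erase.1 hχ
    obtain ⟨h1, h2, -⟩ := hXd χ hX'
    have habs' : (sgn χ * dg χ).natAbs = dg χ := by
      rcases h1 with h1 | h1 <;> rw [h1] <;> simp
    refine ⟨mem_allSeven _ (degree_lt h hne (hdg χ))
      (Exceptional.one_lt_degree (p := 7) Fact.out hG hne (hdg χ)) (h ▸ hdgdvd χ) _ (by simpa using h1)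
      (hcd χ ▸ h2), fun e => ?_, habs'⟩
    rw [e] at habs'
    exact degree_ne_eight h R hR hC5 he5 χ (by rw [hdg, ← habs']; rfl)
  obtain ⟨ha1, ha2, ha3⟩ := hmem a (by rw [hX]; simp)
  obtain ⟨hb1, hb2, hb3⟩ := hmem b (by rw [hX]; simp)
  have hsol := seven_three _ ha1 _ hb1 ha2 hb2 (habs ▸ h ▸ hdgdvd θ)
    (habs ▸ degree_lt h hθT (hdg θ))
  rw [habs, ha3, hb3] at hsol
  -- the complex conjugate has the same degree and is again in the block
  have hconj : ∀ χ : IrrCharacter G, ¬ 7 ∣ dg χ → ∃ χ' : IrrCharacter G,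
      (χ' ∈ X ∨ χ' ∈ Y) ∧ dg χ' = dg χ ∧ ∀ g, (χ' : G → ℂ) g = conj ((χ : G → ℂ) g) := by
    intro χ hχ
    refine ⟨⟨_, Char.isIrrCharacter_conjFun χ.2⟩, ?_⟩
    have hd : ((⟨_, Char.isIrrCharacter_conjFun χ.2⟩ : IrrCharacter G) : G → ℂ) 1 = (dg χ : ℂ) := by
      show conj ((χ : G → ℂ) 1) = _
      rw [hdg, map_natCast]
    exact ⟨(hB _).1 (mem_principalBlock hM P hP hC _ hd hχ), by
      exact_mod_cast (hdg _).symm.trans hd, fun g => rfl⟩
  have hT1 : dg (Char.trivialIrr G) = 1 := by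
    have := (hdg (Char.trivialIrr G)).symm.trans trivialIrr_one
    exact_mod_cast this
  rcases hsol with ⟨h4, -, -, ha4, hb4⟩ | ⟨ha6, hb6, hθ6⟩ | ⟨hb6, ha6, hθ6⟩
  · refine ⟨θ, 4, Or.inl rfl, by rw [hdg, h4], fun g hg => ?_⟩
    obtain ⟨χ', hmem', hd', hv'⟩ := hconj θ (by rw [h4]; norm_num)
    rw [← hv' g]
    rcases hmem' with hX' | hY'
    · exfalso
      rcases hXsplit χ' hX' with rfl | rfl | rfl <;> omega
    · exact (hYdg χ' hY').2 g hg
  · have ha6' : dg a = 6 := by rw [← ha3, ha6]; rfl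
    refine ⟨a, 6, Or.inr rfl, by rw [hdg, ha6'], fun g hg => ?_⟩
    obtain ⟨χ', hmem', hd', hv'⟩ := hconj a (by rw [ha6']; norm_num)
    rw [← hv' g]
    rcases hmem' with hX' | hY'
    · rcases hXsplit χ' hX' with rfl | rfl | rfl
      · omega
      · rfl
      · omega
    · have := (hYdg χ' hY').1
      omega
  · have hb6' : dg b = 6 := by rw [← hb3, hb6]; rfl
    refine ⟨b, 6, Or.inr rfl, by rw [hdg, hb6'], fun g hg => ?_⟩
    obtain ⟨χ', hmem', hd', hv'⟩ := hconj b (by rw [hb6']; norm_num)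
    rw [← hv' g]
    rcases hmem' with hX' | hY'
    · rcases hXsplit χ' hX' with rfl | rfl | rfl
      · omega
      · omega
      · rfl
    · have := (hYdg χ' hY').1
      omega

/-- The determinant of a representation of a non-commutative simple group is trivial. -/
theorem det_eq_one (hG : ¬ IsMulCommutative G) {V : Type*} [AddCommGroup V] [Module ℂ V]
    (ρ : Representation ℂ G V) (g : G) : LinearMap.det (ρ g) = 1 := by
  rcases SmallGroups.injective_or_trivial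
    ((LinearMap.det.comp ρ : G →* ℂ).toHomUnits) with hi | ht
  · exact absurd ⟨⟨fun x y => hi (by rw [map_mul, map_mul, mul_comm])⟩⟩ hG
  · exact congrArg Units.val (ht g)

omit [IsSimpleGroup G] in
theorem sum_zpowers (f : G → ℂ) (v : G) [Fintype (Subgroup.zpowers v)] :
    ∑ x : Subgroup.zpowers v, f (x : G) = ∑ j ∈ Finset.range (orderOf v), f (v ^ j) := by
  rw [← (finEquivZPowers (isOfFinOrder_of_finite v)).sum_comp, ← Fin.sum_univ_eq_sum_range]
  rfl

omit [IsSimpleGroup G] in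
/-- Eigenvalue multiplicities of an element of order four with real trace and determinant one. -/
theorem eigen_four {V : Type*} [AddCommGroup V] [Module ℂ V] [FiniteDimensional ℂ V]
    (ρ : Representation ℂ G V) {v : G} (hv : orderOf v = 4) (hdet : LinearMap.det (ρ v) = 1)
    (hreal : conj (ρ.character v) = ρ.character v) :
    ∃ n0 n1 n2 : ℕ, Even n2 ∧ n0 + 2 * n1 + n2 = finrank ℂ V ∧
      ρ.character v = (((n0 : ℤ) - n2 : ℤ) : ℂ) ∧
      ρ.character (v ^ 2) = (((n0 : ℤ) + n2 - 2 * n1 : ℤ) : ℂ) ∧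
      fixDim ρ (Subgroup.zpowers v) = n0 ∧ fixDim ρ (Subgroup.zpowers (v ^ 2)) = n0 + n2 := by
  obtain ⟨b, ε, hb, hroot⟩ := Char.exists_eigenbasis ρ v
  rw [hv] at hroot
  have hI : (Complex.I : ℂ) * Complex.I = -1 := Complex.I_mul_I
  have hsplit : ∀ i, ε i = 1 ∨ ε i = Complex.I ∨ ε i = -1 ∨ ε i = -Complex.I := by
    intro i
    have h1 : (ε i ^ 2 - 1) * (ε i ^ 2 + 1) = 0 := by linear_combination hroot i
    rcases mul_eq_zero.1 h1 with h2 | h2
    · rcases mul_eq_zero.1 (show (ε i - 1) * (ε i + 1) = 0 by linear_combination h2) with h3 | h3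
      · exact Or.inl (sub_eq_zero.1 h3)
      · exact Or.inr (Or.inr (Or.inl (eq_neg_of_add_eq_zero_left h3)))
    · rcases mul_eq_zero.1 (show (ε i - Complex.I) * (ε i + Complex.I) = 0 by
        linear_combination h2 - hI) with h3 | h3
      · exact Or.inr (Or.inl (sub_eq_zero.1 h3))
      · exact Or.inr (Or.inr (Or.inr (eq_neg_of_add_eq_zero_left h3)))
  let N : ℂ → ℕ := fun ζ => (Finset.univ.filter fun i => ε i = ζ).card
  have hd1 : (1 : ℂ) ≠ Complex.I ∧ (1 : ℂ) ≠ -1 ∧ (1 : ℂ) ≠ -Complex.I ∧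
      Complex.I ≠ (-1 : ℂ) ∧ Complex.I ≠ -Complex.I ∧ (-1 : ℂ) ≠ -Complex.I := by
    refine ⟨?_, ?_, ?_, ?_, ?_, ?_⟩ <;> norm_num [Complex.ext_iff]
  have hsumF : ∀ F : ℂ → ℂ, ∑ i, F (ε i) = (N 1 : ℂ) * F 1 + (N Complex.I : ℂ) * F Complex.I +
      (N (-1) : ℂ) * F (-1) + (N (-Complex.I) : ℂ) * F (-Complex.I) := by
    intro F
    simp only [N, ← nsmul_eq_mul, ← Finset.sum_const, Finset.sum_filter,
      ← Finset.sum_add_distrib]
    refine Finset.sum_congr rfl fun i _ => ?_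
    obtain ⟨h12, h13, h14, h23, h24, h34⟩ := hd1
    rcases hsplit i with h | h | h | h <;> rw [h] <;>
      simp [h12, h12.symm, h13, h13.symm, h14, h14.symm, h23, h23.symm, h24, h24.symm, h34,
        h34.symm]
  have hdimC : (finrank ℂ V : ℂ) =
      (N 1 : ℂ) + N Complex.I + N (-1) + N (-Complex.I) := by
    have h1 := hsumF fun _ => 1
    simpa using h1
  have h1 : ρ.character v = ((N 1 : ℂ) - N (-1)) +
      ((N Complex.I : ℂ) - N (-Complex.I)) * Complex.I := by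
    have := Char.character_pow_eq_sum ρ hb 1
    rw [pow_one, hsumF fun z => z ^ 1] at this
    rw [this]; ring
  have h13 : N Complex.I = N (-Complex.I) := by
    rw [h1] at hreal
    have := congrArg Complex.im hreal
    simp at this
    have h' : (N Complex.I : ℝ) = N (-Complex.I) := by linarith
    exact_mod_cast h'
  have hdim : N 1 + 2 * N Complex.I + N (-1) = finrank ℂ V := by
    apply Nat.cast_injective (R := ℂ)
    push_cast
    rw [hdimC, ← h13]
    ring
  have hv1 : ρ.character v = (N 1 : ℂ) - N (-1) := by rw [h1, h13]; ring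
  have hv2 : ρ.character (v ^ 2) = (N 1 : ℂ) + N (-1) - 2 * N Complex.I := by
    rw [Char.character_pow_eq_sum ρ hb 2, hsumF fun z => z ^ 2, ← h13]
    simp only [one_pow, neg_sq, pow_two Complex.I, hI]
    ring
  have hv3 : ρ.character (v ^ 3) = (N 1 : ℂ) - N (-1) := by
    rw [Char.character_pow_eq_sum ρ hb 3, hsumF fun z => z ^ 3, ← h13]
    ring
  have heven : Even (N (-1)) := by
    have hprod : LinearMap.det (ρ v) = ∏ i, ε i := by
      rw [← LinearMap.det_toMatrix b, ← Matrix.det_diagonal]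
      congr 1
      ext i j
      rw [LinearMap.toMatrix_apply, hb j, map_smul, Basis.repr_self]
      by_cases hij : i = j
      · subst hij; simp
      · simp [hij]
    have hpr : ∏ i, ε i = (1 : ℂ) ^ N 1 * Complex.I ^ N Complex.I * (-1 : ℂ) ^ N (-1) *
        (-Complex.I) ^ N (-Complex.I) := by
      simp only [N, ← Finset.prod_const, Finset.prod_filter, ← Finset.prod_mul_distrib]
      refine Finset.prod_congr rfl fun i _ => ?_
      obtain ⟨h12, h13, h14, h23, h24, h34⟩ := hd1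
      rcases hsplit i with h | h | h | h <;> rw [h] <;>
        simp [h12, h12.symm, h13, h13.symm, h14, h14.symm, h23, h23.symm, h24, h24.symm, h34,
          h34.symm]
    rw [hprod, hpr, ← h13, one_pow, one_mul, mul_right_comm, ← mul_pow, mul_neg, hI, neg_neg,
      one_pow, one_mul] at hdet
    exact (neg_one_pow_eq_one_iff_even (by norm_num)).1 hdet
  haveI := Fintype.ofFinite (Subgroup.zpowers v)
  haveI := Fintype.ofFinite (Subgroup.zpowers (v ^ 2))
  have ho2 : orderOf (v ^ 2) = 2 := by rw [orderOf_pow' v two_ne_zero, hv]; rfl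
  refine ⟨N 1, N Complex.I, N (-1), heven, hdim, by rw [hv1]; push_cast; ring,
    by rw [hv2]; push_cast; ring, ?_, ?_⟩
  · have h := sum_character_eq ρ (Subgroup.zpowers v)
    rw [sum_zpowers, hv, Nat.card_zpowers, hv] at h
    simp only [Finset.sum_range_succ, Finset.sum_range_zero, zero_add, pow_zero, pow_one,
      ρ.char_one, hv1, hv2, hv3, ← hdim] at h
    apply Nat.cast_injective (R := ℂ)
    push_cast at h ⊢
    linear_combination (-1 / 4 : ℂ) * h
  · have h := sum_character_eq ρ (Subgroup.zpowers (v ^ 2))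
    rw [sum_zpowers, ho2, Nat.card_zpowers, ho2] at h
    simp only [Finset.sum_range_succ, Finset.sum_range_zero, zero_add, pow_zero, pow_one,
      ρ.char_one, hv2, ← hdim] at h
    apply Nat.cast_injective (R := ℂ)
    push_cast at h ⊢
    linear_combination (-1 / 2 : ℂ) * h

omit [IsSimpleGroup G] in
/-- If an element of a cyclic group generated below `u` fixes no point of an abelian group of odd
order, its coset consists of conjugates. -/
theorem exists_conj_eq_mul {P : Subgroup G} {k z : G} (hz : z ∈ Subgroup.zpowers k)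
    (hk : k ∈ Subgroup.normalizer (P : Set G)) (hodd : ¬ 2 ∣ Nat.card P)
    (hinv : ∀ y ∈ P, z * y * z⁻¹ = y⁻¹) {y : G} (hy : y ∈ P) :
    ∃ w : G, w * k * w⁻¹ = y * k := by
  have hmem : ∀ w : P, (w : G) * k * (w : G)⁻¹ * k⁻¹ ∈ P := fun w => by
    rw [mul_assoc, mul_assoc, show k * ((w : G)⁻¹ * k⁻¹) = k * (w : G)⁻¹ * k⁻¹ by group]
    exact P.mul_mem w.2 ((Subgroup.mem_normalizer_iff.1 hk _).1 (P.inv_mem w.2))
  let f : P → P := fun w => ⟨_, hmem w⟩
  have hinj : Function.Injective f := by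
    intro a b hab
    have hab' : (a : G) * k * (a : G)⁻¹ * k⁻¹ = (b : G) * k * (b : G)⁻¹ * k⁻¹ :=
      congrArg Subtype.val hab
    obtain ⟨c, hc⟩ : ∃ c : G, c = (b : G)⁻¹ * a := ⟨_, rfl⟩
    have hcP : c ∈ P := hc ▸ P.mul_mem (P.inv_mem b.2) a.2
    have hck : Commute k c := by
      show k * c = c * k
      rw [hc]
      calc k * ((b : G)⁻¹ * a) = (b : G)⁻¹ * ((b : G) * k * (b : G)⁻¹ * k⁻¹) * k * a := by group
        _ = (b : G)⁻¹ * ((a : G) * k * (a : G)⁻¹ * k⁻¹) * k * a := by rw [hab']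
        _ = (b : G)⁻¹ * a * k := by group
    obtain ⟨j, rfl⟩ := Subgroup.mem_zpowers_iff.1 hz
    have h2 : c = c⁻¹ := by
      rw [← hinv c hcP, (hck.zpow_left j).eq, mul_inv_cancel_right]
    have h1 : c = 1 := by
      by_contra hne
      have : c ^ 2 = 1 := by rw [pow_two]; nth_rewrite 1 [h2]; exact inv_mul_cancel c
      exact hodd (orderOf_eq_prime this hne ▸ Subgroup.orderOf_dvd_natCard P hcP)
    exact Subtype.ext (inv_mul_eq_one.1 (hc ▸ h1)).symm
  obtain ⟨w, hw⟩ := (Finite.injective_iff_surjective.1 hinj) ⟨y, hy⟩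
  exact ⟨w, by
    have e : (w : G) * k * (w : G)⁻¹ * k⁻¹ = y := congrArg Subtype.val hw
    rw [← e, inv_mul_cancel_right]⟩

/-- The real character of degree four or six on a Frobenius group with complement of order four. -/
theorem frobenius_four (hG : ¬ IsMulCommutative G) {n : ℕ}
    (ρ : Representation ℂ G (Fin n → ℂ)) {χ : IrrCharacter G} (hρ : ρ.character = (χ : G → ℂ))
    {d : ℕ} (hd : (χ : G → ℂ) 1 = d) (hd46 : d = 4 ∨ d = 6)
    (P : Subgroup G) (hP1 : P ≠ ⊥) (hodd : ¬ 2 ∣ Nat.card P) {u : G} (hu : orderOf u = 4)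
    (huN : u ∈ Subgroup.normalizer (P : Set G))
    (hinv : ∀ y ∈ P, u ^ 2 * y * (u ^ 2)⁻¹ = y⁻¹)
    (hreal : conj ((χ : G → ℂ) u) = (χ : G → ℂ) u) :
    d = 6 ∧ (χ : G → ℂ) u = 0 ∧ (χ : G → ℂ) (u ^ 2) = 2 ∧
      fixDim ρ (P ⊔ Subgroup.zpowers u) = 1 ∧ fixDim ρ (Subgroup.zpowers u) = 2 := by
  have hdim : finrank ℂ (Fin n → ℂ) = d := by
    have h1 := hd
    rw [← hρ, ρ.char_one] at h1
    exact_mod_cast h1
  obtain ⟨n0, n1, n2, he, hsum, hx, hz, hf0, hf2⟩ :=
    eigen_four ρ hu (det_eq_one hG ρ u) (by rw [hρ]; exact hreal)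
  rw [hdim] at hsum
  have ho2 : orderOf (u ^ 2) = 2 := by rw [orderOf_pow' u two_ne_zero, hu]; rfl
  have hne1 : (χ : G → ℂ) ≠ fun _ => 1 := fun e => by
    rw [e] at hd
    have : (1 : ℕ) = d := Nat.cast_injective (R := ℂ) (by rw [Nat.cast_one]; exact hd)
    omega
  have hker : ∀ g : G, g ≠ 1 → (χ : G → ℂ) g ≠ (χ : G → ℂ) 1 := by
    intro g hg hval
    obtain ⟨K, hKn, hK⟩ := Char.isCharacter_exists_kernel (Char.isCharacter_of_irr χ.2)
    rcases hKn.eq_bot_or_eq_top with h' | h'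
    · exact hg (Subgroup.mem_bot.1 (h' ▸ (hK g).2 hval))
    · have hs := Char.irr_sum_eq_zero χ.2 hne1
      rw [Finset.sum_congr rfl fun g _ => (hK g).1 (h' ▸ Subgroup.mem_top g), Finset.sum_const,
        smul_eq_zero] at hs
      exact hs.elim (fun h => Fintype.card_ne_zero h) (Char.irr_one_ne_zero χ.2)
  have hn1 : n1 ≠ 0 := by
    intro h0
    refine hker (u ^ 2) (fun e => by rw [e, orderOf_one] at ho2; norm_num at ho2) ?_
    rw [← hρ, hz, ρ.char_one, hdim, ← hsum, h0]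
    push_cast
    ring
  have hdisj : ∀ k : G, orderOf k ∣ 4 → Disjoint P (Subgroup.zpowers k) := by
    intro k hk
    refine Subgroup.disjoint_of_coprime_natCard ?_
    rw [Nat.card_zpowers]
    exact Nat.Coprime.coprime_dvd_right hk (Nat.Coprime.pow_right 2
      ((Nat.prime_two.coprime_iff_not_dvd.2 hodd).symm))
  have hconjP : ∀ k ∈ Subgroup.zpowers u, k ≠ 1 → ∀ y ∈ P, ρ.character (y * k) = ρ.character k := by
    intro k hk hk1 y hy
    have hzk : u ^ 2 ∈ Subgroup.zpowers k := by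
      obtain ⟨j, hj'⟩ := mem_powers_iff_mem_zpowers.2 hk
      obtain rfl : u ^ j = k := hj'
      show u ^ 2 ∈ Subgroup.zpowers (u ^ j)
      rw [pow_mod_orderOf u j |>.symm, hu] at hk1 ⊢
      have hj : j % 4 < 4 := Nat.mod_lt _ (by norm_num)
      interval_cases hj'' : j % 4
      · exact absurd (pow_zero u) hk1
      · exact ⟨2, by simp [pow_two]⟩
      · exact Subgroup.mem_zpowers _
      · refine ⟨2, ?_⟩
        show (u ^ 3) ^ (2 : ℤ) = u ^ 2
        rw [show ((2 : ℤ)) = ((2 : ℕ) : ℤ) from rfl, zpow_natCast, ← pow_mul,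
          show 3 * 2 = orderOf u + 2 by rw [hu], pow_add, pow_orderOf_eq_one, one_mul]
    obtain ⟨w, hw⟩ := exists_conj_eq_mul hzk ((Subgroup.zpowers_le.2 huN) hk) hodd hinv hy
    rw [← hw, hρ]
    exact Char.irr_isClassFunction χ.2 k w
  have hsubz : Subgroup.zpowers (u ^ 2) ≤ Subgroup.zpowers u :=
    Subgroup.zpowers_le.2 (Subgroup.pow_mem _ (Subgroup.mem_zpowers u) 2)
  have e4 := card_mul_fixDim_sup ρ P (Subgroup.zpowers u) (Subgroup.zpowers_le.2 huN)
    (hdisj u (hu ▸ dvd_rfl)) hconjP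
  have e2 := card_mul_fixDim_sup ρ P (Subgroup.zpowers (u ^ 2))
    (hsubz.trans (Subgroup.zpowers_le.2 huN)) (hdisj _ (by rw [ho2]; norm_num))
    (fun k hk => hconjP k (hsubz hk))
  rw [Nat.card_zpowers, hu, hdim, hf0] at e4
  rw [Nat.card_zpowers, ho2, hdim, hf2] at e2
  have m1 := fixDim_anti ρ (sup_le_sup_left hsubz P)
  have m2 := fixDim_anti ρ (le_sup_left : P ≤ P ⊔ Subgroup.zpowers (u ^ 2))
  have m3 := fixDim_anti ρ (le_sup_right : Subgroup.zpowers u ≤ P ⊔ Subgroup.zpowers u)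
  rw [hf0] at m3
  have ha : fixDim ρ P < d := by
    rcases (hdim ▸ fixDim_le ρ P).lt_or_eq with hlt | heq
    · exact hlt
    exfalso
    have htop : fixedSpace ρ P = ⊤ := Submodule.eq_top_of_finrank_eq (heq.trans hdim.symm)
    obtain ⟨y, hy, hy1⟩ := P.bot_or_exists_ne_one.resolve_left hP1
    refine hker y hy1 ?_
    have hρy : ρ y = 1 := LinearMap.ext fun v =>
      (mem_fixedSpace ρ).1 (htop ▸ Submodule.mem_top) y hy
    rw [← hρ]
    simp [Representation.character, hρy]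
  obtain ⟨m, hm⟩ := he
  have hfin : d = 6 ∧ n0 = 2 ∧ n1 = 1 ∧ n2 = 2 ∧ fixDim ρ (P ⊔ Subgroup.zpowers u) = 1 := by
    omega
  obtain ⟨r1, r2, r3, r4, r5⟩ := hfin
  refine ⟨r1, ?_, ?_, r5, hf0.trans r2⟩
  · rw [← hρ, hx, r2, r4]; norm_num
  · rw [← hρ, hz, r2, r3, r4]; norm_num

end Cfsg.Agent.SmallGroups.O2520
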