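import Cfsg.Agent.SmallGroups.PSLRecognition

/-!
# Simple groups of order `p (p + 1) (p - 1) / 2` for small primes `p`
-/

set_option autoImplicit false
set_option linter.unusedSectionVars false

namespace Cfsg.Agent.SmallGroups

open Subgroup MulAction Cfsg.Agent.PermB

variable {G : Type*} [Group G] [Finite G] [IsSimpleGroup G] {p : ℕ} [Fact p.Prime]

/-- The two point stabiliser is cyclic. -/
theorem isCyclic_H2 (hG : ¬ IsMulCommutative G) (hn : Nat.card (Sylow p G) = p + 1)
    (hP : ∀ P : Sylow p G, Nat.card ↥(P : Subgroup G) = p) (P Q : Sylow p G) (hPQ : P ≠ Q) :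
    IsCyclic ↥(ZData.H2 (G := G) P Q) := by
  classical
  have hp : p.Prime := Fact.out
  obtain ⟨R, -, hz, hN⟩ := zData_prime hG hn hP P
  have hc : IsCyclic ↥(P : Subgroup G) := isCyclic_of_prime_card (hP P)
  let ι : ↥(ZData.H2 (G := G) P Q) →* MulAut ↥(P : Subgroup G) :=
    (P : Subgroup G).normalizerMonoidHom.comp (Subgroup.inclusion fun g hg =>
      Sylow.smul_eq_iff_mem_normalizer.mp hg.1)
  have hinj : Function.Injective ι := by
    rw [injective_iff_map_eq_one]
    intro g hg
    apply Subtype.ext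
    have : Nontrivial ↥(P : Subgroup G) := Finite.one_lt_card_iff_nontrivial.mp (by rw [hP P]; exact hp.one_lt)
    obtain ⟨u, hu⟩ := exists_ne (1 : ↥(P : Subgroup G))
    have hcomm : (g : G) * (u : G) * (g : G)⁻¹ = (u : G) :=
      congrArg Subtype.val (DFunLike.congr_fun hg u)
    refine (hz.three (g : G) (a := P) (b := Q) (c := (u : G) • Q) hPQ ?_ ?_ g.2.1 g.2.2 ?_)
    · exact fun h => hu (Subtype.ext (hN.eq_one u.2 hPQ.symm h.symm))
    · intro h
      exact hN.smul_ne u.2 hPQ.symm h.symm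
    · rw [← mul_smul, mul_inv_eq_iff_eq_mul.mp hcomm, mul_smul, g.2.2]
  let e : MulAut ↥(P : Subgroup G) ≃* (ZMod (Nat.card ↥(P : Subgroup G)))ˣ :=
    IsCyclic.mulAutMulEquiv _
  have : Fact (Nat.card ↥(P : Subgroup G)).Prime := ⟨(hP P).symm ▸ hp⟩
  exact isCyclic_of_injective (e.toMonoidHom.comp ι) (e.injective.comp hinj)

/-- No involution commutes with a non-trivial element of the two point stabiliser, if the latter is
a Sylow subgroup of odd order on which `-1` is the only involutory automorphism. -/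
theorem eq_one_of_commute_swapper (hG : ¬ IsMulCommutative G) (hn : Nat.card (Sylow p G) = p + 1)
    (hP : ∀ P : Sylow p G, Nat.card ↥(P : Subgroup G) = p) {d r k m : ℕ} (hr : r.Prime)
    (hd : d = r ^ k) (hk : k ≠ 0) (hodd : Odd d) (hcard : Nat.card G = (p + 1) * (p * d))
    (hm : Nat.card G = r ^ k * m) (hrm : ¬ r ∣ m)
    (hsq : ∀ s : ZMod d, s * s = 1 → s = 1 ∨ s = -1)
    (P Q : Sylow p G) (t h : G) (hPQ : P ≠ Q) (hta : t • P = Q) (htb : t • Q = P) (htt : t * t = 1)
    (h1 : h • P = P) (h2 : h • Q = Q) (hc : t * h = h * t) : h = 1 := by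
  classical
  have hp : p.Prime := Fact.out
  have := Fact.mk hr
  obtain ⟨R, -, hz, hN⟩ := zData_prime hG hn hP P
  set H := ZData.H2 (G := G) P Q with hHdef
  have hH : Nat.card ↥H = d := by
    have h := hz.card_group hPQ
    rw [hn, hcard, Nat.add_sub_cancel] at h
    exact (Nat.eq_of_mul_eq_mul_left hp.pos (Nat.eq_of_mul_eq_mul_left (by omega) h)).symm
  have hcyc := isCyclic_H2 hG hn hP P Q hPQ
  obtain ⟨⟨x, hx⟩, hgen⟩ := hcyc.exists_generator
  have hxo : orderOf x = d := by
    rw [← hH, ← orderOf_eq_card_of_forall_mem_zpowers hgen, Subgroup.orderOf_mk]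
  have hzp : zpowers x = H :=
    Subgroup.eq_of_le_of_card_ge (zpowers_le.mpr hx) (by rw [hH, Nat.card_zpowers, hxo])
  have htinv : t⁻¹ = t := inv_eq_of_mul_eq_one_right htt
  have hx' : t * x * t ∈ H := by
    obtain ⟨e1, e2⟩ := ZData.mem_H2.mp hx
    exact ⟨by show (t * x * t) • P = P; rw [mul_smul, mul_smul, hta, e2, htb],
      by show (t * x * t) • Q = Q; rw [mul_smul, mul_smul, htb, e1, hta]⟩
  obtain ⟨s, hs⟩ := Subgroup.mem_zpowers_iff.mp (hzp.ge hx')
  have hconj : ∀ i : ℤ, t * x ^ i * t = x ^ (s * i) := by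
    intro i
    rw [zpow_mul, hs]
    have := map_zpow (MulAut.conj t) x i
    simp only [MulAut.conj_apply, htinv] at this
    exact this
  have hss : ((s : ZMod d)) * (s : ZMod d) = 1 := by
    have h3 : t * (t * x * t) * t = x := by
      rw [show t * (t * x * t) * t = t * t * x * (t * t) by group, htt, one_mul, mul_one]
    rw [← hs, hconj] at h3
    have h4 : x ^ (s * s - 1) = 1 := by rw [zpow_sub, h3, zpow_one, mul_inv_cancel]
    have h5 := (ZMod.intCast_zmod_eq_zero_iff_dvd (s * s - 1) d).mpr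
      (hxo ▸ orderOf_dvd_iff_zpow_eq_one.mpr h4)
    push_cast at h5
    exact sub_eq_zero.mp h5
  obtain ⟨i, rfl⟩ := Subgroup.mem_zpowers_iff.mp (hzp.ge ⟨h1, h2⟩ : h ∈ zpowers x)
  rcases hsq _ hss with hs1 | hs1
  · -- the whole stabiliser is centralized: contradiction with Burnside
    exfalso
    have hcen : Commute t x := by
      have h4 : x ^ s = x := by
        rw [← zpow_one x, ← zpow_mul, one_mul]
        rw [zpow_eq_zpow_iff_modEq, hxo]
        exact (ZMod.intCast_eq_intCast_iff s 1 d).mp (by rw [hs1]; simp)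
      rw [h4] at hs
      calc t * x = t * x * (t * t) := by rw [htt, mul_one]
        _ = x * t := by rw [← mul_assoc, ← hs]
    obtain ⟨S, hS⟩ := (IsPGroup.of_card (hH.trans hd)).exists_le_sylow
    have hSH : H = (S : Subgroup G) :=
      Subgroup.eq_of_le_of_card_ge hS (by rw [card_sylow_subgroup hm hrm S, hH, hd])
    refine not_normalizer_le_centralizer hG (hm ▸ (dvd_pow_self r hk).mul_right m) S ?_
    intro g hg
    rw [← hSH] at hg ⊢
    have hx1 : x ≠ 1 := by
      intro hx1
      rw [hx1, orderOf_one] at hxo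
      exact absurd (hd ▸ hxo) (ne_of_lt (Nat.one_lt_pow hk hr.one_lt))
    have hfix : ∀ a : Sylow p G, x • a = a → a = P ∨ a = Q := by
      intro a ha
      by_contra hcon
      rw [not_or] at hcon
      exact hx1 (hz.three x hPQ (Ne.symm hcon.2) (Ne.symm hcon.1) hx.1 hx.2 ha)
    have hmove : ∀ a : Sylow p G, x • a = a → x • g • a = g • a := by
      intro a ha
      have hgx : g⁻¹ * x * g ∈ H := by
        refine (mem_normalizer_iff.mp hg _).mpr ?_
        rwa [show g * (g⁻¹ * x * g) * g⁻¹ = x by group]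
      obtain ⟨j, hj⟩ := Subgroup.mem_zpowers_iff.mp (hzp.ge hgx)
      have h5 : (g⁻¹ * x * g) • a = a := by
        rw [← hj]
        exact (zpowers_le (H := MulAction.stabilizer G a)).mpr ha (Subgroup.zpow_mem_zpowers x j)
      rw [mul_smul, mul_smul, inv_smul_eq_iff] at h5
      exact h5
    have hHC : ∀ u ∈ H, u ∈ centralizer (H : Set G) := by
      intro u hu v hv
      obtain ⟨a, rfl⟩ := Subgroup.mem_zpowers_iff.mp (hzp.ge hu)
      obtain ⟨b, rfl⟩ := Subgroup.mem_zpowers_iff.mp (hzp.ge hv)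
      exact ((Commute.refl x).zpow_zpow b a).eq
    rcases hfix _ (hmove P hx.1) with hgP | hgP
    · have hgQ : g • Q = Q := (hfix _ (hmove Q hx.2)).resolve_left
        fun h => hPQ (MulAction.injective g (hgP.trans h.symm))
      exact hHC g ⟨hgP, hgQ⟩
    · have hgQ : g • Q = P := (hfix _ (hmove Q hx.2)).resolve_right
        fun h => hPQ (MulAction.injective g (hgP.trans h.symm))
      have htg : t * g ∈ H := ⟨by show (t * g) • P = P; rw [mul_smul, hgP, htb],
        by show (t * g) • Q = Q; rw [mul_smul, hgQ, hta]⟩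
      have htC : t ∈ centralizer (H : Set G) := by
        intro v hv
        obtain ⟨b, rfl⟩ := Subgroup.mem_zpowers_iff.mp (hzp.ge hv)
        exact (hcen.symm.zpow_left b).eq
      rw [show g = t * (t * g) by rw [← mul_assoc, htt, one_mul]]
      exact mul_mem htC (hHC _ htg)
  · have h6 : x ^ (s * i) = x ^ i := by
      rw [← hconj, hc, mul_assoc, htt, mul_one]
    have h7 := (ZMod.intCast_eq_intCast_iff (s * i) i d).mpr (hxo ▸ zpow_eq_zpow_iff_modEq.mp h6)
    push_cast at h7
    rw [hs1, neg_one_mul] at h7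
    obtain ⟨j, hj⟩ := hodd
    have h8 : (i : ZMod d) = 0 := by
      have h9 : (2 : ZMod d) * i = 0 := by linear_combination -h7
      have hunit : IsUnit (2 : ZMod d) := by
        rw [show (2 : ZMod d) = ((2 : ℕ) : ZMod d) by norm_num, ZMod.isUnit_iff_coprime]
        exact Nat.coprime_two_left.mpr ⟨j, hj⟩
      exact (hunit.mul_right_eq_zero).mp h9
    rw [ZMod.intCast_zmod_eq_zero_iff_dvd, ← hxo] at h8
    exact orderOf_dvd_iff_zpow_eq_one.mp h8

end Cfsg.Agent.SmallGroups
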