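import Cfsg.Agent.CharInd.Coherence
import Cfsg.Agent.Char.Linear
import Cfsg.Agent.Char.Orthogonality
import Cfsg.Agent.SmallGroups.PrimeSylow

/-!
# Exceptional characters of a self-centralizing subgroup of prime order

For `P ≤ G` of prime order `p` with `C(P) = P` and `|N(P)| = p * e`, `p - 1 = e * t`, the
generalized characters `Ind (1 - λ)` give the degrees of the characters in the principal series:
`t` exceptional characters of one degree and a short list of the others.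
-/

set_option autoImplicit false
set_option linter.style.haveILetI false
set_option linter.unusedSectionVars false

noncomputable section

open scoped ComplexConjugate BigOperators
open Finset Cfsg.Agent.CharInd

namespace Cfsg.Agent.SmallGroups.Exceptional

universe u

variable {G : Type u} [Group G] [Fintype G] (P : Subgroup G)

/-- A linear character as a function. -/
def hfun (l : ↥P →* ℂˣ) : ↥P → ℂ := fun x => (l x : ℂ)

/-- The difference `1 - λ` on `P`. -/
def dfun (l : ↥P →* ℂˣ) : ↥P → ℂ := hfun P 1 - hfun P l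

/-- The induced generalized character `Ind (1 - λ)`. -/
def alpha (l : ↥P →* ℂˣ) : G → ℂ := Cfsg.indFun P (dfun P l)

theorem dfun_apply (l : ↥P →* ℂˣ) (x : ↥P) : dfun P l x = 1 - (l x : ℂ) := by
  simp [dfun, hfun]

theorem dfun_one (l : ↥P →* ℂˣ) : dfun P l 1 = 0 := by simp [dfun_apply]

theorem alpha_one (l : ↥P →* ℂˣ) : alpha P l 1 = 0 := indFun_one_eq_zero P (dfun_one P l)

theorem genChar_alpha (l : ↥P →* ℂˣ) : Cfsg.IsGeneralizedCharacter G (alpha P l) :=
  genChar_indFun P (genChar_sub (genChar_irr (Char.isIrrCharacter_monoidHom 1))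
    (genChar_irr (Char.isIrrCharacter_monoidHom l)))

/-- Conjugation by an element of the normalizer. -/
def cmap (g : ↥(Subgroup.normalizer (P : Set G))) : ↥P →* ↥P where
  toFun x := ⟨(g : G)⁻¹ * x * g, (Subgroup.mem_normalizer_iff''.mp g.2 x).mp x.2⟩
  map_one' := by ext; simp
  map_mul' x y := by ext; simp [mul_assoc]

theorem cmap_apply (g : ↥(Subgroup.normalizer (P : Set G))) (x : ↥P) :
    (cmap P g x : G) = (g : G)⁻¹ * x * g := rfl

theorem cmap_comp (g h : ↥(Subgroup.normalizer (P : Set G))) :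
    (cmap P g).comp (cmap P h) = cmap P (h * g) := by
  ext x; simp [cmap_apply, mul_assoc]

theorem cmap_one : cmap P 1 = MonoidHom.id _ := by
  ext x; simp [cmap_apply]

theorem cmap_bijective (g : ↥(Subgroup.normalizer (P : Set G))) :
    Function.Bijective (cmap P g) := by
  refine Finite.injective_iff_bijective.mp fun x y h => ?_
  have := congrArg (fun z : ↥P => (z : G)) h
  simp only [cmap_apply] at this
  exact Subtype.ext (mul_left_cancel (mul_right_cancel this))

theorem classInner_hfun (l m : ↥P →* ℂˣ) [Fintype ↥P] [Decidable (l = m)] :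
    Cfsg.classInner (hfun P l) (hfun P m) = if l = m then 1 else 0 := by
  by_cases h : l = m
  · rw [if_pos h, h]
    exact classInner_irr_self (Char.isIrrCharacter_monoidHom m)
  · rw [if_neg h]
    exact classInner_irr_ne (Char.isIrrCharacter_monoidHom l) (Char.isIrrCharacter_monoidHom m)
      fun hh => h (Char.monoidHom_coe_injective hh)

/-- The orbit relation of the normalizer on linear characters. -/
def Rel (l m : ↥P →* ℂˣ) : Prop :=
  ∃ g : ↥(Subgroup.normalizer (P : Set G)), l = m.comp (cmap P g)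

theorem rel_equiv : Equivalence (Rel P) where
  refl l := ⟨1, by rw [cmap_one, MonoidHom.comp_id]⟩
  symm := by
    rintro l m ⟨g, rfl⟩
    refine ⟨g⁻¹, ?_⟩
    rw [MonoidHom.comp_assoc, cmap_comp, inv_mul_cancel, cmap_one, MonoidHom.comp_id]
  trans := by
    rintro l m n ⟨g, rfl⟩ ⟨h, rfl⟩
    exact ⟨g * h, by rw [MonoidHom.comp_assoc, cmap_comp]⟩

theorem alpha_inner_eq_of_rel {l m : ↥P →* ℂˣ} (h : Rel P l m) {φ : G → ℂ}
    (hφ : Cfsg.IsClassFunction G φ) :
    Cfsg.classInner (alpha P l) φ = Cfsg.classInner (alpha P m) φ := by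
  classical
  obtain ⟨g, rfl⟩ := h
  letI : Fintype ↥P := Fintype.ofFinite _
  rw [alpha, alpha, classInner_indFun_left P _ hφ, classInner_indFun_left P _ hφ]
  simp only [Cfsg.classInner]
  congr 1
  refine Fintype.sum_equiv (Equiv.ofBijective _ (cmap_bijective P g)) _ _ fun x => ?_
  simp only [Equiv.ofBijective_apply, dfun_apply, MonoidHom.comp_apply, cmap_apply]
  congr 2
  simpa using (hφ (x : G) (g : G)⁻¹).symm

section prime

variable {p e : ℕ} (hp : p.Prime) (hP : Nat.card ↥P = p)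
  (hC : Nat.card ↥(Subgroup.centralizer (P : Set G)) = p)
  (hN : Nat.card ↥(Subgroup.normalizer (P : Set G)) = p * e)

include hp hP

theorem isMulCommutative_subgroup : IsMulCommutative ↥P :=
  SmallGroups.isMulCommutative_of_prime_card (by rw [hP]; exact hp)

theorem card_hom : Nat.card (↥P →* ℂˣ) = p := by
  have := isMulCommutative_subgroup P hp hP
  rw [Char.card_monoidHom_complex, ← hP]
  have hbot : commutator ↥P = ⊥ := by
    rw [eq_bot_iff, commutator_eq_closure, Subgroup.closure_le]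
    rintro _ ⟨a, b, rfl⟩
    rw [SetLike.mem_coe, Subgroup.mem_bot, commutatorElement_eq_one_iff_mul_comm]
    exact this.is_comm.comm a b
  rw [hbot, Subgroup.index_bot]

theorem hom_injective {m : ↥P →* ℂˣ} (hm : m ≠ 1) : Function.Injective m := by
  haveI : Fact (Nat.card ↥P).Prime := ⟨by rw [hP]; exact hp⟩
  rcases m.ker.eq_bot_or_eq_top_of_prime_card with h | h
  · exact (MonoidHom.ker_eq_bot_iff m).mp h
  · exact absurd (MonoidHom.ext fun x => MonoidHom.mem_ker.mp (h ▸ Subgroup.mem_top x)) hm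

theorem mem_normalizer_of_conj_mem {x : G} (hx : x ∈ P) (hx1 : x ≠ 1) {g : G}
    (h : g⁻¹ * x * g ∈ P) : g ∈ Subgroup.normalizer (P : Set G) := by
  haveI := Fact.mk hp
  have fwd : ∀ y ∈ P, g⁻¹ * y * g ∈ P := by
    intro y hy
    have hgen : (⟨x, hx⟩ : ↥P) ≠ 1 := fun h => hx1 (congrArg Subtype.val h)
    obtain ⟨i, hi⟩ := Subgroup.mem_zpowers_iff.mp
      (mem_zpowers_of_prime_card hP (g := (⟨x, hx⟩ : ↥P)) (g' := ⟨y, hy⟩) hgen)
    have hy' : y = x ^ i := by simpa using (congrArg Subtype.val hi).symm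
    have hconj : (g⁻¹ * x * g) ^ i = g⁻¹ * x ^ i * g := by
      have := conj_zpow (a := g⁻¹) (b := x) (i := i)
      rwa [inv_inv] at this
    rw [hy', ← hconj]
    exact P.zpow_mem h i
  let f : ↥P → ↥P := fun y => ⟨g⁻¹ * y * g, fwd y y.2⟩
  have hf : Function.Injective f := fun a b hab =>
    Subtype.ext (mul_left_cancel (mul_right_cancel (congrArg Subtype.val hab)))
  refine Subgroup.mem_normalizer_iff''.mpr fun y => ⟨fwd y, fun hy => ?_⟩
  obtain ⟨z, hz⟩ := Finite.surjective_of_injective hf ⟨_, hy⟩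
  have hzy : (z : G) = y := mul_left_cancel (mul_right_cancel (congrArg Subtype.val hz))
  exact hzy ▸ z.2

theorem alpha_apply_mem (l : ↥P →* ℂˣ) (x : ↥P)
    [Fintype ↥(Subgroup.normalizer (P : Set G))] :
    alpha P l (x : G) = (p : ℂ)⁻¹ * ∑ g : ↥(Subgroup.normalizer (P : Set G)),
      dfun P l (cmap P g x) := by
  classical
  rcases eq_or_ne x 1 with rfl | hx
  · simp [alpha_one, map_one, dfun_one]
  rw [alpha, indFun_apply, hP]
  congr 1
  have key : ∀ g : G, Cfsg.extendByZero P (dfun P l) (g⁻¹ * x * g) =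
      Cfsg.extendByZero (Subgroup.normalizer (P : Set G))
        (fun g => dfun P l (cmap P g x)) g := by
    intro g
    by_cases hg : g ∈ Subgroup.normalizer (P : Set G)
    · rw [extendByZero_mem _ _ hg,
        extendByZero_mem P _ ((Subgroup.mem_normalizer_iff''.mp hg x).mp x.2)]
      rfl
    · rw [extendByZero_notMem _ _ hg, extendByZero_notMem P _]
      exact fun h => hg (mem_normalizer_of_conj_mem P hp hP x.2
        (fun h1 => hx (Subtype.ext h1)) h)
  simp only [key]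
  exact sum_extendByZero _ _

include hC

theorem card_stab {m : ↥P →* ℂˣ} (hm : m ≠ 1) (g₀ : ↥(Subgroup.normalizer (P : Set G))) :
    Nat.card {g : ↥(Subgroup.normalizer (P : Set G)) //
      m.comp (cmap P g) = m.comp (cmap P g₀)} = p := by
  rw [← hC]
  refine Nat.card_congr
    { toFun := fun g => ⟨(g.1 : G) * (g₀ : G)⁻¹, ?_⟩
      invFun := fun c => ⟨⟨(c : G) * g₀, ?_⟩, ?_⟩
      left_inv := fun g => Subtype.ext (Subtype.ext (by simp))
      right_inv := fun c => Subtype.ext (by simp) }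
  · rw [Subgroup.mem_centralizer_iff]
    intro x hx
    have h1 := congrArg (fun z : ↥P => (z : G))
      (hom_injective P hp hP hm (DFunLike.congr_fun g.2 ⟨x, hx⟩))
    simp only [cmap_apply] at h1
    calc x * ((g.1 : G) * (g₀ : G)⁻¹)
        = (g.1 : G) * ((g.1 : G)⁻¹ * x * g.1) * (g₀ : G)⁻¹ := by group
      _ = (g.1 : G) * ((g₀ : G)⁻¹ * x * g₀) * (g₀ : G)⁻¹ := by rw [h1]
      _ = (g.1 : G) * (g₀ : G)⁻¹ * x := by group
  · exact mul_mem (Subgroup.centralizer_le_normalizer _ c.2) g₀.2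
  · refine MonoidHom.ext fun x => congrArg m (Subtype.ext ?_)
    have hc : (x : G) * c = c * x := c.2 _ x.2
    simp only [cmap_apply, mul_inv_rev]
    calc (g₀ : G)⁻¹ * (c : G)⁻¹ * x * ((c : G) * g₀)
        = (g₀ : G)⁻¹ * (c : G)⁻¹ * (x * c) * g₀ := by group
      _ = (g₀ : G)⁻¹ * (c : G)⁻¹ * (c * x) * g₀ := by rw [hc]
      _ = (g₀ : G)⁻¹ * x * g₀ := by group

include hN

theorem classInner_alpha {l m : ↥P →* ℂˣ} (hl : l ≠ 1) (hm : m ≠ 1) [Decidable (Rel P l m)] :
    Cfsg.classInner (alpha P l) (alpha P m) = (e : ℂ) + if Rel P l m then 1 else 0 := by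
  classical
  letI : Fintype ↥P := Fintype.ofFinite _
  letI : Fintype ↥(Subgroup.normalizer (P : Set G)) := Fintype.ofFinite _
  have hp0 : (p : ℂ) ≠ 0 := Nat.cast_ne_zero.mpr hp.ne_zero
  rw [alpha, classInner_indFun_left P _ (genChar_isClassFunction (genChar_alpha P m))]
  have hr : (fun x : ↥P => alpha P m (x : G)) = (p : ℂ)⁻¹ •
      ∑ g : ↥(Subgroup.normalizer (P : Set G)), dfun P (m.comp (cmap P g)) := by
    funext x
    rw [alpha_apply_mem P hp hP m x, Pi.smul_apply, Finset.sum_apply, smul_eq_mul]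
    simp [dfun_apply]
  rw [hr, CharInd.classInner_smul_right, classInner_sum_right, map_inv₀, map_natCast]
  have hinner : ∀ g : ↥(Subgroup.normalizer (P : Set G)),
      Cfsg.classInner (dfun P l) (dfun P (m.comp (cmap P g))) =
        1 + if m.comp (cmap P g) = l then 1 else 0 := by
    intro g
    have hmg : (1 : ↥P →* ℂˣ) ≠ m.comp (cmap P g) := fun h => hm (MonoidHom.ext fun x => by
      obtain ⟨y, rfl⟩ := (cmap_bijective P g).2 x
      exact (DFunLike.congr_fun h y).symm)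
    simp only [dfun, CharInd.classInner_sub_left, CharInd.classInner_sub_right, classInner_hfun,
      if_neg hmg, eq_comm (a := l)]
    simp [Ne.symm hl]
  rw [Finset.sum_congr rfl fun g _ => hinner g, Finset.sum_add_distrib, Finset.sum_const,
    Finset.card_univ, ← Nat.card_eq_fintype_card, hN, nsmul_one, Finset.sum_boole]
  by_cases h : Rel P l m
  · obtain ⟨g₀, hg₀⟩ := h
    rw [if_pos ⟨g₀, hg₀⟩]
    have hcard := card_stab P hp hP hC hm g₀
    rw [← hg₀, Nat.card_eq_fintype_card, Fintype.card_subtype] at hcard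
    rw [hcard]
    field_simp
    push_cast
    ring
  · rw [if_neg h, Finset.filter_eq_empty_iff.mpr fun g _ hg => h ⟨g, hg.symm⟩]
    field_simp
    simp

theorem card_rel_class {m : ↥P →* ℂˣ} (hm : m ≠ 1) :
    Nat.card {l : ↥P →* ℂˣ // Rel P l m} = e := by
  classical
  haveI : Finite (↥P →* ℂˣ) := Char.monoidHom_complex_finite
  let F : ↥(Subgroup.normalizer (P : Set G)) → {l : ↥P →* ℂˣ // Rel P l m} :=
    fun g => ⟨m.comp (cmap P g), g, rfl⟩
  letI := Fintype.ofFinite {l : ↥P →* ℂˣ // Rel P l m}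
  have h1 := Nat.card_congr (Equiv.sigmaFiberEquiv F)
  rw [hN, Nat.card_sigma] at h1
  have h2 : ∀ y, Nat.card {g // F g = y} = p := by
    rintro ⟨l, g₀, rfl⟩
    simpa [F, Subtype.ext_iff] using card_stab P hp hP hC hm g₀
  simp only [h2, Finset.sum_const, Finset.card_univ, smul_eq_mul, ← Nat.card_eq_fintype_card] at h1
  exact Nat.eq_of_mul_eq_mul_left hp.pos (by linarith)

/-- Representatives of the orbits of the normalizer on the nontrivial linear characters. -/
theorem exists_reps {t : ℕ} (he : 0 < e) (ht : p - 1 = e * t) :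
    ∃ r : Fin t → (↥P →* ℂˣ), (∀ i, r i ≠ 1) ∧ (∀ i j, Rel P (r i) (r j) → i = j) ∧
      ∀ [Fintype (↥P →* ℂˣ)] (f : (↥P →* ℂˣ) → ℂ), f 1 = 0 →
        (∀ l m, Rel P l m → f l = f m) → ∑ l, f l = (e : ℂ) * ∑ i, f (r i) := by
  classical
  haveI : Finite (↥P →* ℂˣ) := Char.monoidHom_complex_finite
  let s : Setoid {l : ↥P →* ℂˣ // l ≠ 1} :=
    ⟨fun a b => Rel P a.1 b.1, fun a => (rel_equiv P).refl _,
      fun h => (rel_equiv P).symm h, fun h h' => (rel_equiv P).trans h h'⟩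
  letI := Fintype.ofFinite (Quotient s)
  have hfib : ∀ q : Quotient s, Nat.card {a : {l : ↥P →* ℂˣ // l ≠ 1} // Quotient.mk s a = q} = e := by
    intro q
    induction q using Quotient.ind with
    | _ a =>
      rw [← card_rel_class P hp hP hC hN a.2]
      refine Nat.card_congr
        { toFun := fun b => ⟨b.1.1, Quotient.eq.mp b.2⟩
          invFun := fun l => ⟨⟨l.1, ?_⟩, Quotient.eq.mpr l.2⟩
          left_inv := fun b => rfl
          right_inv := fun l => rfl }
      obtain ⟨g, hg⟩ := l.2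
      intro h1
      exact a.2 (MonoidHom.ext fun x => by
        obtain ⟨y, rfl⟩ := (cmap_bijective P g).2 x
        exact DFunLike.congr_fun (hg.symm.trans h1) y)
  have hQ : Fintype.card (Quotient s) = t := by
    have h1 := Nat.card_congr (Equiv.sigmaFiberEquiv (Quotient.mk s))
    simp only [Nat.card_sigma, hfib, Finset.sum_const, Finset.card_univ, smul_eq_mul] at h1
    letI := Fintype.ofFinite (↥P →* ℂˣ)
    have h2 : Nat.card {l : ↥P →* ℂˣ // l ≠ 1} = p - 1 := by
      rw [Nat.card_eq_fintype_card, Fintype.card_subtype_compl, ← Nat.card_eq_fintype_card,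
        card_hom P hp hP, Fintype.card_subtype_eq]
    rw [h2, ht] at h1
    exact Nat.eq_of_mul_eq_mul_left he (by linarith)
  let E : Fin t ≃ Quotient s := (Fintype.equivFinOfCardEq hQ).symm
  refine ⟨fun i => (E i).out.1, fun i => (E i).out.2, fun i j h => E.injective ?_, ?_⟩
  · rw [← Quotient.out_eq (E i), ← Quotient.out_eq (E j)]
    exact Quotient.sound h
  intro inst f hf1 hf
  rw [← Finset.sum_filter_of_ne (p := fun l => l ≠ 1) fun l _ h h1 => h (h1 ▸ hf1),
    Finset.sum_subtype (Finset.univ.filter fun l : ↥P →* ℂˣ => l ≠ 1)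
      (p := fun l => l ≠ 1) (fun l => by simp),
    ← Equiv.sum_comp (Equiv.sigmaFiberEquiv (Quotient.mk s)), Fintype.sum_sigma,
    ← E.sum_comp, Finset.mul_sum]
  refine Finset.sum_congr rfl fun i _ => ?_
  have hc : ∀ a : {a : {l : ↥P →* ℂˣ // l ≠ 1} // Quotient.mk s a = E i},
      f (Equiv.sigmaFiberEquiv (Quotient.mk s) ⟨E i, a⟩).1 = f (E i).out.1 := fun a =>
    hf _ _ (Quotient.eq.mp (a.2.trans (Quotient.out_eq (E i)).symm))
  rw [Finset.sum_congr rfl fun a _ => hc a, Finset.sum_const, Finset.card_univ,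
    ← Nat.card_eq_fintype_card, hfib, nsmul_eq_mul]

theorem sum_hom_apply [Fintype (↥P →* ℂˣ)] (x : ↥P) [Decidable (x = 1)] :
    ∑ l : ↥P →* ℂˣ, (l x : ℂ) = if x = 1 then (p : ℂ) else 0 := by
  by_cases hx : x = 1
  · subst hx
    simp [← Nat.card_eq_fintype_card, card_hom P hp hP]
  rw [if_neg hx]
  haveI : Nontrivial (↥P →* ℂˣ) := by
    haveI : Finite (↥P →* ℂˣ) := Char.monoidHom_complex_finite
    rw [← Finite.one_lt_card_iff_nontrivial, card_hom P hp hP]
    exact hp.one_lt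
  obtain ⟨l₀, hl₀⟩ := exists_ne (1 : ↥P →* ℂˣ)
  have h0 : l₀ x ≠ 1 := fun h => hx (hom_injective P hp hP hl₀ (h.trans (map_one l₀).symm))
  have h1 : (l₀ x : ℂ) * ∑ l : ↥P →* ℂˣ, (l x : ℂ) = ∑ l : ↥P →* ℂˣ, (l x : ℂ) := by
    rw [Finset.mul_sum]
    exact Fintype.sum_equiv (Equiv.mulLeft l₀) _ _ fun l => by simp
  by_contra hne
  exact h0 (Units.ext (by simpa using (mul_eq_right₀ hne).mp h1))

theorem sum_classInner_alpha [Fintype (↥P →* ℂˣ)] (χ : Cfsg.IrrCharacter G) {d : ℕ}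
    (hd : (χ : G → ℂ) 1 = d) :
    ∃ n : ℕ, ∑ l : ↥P →* ℂˣ, Cfsg.classInner (alpha P l) (χ : G → ℂ) = (p : ℂ) * n - d := by
  classical
  letI : Fintype ↥P := Fintype.ofFinite _
  obtain ⟨n, hn⟩ := Char.isCharacter_classInner_nat
    (Char.isCharacter_restrict (Char.isCharacter_of_irr χ.2) P)
    ⟨hfun P 1, Char.isIrrCharacter_monoidHom 1⟩
  refine ⟨n, ?_⟩
  have hn' : Cfsg.classInner (hfun P 1) (fun x : ↥P => (χ : G → ℂ) x) = (n : ℂ) := by
    rw [← CharInd.classInner_swap, hn, map_natCast]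
  simp only [alpha, classInner_indFun_left P _ (Char.irr_isClassFunction χ.2)]
  rw [← classInner_sum_left, show (∑ l : ↥P →* ℂˣ, dfun P l) =
      (p : ℂ) • hfun P 1 - fun x => if x = 1 then (p : ℂ) else 0 from funext fun x => by
    simp only [Finset.sum_apply, dfun_apply, Finset.sum_sub_distrib, sum_hom_apply P hp hP hC hN,
      Finset.sum_const, Finset.card_univ, ← Nat.card_eq_fintype_card, card_hom P hp hP]
    simp [hfun],
    CharInd.classInner_sub_left, CharInd.classInner_smul_left, hn']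
  congr 1
  simp only [Cfsg.classInner, hP, ite_mul, zero_mul, Finset.sum_ite_eq', Finset.mem_univ, if_true,
    OneMemClass.coe_one, hd, map_natCast]
  rw [inv_mul_cancel_left₀ (Nat.cast_ne_zero.mpr hp.ne_zero)]

omit hP hC hN in
/-- A nontrivial irreducible character of a non-commutative simple group has degree `> 1`. -/
theorem one_lt_degree [IsSimpleGroup G] (hG : ¬ IsMulCommutative G) {χ : Cfsg.IrrCharacter G}
    (hχ : χ ≠ Char.trivialIrr G) {d : ℕ} (hd : (χ : G → ℂ) 1 = d) : 1 < d := by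
  obtain ⟨n, hn0, hn⟩ := Char.irr_one_pos χ.2
  have hnd : n = d := by exact_mod_cast hn.symm.trans hd
  by_contra hle
  have h1 : (χ : G → ℂ) 1 = 1 := by rw [hd, show d = 1 by omega, Nat.cast_one]
  obtain ⟨f, hf⟩ := Char.exists_monoidHom_of_degree_one (Char.isCharacter_of_irr χ.2) h1
  rcases SmallGroups.injective_or_trivial f with hi | ht'
  · exact hG ⟨⟨fun x y => hi (by rw [map_mul, map_mul, mul_comm])⟩⟩
  · exact hχ (Subtype.ext (funext fun g => by rw [hf g, ht' g]; rfl))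

/-- The coefficients of `Ind (1 - λ)`. -/
theorem exists_coeff [Fintype (Cfsg.IrrCharacter G)] {l : ↥P →* ℂˣ} (hl : l ≠ 1)
    (dg : Cfsg.IrrCharacter G → ℕ) (hdg : ∀ χ : Cfsg.IrrCharacter G, (χ : G → ℂ) 1 = dg χ) :
    ∃ a : Cfsg.IrrCharacter G → ℤ,
      (∀ χ : Cfsg.IrrCharacter G, Cfsg.classInner (alpha P l) (χ : G → ℂ) = a χ) ∧
      alpha P l = ∑ χ : Cfsg.IrrCharacter G, (a χ : ℂ) • (χ : G → ℂ) ∧
      ∑ χ, a χ * a χ = e + 1 ∧ ∑ χ, a χ * (dg χ : ℤ) = 0 ∧ a (Char.trivialIrr G) = 1 := by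
  classical
  letI : Fintype ↥P := Fintype.ofFinite _
  obtain ⟨a, ha⟩ := genChar_coef (genChar_alpha P l)
  have hin : ∀ χ : Cfsg.IrrCharacter G, Cfsg.classInner (alpha P l) (χ : G → ℂ) = a χ := fun χ => by
    rw [ha, classInner_irrSum]
  refine ⟨a, hin, ha, ?_, ?_, ?_⟩
  · have h := (genChar_classInner ha ha).symm.trans (classInner_alpha P hp hP hC hN hl hl)
    rw [if_pos ((rel_equiv P).refl l)] at h
    exact_mod_cast h
  · have h := congrFun ha 1
    rw [alpha_one, Finset.sum_apply] at h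
    simp only [Pi.smul_apply, smul_eq_mul, hdg] at h
    exact_mod_cast h.symm
  · have h := (hin (Char.trivialIrr G)).symm
    rw [show ((Char.trivialIrr G : Cfsg.IrrCharacter G) : G → ℂ) = fun _ => (1 : ℂ) from rfl, alpha,
      classInner_indFun_left P _ (Char.irr_isClassFunction Char.isIrrCharacter_const_one),
      show (fun _ : ↥P => (1 : ℂ)) = hfun P 1 from funext fun x => by simp [hfun],
      dfun, CharInd.classInner_sub_left, classInner_hfun, classInner_hfun, if_pos rfl,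
      if_neg hl, sub_zero] at h
    exact_mod_cast h

omit hp hP hC hN in
theorem alpha_eq_zero_of_conj_notMem (l : ↥P →* ℂˣ) {g : G} (hg : ∀ y : G, y⁻¹ * g * y ∉ P) :
    alpha P l g = 0 := indFun_eq_zero_of_forall P _ hg

/-- The structure of `Ind (1 - λ)`: `t` exceptional constituents `M i` of one degree `d`, agreeing
off the conjugates of `P`, and a list `L` of further constituents. -/
theorem exists_char_data [IsSimpleGroup G] [Fintype (Cfsg.IrrCharacter G)]
    (hG : ¬ IsMulCommutative G) {t : ℕ} (he : 0 < e) (ht : p - 1 = e * t) (ht2 : 2 ≤ t)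
    (dg : Cfsg.IrrCharacter G → ℕ) (hdg : ∀ χ : Cfsg.IrrCharacter G, (χ : G → ℂ) 1 = dg χ) :
    ∃ (l : ↥P →* ℂˣ) (ε b : ℤ) (M : Fin t → Cfsg.IrrCharacter G) (i₀ : Fin t)
      (a : Cfsg.IrrCharacter G → ℤ) (L : List (Cfsg.IrrCharacter G)),
      (l ≠ 1 ∧ alpha P l = ∑ χ : Cfsg.IrrCharacter G, (a χ : ℂ) • (χ : G → ℂ)) ∧ (ε = 1 ∨ ε = -1) ∧
      (∀ i, dg (M i) = dg (M i₀)) ∧ (1 < dg (M i₀) ∧ (p : ℤ) ∣ (dg (M i₀) : ℤ) - (b - e * ε)) ∧
      (∀ χ ∈ L, 1 < dg χ ∧ (p : ℤ) ∣ (dg χ : ℤ) - a χ ∧ a χ ≠ 0) ∧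
      (∀ g : G, (∀ y : G, y⁻¹ * g * y ∉ P) → ∀ i, (M i : G → ℂ) g = (M i₀ : G → ℂ) g) ∧
      (b + ε) ^ 2 + ((t : ℤ) - 1) * b ^ 2 + (L.map fun χ => a χ ^ 2).sum = e ∧
      (∀ F : Cfsg.IrrCharacter G → ℂ, (∀ i, F (M i) = F (M i₀)) →
        ∑ χ, (a χ : ℂ) * F χ = F (Char.trivialIrr G) + ((t * b + ε : ℤ) : ℂ) * F (M i₀) +
          (L.map fun χ => (a χ : ℂ) * F χ).sum) ∧
      (∀ F : Cfsg.IrrCharacter G → ℝ, (∀ χ, 0 ≤ F χ) →
        F (Char.trivialIrr G) + ∑ i, F (M i) + (L.map F).sum ≤ ∑ χ, F χ) := by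
  classical
  haveI : Finite (↥P →* ℂˣ) := Char.monoidHom_complex_finite
  letI : Fintype (↥P →* ℂˣ) := Fintype.ofFinite _
  letI : Fintype ↥P := Fintype.ofFinite _
  obtain ⟨r, hr1, hrinj, hrsum⟩ := exists_reps P hp hP hC hN he ht
  choose a ha hexp hnorm hdeg0 hT using fun i => exists_coeff P hp hP hC hN (hr1 i) dg hdg
  have hinner : ∀ i j, Cfsg.classInner (alpha P (r i)) (alpha P (r j)) =
      (e : ℂ) + if i = j then 1 else 0 := by
    intro i j
    rw [classInner_alpha P hp hP hC hN (hr1 i) (hr1 j)]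
    congr 1
    by_cases h : i = j
    · rw [if_pos h, if_pos (h ▸ (rel_equiv P).refl _)]
    · rw [if_neg h, if_neg fun h' => h (hrinj i j h')]
  let i₀ : Fin t := ⟨0, by omega⟩
  obtain ⟨ε, hε, μ, hμ, hμinj, hτ⟩ := coherence_gram t i₀
    (fun i => alpha P (r i) - alpha P (r i₀)) (sub_self _)
    (fun i => genChar_sub (genChar_alpha P _) (genChar_alpha P _))
    (fun i => by simp [alpha_one]) fun i j hi hj => by
      simp only [CharInd.classInner_sub_left, CharInd.classInner_sub_right, hinner,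
        if_neg hi, if_neg (Ne.symm hj), if_pos]
      split_ifs <;> ring
  obtain ⟨z, hz, rfl⟩ : ∃ z : ℤ, (z = 1 ∨ z = -1) ∧ ε = (z : ℂ) := by
    rcases hε with rfl | rfl
    · exact ⟨1, Or.inl rfl, by simp⟩
    · exact ⟨-1, Or.inr rfl, by simp⟩
  let M : Fin t → Cfsg.IrrCharacter G := fun i => ⟨μ i, hμ i⟩
  have hMinj : Function.Injective M := fun i j h => hμinj (congrArg Subtype.val h)
  let δ : Cfsg.IrrCharacter G → Cfsg.IrrCharacter G → ℤ := fun x y => if x = y then 1 else 0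
  have hdiff : ∀ i χ, a i χ - a i₀ χ = z * (δ (M i) χ - δ (M i₀) χ) := by
    intro i χ
    have h := congrArg (fun f => Cfsg.classInner f (χ : G → ℂ)) (hτ i)
    simp only [CharInd.classInner_sub_left, CharInd.classInner_smul_left, ha] at h
    rw [show μ i = (M i : G → ℂ) from rfl, show μ i₀ = (M i₀ : G → ℂ) from rfl,
      Char.classInner_irrCharacter, Char.classInner_irrCharacter] at h
    have h' : ((a i χ - a i₀ χ : ℤ) : ℂ) = ((z * (δ (M i) χ - δ (M i₀) χ) : ℤ) : ℂ) := by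
      simp only [δ]
      push_cast
      exact h
    exact_mod_cast h'
  have hb : ∀ i, i ≠ i₀ → a i₀ (M i) = a i₀ (M i₀) - z := by
    intro i hi
    have h := congrArg (fun f => Cfsg.classInner (alpha P (r i₀)) f) (hτ i)
    simp only [CharInd.classInner_sub_right, CharInd.classInner_smul_right, hinner,
      if_neg (Ne.symm hi), if_pos, map_intCast] at h
    rw [show μ i = (M i : G → ℂ) from rfl, show μ i₀ = (M i₀ : G → ℂ) from rfl, ha, ha] at h
    have h' : (((-1 : ℤ)) : ℂ) = ((z * (a i₀ (M i) - a i₀ (M i₀)) : ℤ) : ℂ) := by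
      push_cast
      rw [← h]
      ring
    have h2 : (-1 : ℤ) = z * (a i₀ (M i) - a i₀ (M i₀)) := by exact_mod_cast h'
    rcases hz with rfl | rfl <;> linarith
  let T : Cfsg.IrrCharacter G := Char.trivialIrr G
  have hTM : ∀ i, M i ≠ T := by
    have hi₀ : M i₀ ≠ T := by
      intro h
      have hne : (⟨1, by omega⟩ : Fin t) ≠ i₀ := by simp [i₀]
      have h1 := hdiff ⟨1, by omega⟩ T
      have hn : M ⟨1, by omega⟩ ≠ T := fun h' => hne (hMinj (h'.trans h.symm))
      simp only [δ, if_pos h, if_neg hn, hT, T] at h1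
      omega
    intro i h
    have h1 := hdiff i T
    simp only [δ, if_pos h, if_neg hi₀, hT, T] at h1
    omega
  set b : ℤ := a i₀ (M i₀) - z with hbdef
  have hz0 : (z : ℂ) ≠ 0 := by rcases hz with rfl | rfl <;> simp
  have hdM : ∀ i, dg (M i) = dg (M i₀) := by
    intro i
    have h := congrFun (hτ i) 1
    simp only [Pi.sub_apply, alpha_one, sub_zero, Pi.smul_apply, smul_eq_mul] at h
    rw [show μ i = (M i : G → ℂ) from rfl, show μ i₀ = (M i₀ : G → ℂ) from rfl, hdg, hdg] at h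
    have := sub_eq_zero.mp ((mul_eq_zero.mp h.symm).resolve_left hz0)
    exact_mod_cast this
  have hvan : ∀ g : G, (∀ y : G, y⁻¹ * g * y ∉ P) → ∀ i,
      (M i : G → ℂ) g = (M i₀ : G → ℂ) g := by
    intro g hg i
    have h := congrFun (hτ i) g
    simp only [Pi.sub_apply, alpha_eq_zero_of_conj_notMem P _ hg, sub_zero, Pi.smul_apply,
      smul_eq_mul] at h
    exact sub_eq_zero.mp ((mul_eq_zero.mp h.symm).resolve_left hz0)
  have hcong : ∀ χ, (p : ℤ) ∣ (dg χ : ℤ) + e * ∑ i, a i χ := by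
    intro χ
    obtain ⟨n, hn⟩ := sum_classInner_alpha P hp hP hC hN χ (hdg χ)
    rw [hrsum (fun l => Cfsg.classInner (alpha P l) (χ : G → ℂ))
      (by simp [alpha, dfun, indFun_zero, Char.classInner_zero_left])
      (fun l m h => alpha_inner_eq_of_rel P h (Char.irr_isClassFunction χ.2))] at hn
    simp only [ha] at hn
    refine ⟨n, ?_⟩
    have : (((e : ℤ) * ∑ i, a i χ : ℤ) : ℂ) = (((p : ℤ) * n - dg χ : ℤ) : ℂ) := by
      push_cast
      exact hn
    have h2 : (e : ℤ) * ∑ i, a i χ = (p : ℤ) * n - dg χ := by exact_mod_cast this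
    linarith
  have hpe : (p : ℤ) - 1 = e * t := by
    have := hp.one_le
    rw [show (e : ℤ) * t = ((e * t : ℕ) : ℤ) by simp, ← ht, Nat.cast_sub this]; simp
  let I : Finset (Cfsg.IrrCharacter G) := Finset.univ.image M
  let S : Finset (Cfsg.IrrCharacter G) :=
    Finset.univ.filter fun χ => χ ≠ T ∧ χ ∉ I ∧ a i₀ χ ≠ 0
  have hTI : T ∉ I ∪ S := by simp [I, S, hTM]
  have hIS : Disjoint I S := Finset.disjoint_left.mpr fun χ h h' => (Finset.mem_filter.mp h').2.2.1 h
  have hfull : ∀ F : Cfsg.IrrCharacter G → ℂ, (∀ χ, a i₀ χ = 0 → F χ = 0) →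
      ∑ χ, F χ = F T + ∑ i, F (M i) + ∑ χ ∈ S, F χ := by
    intro F hF
    rw [← Finset.sum_subset (Finset.subset_univ (insert T (I ∪ S))) fun χ _ hχ => hF χ ?_,
      Finset.sum_insert hTI, Finset.sum_union hIS, Finset.sum_image fun i _ j _ h => hMinj h,
      add_assoc]
    simp only [Finset.mem_insert, Finset.mem_union, S, Finset.mem_filter, Finset.mem_univ,
      true_and, not_or] at hχ
    by_contra h
    exact hχ.2.2 ⟨hχ.1, hχ.2.1, h⟩
  have hMsum : ∀ F : ℤ → ℂ, ∑ i, F (a i₀ (M i)) = F (b + z) + ((t : ℂ) - 1) * F b := by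
    intro F
    rw [← Finset.add_sum_erase _ _ (Finset.mem_univ i₀), show b + z = a i₀ (M i₀) by simp [b]]
    congr 1
    rw [Finset.sum_congr rfl fun i hi => by rw [hb i (Finset.ne_of_mem_erase hi)],
      Finset.sum_const, Finset.card_erase_of_mem (Finset.mem_univ _), Finset.card_univ,
      Fintype.card_fin, nsmul_eq_mul, Nat.cast_sub (by omega : 1 ≤ t)]
    simp [b]
  refine ⟨r i₀, z, b, M, i₀, a i₀, S.toList, ⟨hr1 i₀, hexp i₀⟩, hz, hdM,
    ⟨one_lt_degree hp hG (hTM i₀) (hdg _), ?_⟩, ?_, hvan, ?_, ?_, ?_⟩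
  · have hsum : ∑ i, a i (M i₀) = (t : ℤ) * b + z := by
      have e1 : ∀ i, a i (M i₀) = (if i = i₀ then z else 0) + b := by
        intro i
        have h := hdiff i (M i₀)
        by_cases hi : i = i₀
        · subst hi; simp [b]
        · simp only [δ, if_neg fun h' => hi (hMinj h'), if_pos] at h
          simp only [if_neg hi, b]
          linarith
      simp [e1, Finset.sum_add_distrib, add_comm]
    have h := hcong (M i₀)
    rw [hsum] at h
    obtain ⟨k, hk⟩ := h
    exact ⟨k - b, by linear_combination hk + b * hpe⟩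
  · intro χ hx
    simp only [Finset.mem_toList, S, Finset.mem_filter] at hx
    obtain ⟨-, hχT, hχI, hχ0⟩ := hx
    refine ⟨one_lt_degree hp hG hχT (hdg _), ?_, hχ0⟩
    have hsum : ∑ i, a i χ = (t : ℤ) * a i₀ χ := by
      have e1 : ∀ i, a i χ = a i₀ χ := by
        intro i
        have h := hdiff i χ
        simp only [I, Finset.mem_image, Finset.mem_univ, true_and, not_exists] at hχI
        simp only [δ, if_neg (hχI i), if_neg (hχI i₀)] at h
        linarith
      simp [e1]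
    have h := hcong χ
    rw [hsum] at h
    obtain ⟨k, hk⟩ := h
    exact ⟨k - a i₀ χ, by linear_combination hk + (a i₀ χ) * hpe⟩
  · rw [Finset.sum_map_toList]
    have h := hfull (fun χ => ((a i₀ χ * a i₀ χ : ℤ) : ℂ)) fun χ h => by simp [h]
    rw [hMsum (fun x => ((x * x : ℤ) : ℂ)), ← Int.cast_sum, hnorm, hT] at h
    have h' : (((b + z) ^ 2 + ((t : ℤ) - 1) * b ^ 2 + ∑ χ ∈ S, a i₀ χ ^ 2 : ℤ) : ℂ) = (e : ℤ) := by
      push_cast at h ⊢
      simp only [pow_two]
      linear_combination -h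
    exact_mod_cast h'
  · intro F hF
    rw [hfull (fun χ => (a i₀ χ : ℂ) * F χ) (fun χ h => by simp [h]), Finset.sum_map_toList]
    simp only [hF, hT, T, ← Finset.sum_mul]
    rw [hMsum (fun x => (x : ℂ))]
    push_cast
    ring
  · intro F hF
    rw [Finset.sum_map_toList, add_assoc, ← Finset.sum_image (f := F) fun i _ j _ h => hMinj h,
      ← Finset.sum_union hIS, ← Finset.sum_insert (f := F) hTI]
    exact Finset.sum_le_sum_of_subset_of_nonneg (Finset.subset_univ _) fun χ _ _ => hF χ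

/-- The degree data of the principal series attached to a self-centralizing subgroup of prime
order in a simple group: a sign `ε`, a multiplicity `b`, the common degree `d` of the `t`
exceptional characters and the list of (degree, multiplicity) of the other constituents. -/
theorem exists_degree_data [IsSimpleGroup G] (hG : ¬ IsMulCommutative G) {t : ℕ} (he : 0 < e)
    (ht : p - 1 = e * t) (ht2 : 2 ≤ t) :
    ∃ (ε b : ℤ) (d : ℕ) (L : List (ℕ × ℤ)), (ε = 1 ∨ ε = -1) ∧
      (1 < d ∧ d ∣ Nat.card G ∧ (p : ℤ) ∣ (d : ℤ) - (b - e * ε)) ∧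
      (∀ x ∈ L, 1 < x.1 ∧ x.1 ∣ Nat.card G ∧ (p : ℤ) ∣ (x.1 : ℤ) - x.2 ∧ x.2 ≠ 0) ∧
      (b + ε) ^ 2 + ((t : ℤ) - 1) * b ^ 2 + (L.map fun x => x.2 ^ 2).sum = e ∧
      1 + (b + ε) * d + ((t : ℤ) - 1) * b * d + (L.map fun x => x.2 * (x.1 : ℤ)).sum = 0 ∧
      1 + t * d ^ 2 + (L.map fun x => x.1 ^ 2).sum ≤ Nat.card G := by
  classical
  haveI : Finite (Cfsg.IrrCharacter G) := finite_irrCharacter
  letI : Fintype (Cfsg.IrrCharacter G) := Fintype.ofFinite _
  choose dg hdg0 hdg hdgdvd using fun χ : Cfsg.IrrCharacter G => Char.irr_degree_dvd_card χ.2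
  obtain ⟨l, ε, b, M, i₀, a, L, ⟨hl, hexp⟩, hε, hdM, hd, hL, -, hn, hF, hFle⟩ :=
    exists_char_data P hp hP hC hN hG he ht ht2 dg hdg
  have hdgT : dg (Char.trivialIrr G) = 1 := by
    have h := (hdg (Char.trivialIrr G)).symm.trans
      (show ((Char.trivialIrr G : Cfsg.IrrCharacter G) : G → ℂ) 1 = 1 from rfl)
    exact_mod_cast h
  refine ⟨ε, b, dg (M i₀), L.map fun χ => (dg χ, a χ), hε, ⟨hd.1, hdgdvd _, hd.2⟩, ?_, ?_, ?_, ?_⟩
  · intro x hx
    obtain ⟨χ, hχ, rfl⟩ := List.mem_map.mp hx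
    exact ⟨(hL χ hχ).1, hdgdvd χ, (hL χ hχ).2.1, (hL χ hχ).2.2⟩
  · simpa [List.map_map, Function.comp_def] using hn
  · have h := hF (fun χ => ((dg χ : ℤ) : ℂ)) fun i => by rw [hdM i]
    have h0 := congrFun hexp 1
    rw [alpha_one, Finset.sum_apply] at h0
    simp only [Pi.smul_apply, smul_eq_mul, hdg] at h0
    have h1 : (((1 + (b + ε) * dg (M i₀) + ((t : ℤ) - 1) * b * dg (M i₀) +
        (L.map fun χ => a χ * (dg χ : ℤ)).sum : ℤ)) : ℂ) = ((0 : ℤ) : ℂ) := by
      have hsum : (((L.map fun χ => a χ * (dg χ : ℤ)).sum : ℤ) : ℂ) =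
          (L.map fun χ => (a χ : ℂ) * ((dg χ : ℤ) : ℂ)).sum := by
        rw [Int.cast_list_sum, List.map_map]; congr 2; funext χ; simp
      push_cast at h h0 hsum ⊢
      rw [hsum, h0, h, hdgT]
      push_cast
      ring
    simpa [List.map_map, Function.comp_def] using (Int.cast_inj.mp h1)
  · have htot : ∑ χ : Cfsg.IrrCharacter G, (dg χ : ℝ) ^ 2 = Nat.card G := by
      have h := Char.sum_irr_degree_sq (G := G)
      simp only [hdg] at h
      exact_mod_cast h
    have h := hFle (fun χ => (dg χ : ℝ) ^ 2) fun χ => sq_nonneg _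
    simp only [htot, hdM, hdgT, Finset.sum_const, Finset.card_univ, Fintype.card_fin] at h
    have h' : ((1 + t * dg (M i₀) ^ 2 + (L.map fun χ => dg χ ^ 2).sum : ℕ) : ℝ) ≤
        ((Nat.card G : ℕ) : ℝ) := by
      have hsum : (((L.map fun χ => dg χ ^ 2).sum : ℕ) : ℝ) =
          (L.map fun χ => (dg χ : ℝ) ^ 2).sum := by
        rw [Nat.cast_list_sum, List.map_map]; congr 2; funext χ; simp
      push_cast at hsum ⊢
      rw [hsum]
      simpa using h
    simpa [List.map_map, Function.comp_def] using (Nat.cast_le.mp h')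

/-- The case in which there are many exceptional characters: `b = 0`. -/
theorem exists_degree_data_of_lt [IsSimpleGroup G] (hG : ¬ IsMulCommutative G) {t : ℕ} (he : 0 < e)
    (ht : p - 1 = e * t) (ht2 : e + 2 ≤ t) :
    ∃ (ε : ℤ) (d : ℕ) (L : List (ℕ × ℤ)), (ε = 1 ∨ ε = -1) ∧
      (1 < d ∧ d ∣ Nat.card G ∧ (p : ℤ) ∣ (d : ℤ) + e * ε) ∧
      (∀ x ∈ L, 1 < x.1 ∧ x.1 ∣ Nat.card G ∧ (p : ℤ) ∣ (x.1 : ℤ) - x.2 ∧ x.2 ≠ 0) ∧
      (L.map fun x => x.2 ^ 2).sum = (e : ℤ) - 1 ∧
      1 + ε * d + (L.map fun x => x.2 * (x.1 : ℤ)).sum = 0 ∧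
      1 + t * d ^ 2 + (L.map fun x => x.1 ^ 2).sum ≤ Nat.card G := by
  obtain ⟨ε, b, d, L, hε, ⟨hd1, hd2, hd3⟩, hL, hn, hs, hsq⟩ :=
    exists_degree_data P hp hP hC hN hG he ht (by omega)
  have hb : b = 0 := by
    by_contra hb
    have h1 : 1 ≤ b ^ 2 := by
      have : 0 < b ^ 2 := sq_pos_iff.mpr hb
      omega
    have h2 : 0 ≤ (L.map fun x => x.2 ^ 2).sum := List.sum_nonneg fun x hx => by
      obtain ⟨y, -, rfl⟩ := List.mem_map.mp hx
      exact sq_nonneg _
    have h3 : ((e : ℤ) + 1) * 1 ≤ ((t : ℤ) - 1) * b ^ 2 :=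
      mul_le_mul (by omega) h1 zero_le_one (by omega)
    nlinarith [sq_nonneg (b + ε)]
  subst hb
  refine ⟨ε, d, L, hε, ⟨hd1, hd2, ?_⟩, hL, ?_, ?_, hsq⟩
  · simpa using hd3
  · rcases hε with rfl | rfl <;> norm_num at hn <;> linarith
  · simpa using hs

end prime

end Cfsg.Agent.SmallGroups.Exceptional

namespace Cfsg.Agent.SmallGroups

/-- Degree data for a simple group in which the Sylow `p`-subgroup has order `p`, is
self-centralizing and has normalizer of order `p * e`; the last two facts are forced by arithmetic. -/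
theorem exists_degree_data_sylow {G : Type*} [Group G] [Fintype G] [IsSimpleGroup G]
    (hG : ¬ IsMulCommutative G) {p m e t : ℕ} [hp : Fact p.Prime] (h : Nat.card G = p * m)
    (hm : ¬ p ∣ m)
    (hopt : ∀ n ∈ m.divisors.filter (fun a => a % p = 1 ∧ 1 < a),
      ∀ k ∈ (p - 1).divisors.filter (fun a => 1 < a), n * k ∣ m → k = e ∧ n * k = m)
    (he : 0 < e) (ht : p - 1 = e * t) (ht2 : e + 2 ≤ t) :
    ∃ (ε : ℤ) (d : ℕ) (L : List (ℕ × ℤ)), (ε = 1 ∨ ε = -1) ∧
      (1 < d ∧ d ∣ Nat.card G ∧ (p : ℤ) ∣ (d : ℤ) + e * ε) ∧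
      (∀ x ∈ L, 1 < x.1 ∧ x.1 ∣ Nat.card G ∧ (p : ℤ) ∣ (x.1 : ℤ) - x.2 ∧ x.2 ≠ 0) ∧
      (L.map fun x => x.2 ^ 2).sum = (e : ℤ) - 1 ∧
      1 + ε * d + (L.map fun x => x.2 * (x.1 : ℤ)).sum = 0 ∧
      1 + t * d ^ 2 + (L.map fun x => x.1 ^ 2).sum ≤ Nat.card G := by
  obtain ⟨n, k, c, -, hn, hk, hnkc, hP, hC, hN⟩ := exists_primeSylow_data hG h hm
  obtain ⟨hke, hnk⟩ := hopt n hn k hk ⟨c, by rw [← hnkc, mul_assoc]⟩
  have hc : c = 1 := by
    have h0 : 0 < m := Nat.pos_of_ne_zero fun h0 => hm (h0 ▸ dvd_zero p)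
    refine Nat.eq_of_mul_eq_mul_left h0 ?_
    rw [mul_one, ← hnk, mul_assoc, hnkc, hnk]
  subst hke hc
  obtain ⟨P⟩ := (inferInstance : Nonempty (Sylow p G))
  exact Exceptional.exists_degree_data_of_lt (P : Subgroup G) hp.out (hP P)
    (by rw [hC P, mul_one]) (by rw [hN P, mul_one]) hG he ht ht2

/-- A list of integer pairs whose squared second components add up to one. -/
theorem list_sq_sum_one {L : List (ℕ × ℤ)} (h0 : ∀ x ∈ L, x.2 ≠ 0)
    (h : (L.map fun x => x.2 ^ 2).sum = 1) : ∃ f a, L = [(f, a)] ∧ (a = 1 ∨ a = -1) := by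
  rcases L with _ | ⟨⟨f, a⟩, L⟩
  · simp at h
  have ha : 1 ≤ a ^ 2 := by
    have : 0 < a ^ 2 := sq_pos_iff.mpr (h0 (f, a) List.mem_cons_self)
    omega
  rcases L with _ | ⟨⟨g, b⟩, L⟩
  · exact ⟨f, a, rfl, sq_eq_one_iff.mp (by simpa using h)⟩
  · have hb : 1 ≤ b ^ 2 := by
      have : 0 < b ^ 2 := sq_pos_iff.mpr (h0 (g, b) (by simp))
      omega
    have : 0 ≤ (L.map fun x => x.2 ^ 2).sum := List.sum_nonneg fun x hx => by
      obtain ⟨y, -, rfl⟩ := List.mem_map.mp hx
      exact sq_nonneg _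
    simp only [List.map_cons, List.sum_cons] at h
    omega

/-- A list of integer pairs whose squared second components add up to two. -/
theorem list_sq_sum_two {L : List (ℕ × ℤ)} (h0 : ∀ x ∈ L, x.2 ≠ 0)
    (h : (L.map fun x => x.2 ^ 2).sum = 2) :
    ∃ f a g b, L = [(f, a), (g, b)] ∧ (a = 1 ∨ a = -1) ∧ (b = 1 ∨ b = -1) := by
  rcases L with _ | ⟨⟨f, a⟩, L⟩
  · simp at h
  have h1 : ∀ x ∈ L, x.2 ≠ 0 := fun x hx => h0 x (List.mem_cons_of_mem _ hx)
  simp only [List.map_cons, List.sum_cons] at h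
  have ha : 1 ≤ a ^ 2 := by
    have : 0 < a ^ 2 := sq_pos_iff.mpr (h0 (f, a) List.mem_cons_self)
    omega
  have hnn : 0 ≤ (L.map fun x => x.2 ^ 2).sum := List.sum_nonneg fun x hx => by
    obtain ⟨y, -, rfl⟩ := List.mem_map.mp hx
    exact sq_nonneg _
  have hsq : a ^ 2 = 1 := by
    have ha2 : a ^ 2 ≤ 2 := by omega
    have h3 : -2 < a := by nlinarith
    have h4 : a < 2 := by nlinarith
    interval_cases a <;> simp_all
  rw [hsq] at h
  obtain ⟨g, b, rfl, hb⟩ := list_sq_sum_one h1 (by omega)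
  exact ⟨f, a, g, b, rfl, sq_eq_one_iff.mp hsq, hb⟩

end Cfsg.Agent.SmallGroups
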