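import Cfsg.Agent.Char.Basic
import Cfsg.Agent.Char.Kernel
import Cfsg.Agent.Char.Orthogonality

/-!
# Fixed spaces of subgroups in a representation

Dimensions of fixed spaces are averages of the character, decrease along inclusions, and control
subgroups generated by two subgroups with a common fixed vector.
-/

set_option autoImplicit false
set_option linter.style.haveILetI false
set_option linter.unusedSectionVars false

noncomputable section

open scoped Pointwise

namespace Cfsg.Agent.SmallGroups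

open Module

universe u

variable {G : Type u} [Group G] [Finite G] {V : Type*} [AddCommGroup V] [Module ℂ V]
  [FiniteDimensional ℂ V] (ρ : Representation ℂ G V)

/-- The vectors fixed by a subgroup. -/
def fixedSpace (H : Subgroup G) : Submodule ℂ V :=
  Representation.invariants (ρ.comp H.subtype : Representation ℂ H V)

theorem mem_fixedSpace {H : Subgroup G} {v : V} :
    v ∈ fixedSpace ρ H ↔ ∀ h ∈ H, ρ h v = v :=
  ⟨fun hv h hh => hv ⟨h, hh⟩, fun hv h => hv h h.2⟩

/-- The dimension of the fixed space. -/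
def fixDim (H : Subgroup G) : ℕ := finrank ℂ (fixedSpace ρ H)

theorem fixedSpace_anti {H K : Subgroup G} (h : H ≤ K) : fixedSpace ρ K ≤ fixedSpace ρ H :=
  fun _ hv => (mem_fixedSpace ρ).2 fun x hx => (mem_fixedSpace ρ).1 hv x (h hx)

theorem fixDim_anti {H K : Subgroup G} (h : H ≤ K) : fixDim ρ K ≤ fixDim ρ H :=
  Submodule.finrank_mono (fixedSpace_anti ρ h)

theorem fixDim_le (H : Subgroup G) : fixDim ρ H ≤ finrank ℂ V := Submodule.finrank_le _

theorem sum_character_eq (H : Subgroup G) [Fintype H] :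
    ∑ h : H, ρ.character (h : G) = (Nat.card H : ℂ) * fixDim ρ H := by
  have hN : (Fintype.card H : ℂ) ≠ 0 := Nat.cast_ne_zero.2 Fintype.card_ne_zero
  haveI : Invertible (Fintype.card H : ℂ) := invertibleOfNonzero hN
  have h := (Representation.isProj_averageMap (ρ.comp H.subtype : Representation ℂ H V)).trace
  have h' : (Fintype.card H : ℂ)⁻¹ * ∑ x : H, ρ.character (x : G) = (fixDim ρ H : ℂ) := by
    rw [fixDim, fixedSpace, ← h]
    simp [Representation.averageMap, GroupAlgebra.average, map_sum, invOf_eq_inv,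
      Representation.character]
  rw [Nat.card_eq_fintype_card, ← h', mul_inv_cancel_left₀ hN]

theorem fixDim_bot : fixDim ρ (⊥ : Subgroup G) = finrank ℂ V := by
  have : fixedSpace ρ (⊥ : Subgroup G) = ⊤ := by
    rw [eq_top_iff]
    intro v _
    rw [mem_fixedSpace]
    intro h hh
    rw [Subgroup.mem_bot.1 hh, map_one]
    rfl
  rw [fixDim, this, finrank_top]

/-- The fixed space of a product with a subgroup all of whose non-trivial cosets have constant
character. -/
theorem card_mul_fixDim_sup (P K : Subgroup G) (hKN : K ≤ Subgroup.normalizer (P : Set G))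
    (hdisj : Disjoint P K)
    (hconj : ∀ k ∈ K, k ≠ 1 → ∀ y ∈ P, ρ.character (y * k) = ρ.character k) :
    Nat.card K * fixDim ρ (P ⊔ K) + finrank ℂ V = fixDim ρ P + Nat.card K * fixDim ρ K := by
  classical
  letI := Fintype.ofFinite P
  letI := Fintype.ofFinite K
  letI := Fintype.ofFinite ↥(P ⊔ K)
  have hmem : ∀ z : P × K, (z.1 : G) * z.2 ∈ P ⊔ K := fun z =>
    Subgroup.mul_mem _ (Subgroup.mem_sup_left z.1.2) (Subgroup.mem_sup_right z.2.2)
  let f : P × K → ↥(P ⊔ K) := fun z => ⟨(z.1 : G) * z.2, hmem z⟩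
  have hf : Function.Bijective f := by
    refine ⟨fun a b h => Subgroup.mul_injective_of_disjoint hdisj (congrArg Subtype.val h), ?_⟩
    rintro ⟨x, hx⟩
    have hx' : x ∈ (P : Set G) * (K : Set G) := by
      rw [← Subgroup.coe_mul_of_right_le_normalizer_left P K hKN]; exact hx
    obtain ⟨a, ha, b, hb, rfl⟩ := hx'
    exact ⟨(⟨a, ha⟩, ⟨b, hb⟩), rfl⟩
  have hcard : Nat.card ↥(P ⊔ K) = Nat.card P * Nat.card K := by
    rw [← Nat.card_prod]; exact (Nat.card_congr (Equiv.ofBijective f hf)).symm
  have hPsum := sum_character_eq ρ P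
  have hKsum := sum_character_eq ρ K
  have h := sum_character_eq ρ (P ⊔ K)
  rw [← (Equiv.ofBijective f hf).sum_comp, Fintype.sum_prod_type_right, hcard,
    ← Finset.add_sum_erase _ _ (Finset.mem_univ (1 : K))] at h
  rw [← Finset.add_sum_erase _ _ (Finset.mem_univ (1 : K))] at hKsum
  simp only [Equiv.ofBijective_apply, f, OneMemClass.coe_one, mul_one] at h
  rw [hPsum] at h
  rw [Finset.sum_congr rfl (g := fun k : K => (Nat.card P : ℂ) * ρ.character (k : G))
    (fun k hk => by
      rw [Finset.sum_congr rfl (g := fun _ : P => ρ.character (k : G)) (fun (y : P) _ => hconj k k.2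
        (fun e => (Finset.mem_erase.1 hk).1 (Subtype.ext e)) (y : G) y.2), Finset.sum_const,
        Finset.card_univ, nsmul_eq_mul, Nat.card_eq_fintype_card]), ← Finset.mul_sum] at h
  simp only [OneMemClass.coe_one, ρ.char_one] at hKsum
  push_cast at h
  have hP : (Nat.card P : ℂ) ≠ 0 := Nat.cast_ne_zero.2 Nat.card_pos.ne'
  apply Nat.cast_injective (R := ℂ)
  push_cast
  apply mul_left_cancel₀ hP
  linear_combination -h + (Nat.card P : ℂ) * hKsum

/-- The stabiliser of a vector. -/
def vecStab (v : V) : Subgroup G where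
  carrier := {g | ρ g v = v}
  one_mem' := by simp
  mul_mem' {a b} (ha : ρ a v = v) (hb : ρ b v = v) := by
    show ρ (a * b) v = v
    rw [map_mul, Module.End.mul_apply, hb, ha]
  inv_mem' {a} (ha : ρ a v = v) := by
    show ρ a⁻¹ v = v
    conv_lhs => rw [← ha]
    rw [← Module.End.mul_apply, ← map_mul, inv_mul_cancel, map_one]
    rfl

theorem mem_vecStab {v : V} {g : G} : g ∈ vecStab ρ v ↔ ρ g v = v := Iff.rfl

/-- If `B` fixes a vector and `D` fixes as much as their common subgroup, they generate a proper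
subgroup. -/
theorem exists_ne_top_of_fixDim [Fintype G] (hsum : ∑ g : G, ρ.character g = 0)
    {B C D : Subgroup G} (hCB : C ≤ B) (hCD : C ≤ D) (hB : fixDim ρ B ≠ 0)
    (hD : fixDim ρ C ≤ fixDim ρ D) : ∃ H : Subgroup G, H ≠ ⊤ ∧ B ≤ H ∧ D ≤ H := by
  classical
  have hne : fixedSpace ρ B ≠ ⊥ := fun h => hB (by rw [fixDim, h, finrank_bot])
  obtain ⟨v, hv, hv0⟩ := Submodule.exists_mem_ne_zero_of_ne_bot hne
  have heq : fixedSpace ρ D = fixedSpace ρ C :=
    Submodule.eq_of_le_of_finrank_le (fixedSpace_anti ρ hCD) hD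
  have hvD : v ∈ fixedSpace ρ D := heq ▸ fixedSpace_anti ρ hCB hv
  refine ⟨vecStab ρ v, fun htop => ?_, fun b hb => (mem_fixedSpace ρ).1 hv b hb,
    fun b hb => (mem_fixedSpace ρ).1 hvD b hb⟩
  have hvtop : v ∈ fixedSpace ρ (⊤ : Subgroup G) :=
    (mem_fixedSpace ρ).2 fun g _ => (mem_vecStab ρ).1 (htop ▸ Subgroup.mem_top g)
  letI := Fintype.ofFinite ↥(⊤ : Subgroup G)
  have h := sum_character_eq ρ (⊤ : Subgroup G)
  rw [← (Subgroup.topEquiv (G := G)).symm.toEquiv.sum_comp] at h
  simp only [MulEquiv.toEquiv_eq_coe, EquivLike.coe_coe, Subgroup.topEquiv_symm_apply_coe] at h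
  rw [hsum, eq_comm, mul_eq_zero] at h
  rcases h with h | h
  · exact Nat.card_pos.ne' (Nat.cast_eq_zero.1 h)
  · have h0 : fixedSpace ρ (⊤ : Subgroup G) = ⊥ :=
      Submodule.finrank_eq_zero.1 (Nat.cast_eq_zero.1 h)
    rw [h0, Submodule.mem_bot] at hvtop
    exact hv0 hvtop

end Cfsg.Agent.SmallGroups
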